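import Groth.Agent.L14.Smoothing.SymAlg
import Mathlib.RingTheory.Smooth.StandardSmoothOfFree
import Mathlib.RingTheory.Etale.Kaehler
import Mathlib.RingTheory.Localization.Away.Basic
import Mathlib.RingTheory.Nakayama
import Mathlib.LinearAlgebra.TensorProduct.Basis

/-!
A smooth algebra is a retract of a standard smooth one.
-/

set_option autoImplicit false
set_option linter.style.haveILetI false

noncomputable section

open TensorProduct SymmetricAlgebra KaehlerDifferential

namespace Groth.L14.Smoothing.StdRetract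

universe u

/-- A map that is bijective modulo an ideal is an isomorphism up to an element congruent to one. -/
theorem exists_quasiInverse {C M N : Type u} [CommRing C] [AddCommGroup M] [Module C M] [Module.Finite C M]
    [AddCommGroup N] [Module C N] [Module.Finite C N] [Module.Projective C N] (K : Ideal C) (ε : M →ₗ[C] N)
    (hs : (⊤ : Submodule C N) ≤ LinearMap.range ε ⊔ K • ⊤)
    (hi : ∀ x, ε x ∈ K • (⊤ : Submodule C N) → x ∈ K • (⊤ : Submodule C M)) :
    ∃ h : C, h - 1 ∈ K ∧ ∃ s : N →ₗ[C] M, (∀ n, ε (s n) = h • n) ∧ ∀ x, s (ε x) = h • x := by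
  have hQ : (⊤ : Submodule C (N ⧸ LinearMap.range ε)) ≤ K • ⊤ := by
    intro z _
    obtain ⟨z, rfl⟩ := Submodule.mkQ_surjective _ z
    obtain ⟨a, ha, b, hb, rfl⟩ := Submodule.mem_sup.mp (hs (Submodule.mem_top (x := z)))
    rw [map_add, Submodule.mkQ_apply, (Submodule.Quotient.mk_eq_zero _).mpr ha, zero_add]
    have hb' := Submodule.mem_map_of_mem (f := (LinearMap.range ε).mkQ) hb
    rw [Submodule.map_smul''] at hb'
    exact Submodule.smul_mono le_rfl le_top hb'
  obtain ⟨h₁, hh₁, hkill⟩ := Submodule.exists_sub_one_mem_and_smul_eq_zero_of_fg_of_le_smul K ⊤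
    Module.Finite.fg_top hQ
  have hmem : ∀ n, h₁ • n ∈ LinearMap.range ε := fun n => by
    rw [← Submodule.Quotient.mk_eq_zero, Submodule.Quotient.mk_smul]
    exact hkill _ trivial
  obtain ⟨s, hs'⟩ := Module.projective_lifting_property ε.rangeRestrict
    (((h₁ • LinearMap.id : N →ₗ[C] N)).codRestrict (LinearMap.range ε) hmem) ε.surjective_rangeRestrict
  have hεs : ∀ n, ε (s n) = h₁ • n := fun n => congrArg Subtype.val (LinearMap.congr_fun hs' n)
  let u : M →ₗ[C] M := h₁ • LinearMap.id - s ∘ₗ ε
  have hu : ∀ x, ε (u x) = 0 := fun x => by simp [u, hεs, map_smul]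
  have hle : LinearMap.range u ≤ K • LinearMap.range u := by
    rintro _ ⟨x, rfl⟩
    have h1 : u x ∈ K • (⊤ : Submodule C M) := hi _ (by rw [hu]; exact zero_mem _)
    have h2 : h₁ • u x ∈ K • LinearMap.range u := by
      have h3 : u (u x) = h₁ • u x := by
        show h₁ • u x - s (ε (u x)) = _
        rw [hu, map_zero, sub_zero]
      rw [← h3, LinearMap.range_eq_map, ← Submodule.map_smul'']
      exact Submodule.mem_map_of_mem h1
    have h4 : (h₁ - 1) • u x ∈ K • LinearMap.range u := Submodule.smul_mem_smul hh₁ ⟨x, rfl⟩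
    have h5 := sub_mem h2 h4
    rwa [sub_smul, one_smul, sub_sub_cancel] at h5
  obtain ⟨h₂, hh₂, hk₂⟩ := Submodule.exists_sub_one_mem_and_smul_eq_zero_of_fg_of_le_smul K
    (LinearMap.range u) (by
      rw [LinearMap.range_eq_map]
      exact Module.Finite.fg_top.map u) hle
  refine ⟨h₂ * h₁, ?_, h₂ • s, fun n => by simp [map_smul, hεs, mul_smul], fun x => ?_⟩
  · rw [show h₂ * h₁ - 1 = h₂ * (h₁ - 1) + (h₂ - 1) by ring]
    exact add_mem (K.mul_mem_left _ hh₁) hh₂
  · have h1 := hk₂ (u x) ⟨x, rfl⟩
    simp only [u, LinearMap.sub_apply, LinearMap.smul_apply, LinearMap.id_apply, LinearMap.comp_apply,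
      smul_sub, sub_eq_zero] at h1
    rw [LinearMap.smul_apply, ← h1, mul_smul]

/-- If exact differentials form a basis up to `h`, then `C[1/h]` is standard smooth. -/
theorem isStandardSmooth_away {R C B : Type u} [CommRing R] [CommRing C] [Algebra R C] [CommRing B]
    [Algebra R B] [Algebra C B] [IsScalarTower R C B] (h : C) [IsLocalization.Away h B]
    [Algebra.Smooth R B] {m : ℕ} (f : Fin m → C) (s : Ω[C⁄R] →ₗ[C] (Fin m → C))
    (h1 : ∀ n, Fintype.linearCombination C (fun k => D R C (f k)) (s n) = h • n)
    (h2 : ∀ x, s (Fintype.linearCombination C (fun k => D R C (f k)) x) = h • x) :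
    Algebra.IsStandardSmooth R B := by
  haveI : Algebra.FormallyEtale C B := Algebra.FormallyEtale.of_isLocalization (Submonoid.powers h)
  set ε := Fintype.linearCombination C (fun k => D R C (f k))
  have hu : IsUnit (algebraMap C B h) := IsLocalization.Away.algebraMap_isUnit h
  have hbij : Function.Bijective (ε.baseChange B) := by
    have e1 : ∀ z, ε.baseChange B (s.baseChange B z) = algebraMap C B h • z := fun z => by
      induction z using TensorProduct.induction_on with
      | zero => simp
      | tmul b n => rw [LinearMap.baseChange_tmul, LinearMap.baseChange_tmul, h1, TensorProduct.tmul_smul, algebraMap_smul]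
      | add x y hx hy => simp [map_add, hx, hy]
    have e2 : ∀ z, s.baseChange B (ε.baseChange B z) = algebraMap C B h • z := fun z => by
      induction z using TensorProduct.induction_on with
      | zero => simp
      | tmul b n => rw [LinearMap.baseChange_tmul, LinearMap.baseChange_tmul, h2, TensorProduct.tmul_smul, algebraMap_smul]
      | add x y hx hy => simp [map_add, hx, hy]
    refine ⟨fun x y hxy => ?_, fun z => ⟨s.baseChange B ((↑hu.unit⁻¹ : B) • z), ?_⟩⟩
    · have h3 := congrArg (s.baseChange B) hxy
      rwa [e2, e2, hu.smul_left_cancel] at h3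
    · rw [e1, smul_smul, IsUnit.mul_val_inv, one_smul]
  let b : Module.Basis (Fin m) B Ω[B⁄R] := ((Pi.basisFun C (Fin m)).baseChange B).map
    ((LinearEquiv.ofBijective _ hbij).trans (tensorKaehlerEquivOfFormallyEtale R C B))
  refine Algebra.IsStandardSmooth.of_basis_kaehlerDifferential b ?_
  rintro _ ⟨k, rfl⟩
  refine ⟨algebraMap C B (f k), ?_⟩
  simp [b, ε, tensorKaehlerEquivOfFormallyEtale_apply, mapBaseChange_tmul, Fintype.linearCombination_apply,
    Pi.single_apply, ite_smul]

variable {R A : Type u} [CommRing R] [CommRing A] [Algebra R A]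

theorem exists_retract [Algebra.Smooth R A] :
    ∃ (B : Type u) (_ : CommRing B) (_ : Algebra R B) (_ : Algebra A B) (_ : IsScalarTower R A B),
      Algebra.Smooth A B ∧ Nonempty (B →ₐ[A] A) ∧ Algebra.IsStandardSmooth R B := by
  classical
  obtain ⟨m, π, hπ⟩ := Algebra.FiniteType.iff_quotient_mvPolynomial''.mp
    (inferInstance : Algebra.FiniteType R A)
  let y : Fin m → A := fun k => π (MvPolynomial.X k)
  let lc : (Fin m → A) →ₗ[A] Ω[A⁄R] := Fintype.linearCombination A fun k => D R A (y k)
  have hlc : Function.Surjective lc := by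
    rw [← LinearMap.range_eq_top, eq_top_iff, ← span_range_derivation, Submodule.span_le]
    rintro _ ⟨a, rfl⟩
    obtain ⟨p, rfl⟩ := hπ a
    induction p using MvPolynomial.induction_on with
    | C r => simp
    | add p q hp hq => rw [map_add, map_add]; exact add_mem hp hq
    | mul_X p k hp =>
      rw [map_mul, Derivation.leibniz]
      exact add_mem (Submodule.smul_mem _ _ ⟨Pi.single k 1, by simp [lc, y]⟩) (Submodule.smul_mem _ _ hp)
  obtain ⟨σ, hσ⟩ := Module.projective_lifting_property lc LinearMap.id hlc
  have hσ' : ∀ ω, lc (σ ω) = ω := fun ω => LinearMap.congr_fun hσ ω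
  let Q : Submodule A (Fin m → A) := LinearMap.ker lc
  let pr : (Fin m → A) →ₗ[A] Q := (LinearMap.id - σ ∘ₗ lc).codRestrict Q fun c => by
    simp [Q, hσ']
  have hpr : ∀ q : Q, pr q = q := fun q => Subtype.ext (by
    show (q : Fin m → A) - σ (lc q) = q
    rw [show lc (q : Fin m → A) = 0 from q.2, map_zero, sub_zero])
  haveI : Module.Finite A Q := Module.Finite.of_surjective pr fun q => ⟨q, hpr q⟩
  haveI : Module.Projective A Q := Module.Projective.of_split Q.subtype pr (LinearMap.ext hpr)
  let C := SymmetricAlgebra A Q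
  haveI : Algebra.Smooth R C := Algebra.Smooth.comp R A C
  let ρ : C →ₐ[A] A := SymmetricAlgebra.algebraMapInv
  let K : Ideal C := RingHom.ker ρ
  have hιK : ∀ q, ι A Q q ∈ K := fun q => algebraMapInv_ι q
  let ek : Fin m → (Fin m → A) := fun k => Pi.single k 1
  let f : Fin m → C := fun k => algebraMap A C (y k) + ι A Q (pr (ek k))
  let ε := Fintype.linearCombination C fun k => D R C (f k)
  have hcong : ∀ c : Fin m → A, ε (fun k => algebraMap A C (c k)) -
      (KaehlerDifferential.map R R A C (lc c) + D R C (ι A Q (pr c))) ∈ K • (⊤ : Submodule C Ω[C⁄R]) := by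
    intro c
    have h2 : D R C (ι A Q (pr c)) = ∑ k, (algebraMap A C (c k) • D R C (ι A Q (pr (ek k))) +
        ι A Q (pr (ek k)) • D R C (algebraMap A C (c k))) := by
      conv_lhs => rw [pi_eq_sum_univ' c]
      rw [map_sum, map_sum, map_sum]
      refine Finset.sum_congr rfl fun k _ => ?_
      rw [map_smul, map_smul, Algebra.smul_def, Derivation.leibniz]
    have h1 : KaehlerDifferential.map R R A C (lc c) =
        ∑ k, algebraMap A C (c k) • D R C (algebraMap A C (y k)) := by
      simp [lc, Fintype.linearCombination_apply, map_sum, map_smul, algebraMap_smul]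
    rw [h1, h2, show ε (fun k => algebraMap A C (c k)) =
        ∑ k, algebraMap A C (c k) • D R C (f k) from Fintype.linearCombination_apply C _ _,
      ← Finset.sum_add_distrib, ← Finset.sum_sub_distrib]
    refine Submodule.sum_mem _ fun k _ => ?_
    simp only [f, map_add, smul_add]
    rw [← add_assoc, sub_add_cancel_left]
    exact neg_mem (Submodule.smul_mem_smul (hιK _) trivial)
  have hs : (⊤ : Submodule C Ω[C⁄R]) ≤ LinearMap.range ε ⊔ K • ⊤ := by
    rw [← span_range_derivation, Submodule.span_le]
    rintro _ ⟨x, rfl⟩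
    rw [span_range_derivation]
    induction x using SymmetricAlgebra.induction with
    | algebraMap a =>
      have hc := hcong (σ (D R A a))
      have hp0 : pr (σ (D R A a)) = 0 := Subtype.ext (by
        show σ (D R A a) - σ (lc (σ (D R A a))) = 0
        rw [hσ', sub_self])
      rw [hσ', hp0, map_zero, map_zero, add_zero, KaehlerDifferential.map_D] at hc
      exact Submodule.mem_sup.mpr ⟨_, ⟨fun k => algebraMap A C (σ (D R A a) k), rfl⟩, _, neg_mem hc, by abel⟩
    | ι q =>
      have hc := hcong (q : Fin m → A)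
      rw [show lc (q : Fin m → A) = 0 from q.2, map_zero, zero_add, hpr] at hc
      exact Submodule.mem_sup.mpr ⟨_, ⟨fun k => algebraMap A C ((q : Fin m → A) k), rfl⟩, _, neg_mem hc, by abel⟩
    | mul x z hx hz =>
      rw [SetLike.mem_coe, Derivation.leibniz]
      exact add_mem (Submodule.smul_mem _ _ hz) (Submodule.smul_mem _ _ hx)
    | add x z hx hz =>
      rw [SetLike.mem_coe, map_add]
      exact add_mem hx hz
  have hi : ∀ x, ε x ∈ K • (⊤ : Submodule C Ω[C⁄R]) → x ∈ K • (⊤ : Submodule C (Fin m → C)) := by
    letI : Module C (Fin m → A) := Module.compHom _ ρ.toRingHom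
    haveI : IsScalarTower A C (Fin m → A) := ⟨fun a c v => by
      show ρ (a • c) • v = a • ρ c • v
      rw [map_smul, smul_assoc]⟩
    haveI : IsScalarTower R C (Fin m → A) := ⟨fun r c v => by
      show ρ (r • c) • v = r • ρ c • v
      rw [AlgHom.map_smul_of_tower, smul_assoc]⟩
    obtain ⟨Dd, hDa, hDq, hD, hDR⟩ := SymAlg.exists_derivation (R := R) (A := A) (Q := Q) (M := Fin m → A)
      ((σ ∘ₗ (LinearMap.id : Ω[A⁄R] →ₗ[A] Ω[A⁄R])).toAddMonoidHom.comp (D R A).toLinearMap.toAddMonoidHom)
      (fun a b => by simp [Derivation.leibniz, map_add, map_smul])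
      (fun r => by simp)
      Q.subtype.toAddMonoidHom (fun a q => by
        show a • (q : Fin m → A) = a • (q : Fin m → A) + ρ (ι A Q q) • _
        rw [show ρ (ι A Q q) = 0 from hιK q, zero_smul, add_zero])
    let δ : Derivation R C (Fin m → A) :=
      { toFun := Dd
        map_add' := Dd.map_add
        map_smul' := fun r x => by
          rw [Algebra.smul_def, hD, RingHom.id_apply, IsScalarTower.algebraMap_apply R A C, hDR, smul_zero,
            add_zero, algebraMap_smul, algebraMap_smul]
        map_one_eq_zero' := by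
          show Dd 1 = 0
          have h := hDR 1
          rwa [map_one, map_one] at h
        leibniz' := hD }
    intro x hx
    have hθK : ∀ z ∈ K • (⊤ : Submodule C Ω[C⁄R]), δ.liftKaehlerDifferential z = 0 := by
      intro z hz
      refine Submodule.smul_induction_on hz (fun c hc z _ => ?_) (fun z w hz hw => by rw [map_add, hz, hw, add_zero])
      rw [map_smul]
      show ρ c • δ.liftKaehlerDifferential z = 0
      rw [show ρ c = 0 from hc, zero_smul]
    have hδf : ∀ k, δ (f k) = ek k := fun k => by
      show Dd (f k) = ek k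
      rw [map_add, hDa, hDq]
      show σ (D R A (y k)) + (ek k - σ (lc (ek k))) = ek k
      rw [show lc (ek k) = D R A (y k) by simp [lc, ek], add_sub_cancel]
    have hθ : δ.liftKaehlerDifferential (ε x) = fun k => ρ (x k) := by
      simp only [ε, Fintype.linearCombination_apply, map_sum, map_smul, Derivation.liftKaehlerDifferential_comp_D,
        hδf]
      funext j
      rw [Finset.sum_apply]
      show ∑ c, ρ (x c) * ek c j = ρ (x j)
      simp [ek, Pi.single_apply]
    have hx0 : ∀ k, x k ∈ K := fun k => congrFun (hθ.symm.trans (hθK _ hx)) k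
    rw [pi_eq_sum_univ' x]
    exact Submodule.sum_mem _ fun k _ => Submodule.smul_mem_smul (hx0 k) trivial
  haveI : Module.Finite C Ω[C⁄R] := inferInstance
  obtain ⟨h, hh, s, hs1, hs2⟩ := exists_quasiInverse K ε hs hi
  have hρh : IsUnit (ρ h) := by
    have h0 : ρ h - 1 = 0 := by simpa [K] using hh
    rw [sub_eq_zero.mp h0]
    exact isUnit_one
  let B := Localization.Away h
  haveI : Algebra.Smooth C B := Algebra.Smooth.of_isLocalization_Away h
  haveI : Algebra.Smooth R B := Algebra.Smooth.comp R C B
  haveI hAB : Algebra.Smooth A B := Algebra.Smooth.comp A C B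
  refine ⟨B, inferInstance, inferInstance, inferInstance, IsScalarTower.of_algebraMap_eq fun r => ?_, hAB,
    ⟨IsLocalization.liftAlgHom (M := Submonoid.powers h) (f := ρ) (fun ⟨z, n, hn⟩ => ?_)⟩,
    isStandardSmooth_away h f s hs1 hs2⟩
  · rw [IsScalarTower.algebraMap_apply R C B, IsScalarTower.algebraMap_apply R A C,
      ← IsScalarTower.algebraMap_apply A C B]
  · subst hn
    show IsUnit (ρ (h ^ n))
    rw [map_pow]
    exact hρh.pow n

end Groth.L14.Smoothing.StdRetract
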