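import Mathlib.LinearAlgebra.SymmetricAlgebra.Basic
import Mathlib.Algebra.TrivSqZeroExt.Basic
import Mathlib.RingTheory.Smooth.Basic
import Mathlib.RingTheory.Kaehler.Basic
import Mathlib.Algebra.Module.Projective
import Mathlib.RingTheory.Finiteness.Projective
import Mathlib.RingTheory.FinitePresentation

/-!
Symmetric algebras of finite projective modules: smoothness and derivations.
-/

set_option autoImplicit false
set_option linter.style.haveILetI false

noncomputable section

open TensorProduct SymmetricAlgebra KaehlerDifferential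

namespace Groth.L14.Smoothing.SymAlg

universe u

variable {A Q : Type u} [CommRing A] [AddCommGroup Q] [Module A Q]

/-- Universal property with respect to ring maps. -/
theorem exists_ringHom {T : Type u} [CommRing T] (φ : A →+* T) (l : Q →+ T)
    (hl : ∀ (a : A) (q : Q), l (a • q) = φ a * l q) :
    ∃ Φ : SymmetricAlgebra A Q →+* T,
      (∀ a, Φ (algebraMap A _ a) = φ a) ∧ ∀ q, Φ (ι A Q q) = l q := by
  letI : Algebra A T := φ.toAlgebra
  let g : Q →ₗ[A] T :=
    { toFun := l
      map_add' := l.map_add
      map_smul' := fun a q => (hl a q).trans (Algebra.smul_def a (l q)).symm }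
  exact ⟨(SymmetricAlgebra.lift g).toRingHom, fun a => (SymmetricAlgebra.lift g).commutes a,
    fun q => lift_ι_apply g q⟩

/-- A derivation of the base extends to the symmetric algebra once its values on generators are fixed. -/
theorem exists_derivation {R M : Type u} [CommRing R] [Algebra R A] [AddCommGroup M]
    [Module (SymmetricAlgebra A Q) M] [Module A M] [IsScalarTower A (SymmetricAlgebra A Q) M]
    (δ : A →+ M) (hδ : ∀ a b, δ (a * b) = a • δ b + b • δ a) (hδR : ∀ r : R, δ (algebraMap R A r) = 0)
    (l : Q →+ M) (hl : ∀ (a : A) (q : Q), l (a • q) = a • l q + ι A Q q • δ a) :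
    ∃ D : SymmetricAlgebra A Q →+ M,
      (∀ a, D (algebraMap A _ a) = δ a) ∧ (∀ q, D (ι A Q q) = l q) ∧
      (∀ x y, D (x * y) = x • D y + y • D x) ∧ ∀ r : R, D (algebraMap A _ (algebraMap R A r)) = 0 := by
  letI : Module (SymmetricAlgebra A Q)ᵐᵒᵖ M :=
    Module.compHom M ((RingHom.id (SymmetricAlgebra A Q)).fromOpposite mul_comm)
  haveI : IsCentralScalar (SymmetricAlgebra A Q) M := ⟨fun _ _ => rfl⟩
  let φ : A →+* TrivSqZeroExt (SymmetricAlgebra A Q) M :=
    { toFun := fun a => .inl (algebraMap A _ a) + .inr (δ a)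
      map_one' := by
        have h := hδ 1 1
        simp only [mul_one, one_smul, left_eq_add] at h
        refine TrivSqZeroExt.ext ?_ ?_ <;> simp [h]
      map_mul' := fun a b => by
        refine TrivSqZeroExt.ext ?_ ?_
        · simp [map_mul]
        · simp [TrivSqZeroExt.snd_mul, hδ, algebraMap_smul, op_smul_eq_smul]
      map_zero' := by simp
      map_add' := fun a b => by
        refine TrivSqZeroExt.ext ?_ ?_ <;> simp }
  let g : Q →+ TrivSqZeroExt (SymmetricAlgebra A Q) M :=
    { toFun := fun q => .inl (ι A Q q) + .inr (l q)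
      map_zero' := by simp
      map_add' := fun a b => by
        refine TrivSqZeroExt.ext ?_ ?_ <;> simp }
  obtain ⟨Φ, hΦa, hΦq⟩ := exists_ringHom φ g fun a q => by
    refine TrivSqZeroExt.ext ?_ ?_
    · simp [φ, g, map_smul, Algebra.smul_def]
    · simp [φ, g, TrivSqZeroExt.snd_mul, hl, algebraMap_smul, op_smul_eq_smul]
  have hfst : ∀ x, (Φ x).fst = x := by
    intro x
    induction x using SymmetricAlgebra.induction with
    | algebraMap a => simp [hΦa, φ]
    | ι q => simp [hΦq, g]
    | mul x y hx hy => simp [map_mul, hx, hy]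
    | add x y hx hy => simp [map_add, hx, hy]
  refine ⟨{ toFun := fun x => (Φ x).snd, map_zero' := by simp, map_add' := fun x y => by simp },
    fun a => by simp [hΦa, φ], fun q => by simp [hΦq, g], fun x y => ?_, fun r => by simp [hΦa, φ, hδR]⟩
  simp [map_mul, TrivSqZeroExt.snd_mul, hfst, op_smul_eq_smul]

/-- Two additive maps satisfying the Leibniz rule that agree on generators are equal. -/
theorem eq_of_leibniz {M : Type u} [AddCommGroup M] [Module (SymmetricAlgebra A Q) M]
    (f g : SymmetricAlgebra A Q →+ M) (hf : ∀ x y, f (x * y) = x • f y + y • f x)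
    (hg : ∀ x y, g (x * y) = x • g y + y • g x)
    (ha : ∀ a, f (algebraMap A _ a) = g (algebraMap A _ a)) (hq : ∀ q, f (ι A Q q) = g (ι A Q q)) :
    ∀ x, f x = g x := by
  intro x
  induction x using SymmetricAlgebra.induction with
  | algebraMap a => exact ha a
  | ι q => exact hq q
  | mul x y hx hy => rw [hf, hg, hx, hy]
  | add x y hx hy => rw [map_add, map_add, hx, hy]

instance formallySmooth [Module.Projective A Q] : Algebra.FormallySmooth A (SymmetricAlgebra A Q) := by
  refine Algebra.FormallySmooth.of_comp_surjective fun B _ _ I _ f => ?_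
  obtain ⟨h, hh⟩ := Module.projective_lifting_property ((Ideal.Quotient.mkₐ A I).toLinearMap)
    (f.toLinearMap ∘ₗ ι A Q) Ideal.Quotient.mk_surjective
  refine ⟨SymmetricAlgebra.lift h, SymmetricAlgebra.algHom_ext (LinearMap.ext fun q => ?_)⟩
  simpa using LinearMap.congr_fun hh q

/-- The surjection from a polynomial ring attached to generators of the module. -/
theorem surjective_aeval {m : ℕ} (v : Fin m → Q) (hv : Submodule.span A (Set.range v) = ⊤) :
    Function.Surjective (MvPolynomial.aeval (R := A) fun i => ι A Q (v i)) := by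
  rw [← AlgHom.range_eq_top, eq_top_iff]
  rintro x -
  induction x using SymmetricAlgebra.induction with
  | algebraMap a => exact Subalgebra.algebraMap_mem _ a
  | ι q =>
    have hq : q ∈ Submodule.span A (Set.range v) := hv ▸ trivial
    induction hq using Submodule.span_induction with
    | mem x hx =>
      obtain ⟨i, rfl⟩ := hx
      exact ⟨MvPolynomial.X i, MvPolynomial.aeval_X _ i⟩
    | zero => rw [map_zero]; exact Subalgebra.zero_mem _
    | add x y _ _ hx hy => rw [map_add]; exact Subalgebra.add_mem _ hx hy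
    | smul a x _ hx => rw [map_smul]; exact Subalgebra.smul_mem _ hx a
  | mul x y hx hy => exact Subalgebra.mul_mem _ hx hy
  | add x y hx hy => exact Subalgebra.add_mem _ hx hy

instance finiteType [Module.Finite A Q] : Algebra.FiniteType A (SymmetricAlgebra A Q) := by
  obtain ⟨m, v, hv⟩ := Module.Finite.exists_fin (R := A) (M := Q)
  exact .of_surjective _ (surjective_aeval v hv)

instance finitePresentation [Module.Finite A Q] [Module.Projective A Q] :
    Algebra.FinitePresentation A (SymmetricAlgebra A Q) := by
  classical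
  obtain ⟨m, v, hv⟩ := Module.Finite.exists_fin (R := A) (M := Q)
  obtain ⟨s, hs⟩ := Module.projective_lifting_property (Fintype.linearCombination A v) LinearMap.id (by
    rw [← LinearMap.range_eq_top, Fintype.range_linearCombination, hv])
  let P := MvPolynomial (Fin m) A
  let L : (Fin m → A) →ₗ[A] P := Fintype.linearCombination A fun i => (MvPolynomial.X i : P)
  let K : Ideal P := Ideal.span (Set.range fun i => MvPolynomial.X i - L (s (v i)))
  let Ψ : SymmetricAlgebra A Q →ₐ[A] P ⧸ K :=
    SymmetricAlgebra.lift ((Ideal.Quotient.mkₐ A K).toLinearMap ∘ₗ L ∘ₗ s)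
  let Φ := MvPolynomial.aeval (R := A) fun i => ι A Q (v i)
  have hΦL : ∀ c, Φ (L c) = ι A Q (Fintype.linearCombination A v c) := fun c => by
    simp [L, Φ, Fintype.linearCombination_apply, map_sum, map_smul]
  have hK : ∀ x ∈ K, Φ x = 0 := fun x hx => by
    refine (Ideal.span_le (I := RingHom.ker Φ)).mpr ?_ hx
    rintro _ ⟨i, rfl⟩
    rw [SetLike.mem_coe, RingHom.mem_ker, map_sub, hΦL, show Fintype.linearCombination A v (s (v i)) = v i
      from LinearMap.congr_fun hs (v i), MvPolynomial.aeval_X, sub_self]
  let Φ' : (P ⧸ K) →ₐ[A] SymmetricAlgebra A Q := Ideal.Quotient.liftₐ K Φ hK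
  have h1 : Φ'.comp Ψ = AlgHom.id A _ := SymmetricAlgebra.algHom_ext (LinearMap.ext fun q => by
    show Φ' (Ψ (ι A Q q)) = ι A Q q
    rw [lift_ι_apply]
    show Φ (L (s q)) = ι A Q q
    rw [hΦL]
    exact congrArg _ (LinearMap.congr_fun hs q))
  have h2 : Ψ.comp Φ' = AlgHom.id A _ := by
    refine Ideal.Quotient.algHom_ext _ (MvPolynomial.algHom_ext fun i => ?_)
    show Ψ (Φ (MvPolynomial.X i)) = Ideal.Quotient.mk K (MvPolynomial.X i)
    rw [MvPolynomial.aeval_X, lift_ι_apply]
    exact (Ideal.Quotient.eq.mpr (show MvPolynomial.X i - L (s (v i)) ∈ K from Ideal.subset_span ⟨i, rfl⟩)).symm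
  haveI : Algebra.FinitePresentation A (P ⧸ K) :=
    Algebra.FinitePresentation.quotient (Submodule.fg_span (Set.finite_range _))
  exact Algebra.FinitePresentation.equiv (AlgEquiv.ofAlgHom Φ' Ψ h1 h2)

instance smooth [Module.Finite A Q] [Module.Projective A Q] : Algebra.Smooth A (SymmetricAlgebra A Q) := { }

/-- The differentials of a symmetric algebra. -/
theorem nonempty_kaehler_equiv :
    Nonempty (Ω[SymmetricAlgebra A Q⁄A] ≃ₗ[SymmetricAlgebra A Q] SymmetricAlgebra A Q ⊗[A] Q) := by
  obtain ⟨D, hDa, hDq, hD, -⟩ := exists_derivation (R := A) (M := SymmetricAlgebra A Q ⊗[A] Q)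
    (A := A) (Q := Q) 0 (fun a b => by simp) (fun r => rfl)
    ((TensorProduct.mk A _ Q 1).toAddMonoidHom) (fun a q => by simp)
  let δ : Derivation A (SymmetricAlgebra A Q) (SymmetricAlgebra A Q ⊗[A] Q) :=
    { toFun := D
      map_add' := D.map_add
      map_smul' := fun a x => by
        rw [Algebra.smul_def, hD, hDa, RingHom.id_apply, AddMonoidHom.zero_apply, smul_zero, add_zero,
          algebraMap_smul]
      map_one_eq_zero' := by
        show D 1 = 0
        rw [← map_one (algebraMap A (SymmetricAlgebra A Q)), hDa]; rfl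
      leibniz' := hD }
  let F := δ.liftKaehlerDifferential
  let G : SymmetricAlgebra A Q ⊗[A] Q →ₗ[SymmetricAlgebra A Q] Ω[SymmetricAlgebra A Q⁄A] :=
    (((KaehlerDifferential.D A (SymmetricAlgebra A Q)).toLinearMap ∘ₗ ι A Q)).liftBaseChange _
  refine ⟨LinearEquiv.ofLinearMap F G ?_ ?_⟩
  · ext q
    simp [F, G, δ, hDq]
  · apply Derivation.liftKaehlerDifferential_unique
    refine Derivation.ext fun x => ?_
    show G (F (KaehlerDifferential.D A _ x)) = KaehlerDifferential.D A _ x
    induction x using SymmetricAlgebra.induction with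
    | algebraMap a => simp
    | ι q => simp [F, G, δ, hDq]
    | mul x y hx hy => simp only [Derivation.leibniz, map_add, map_smul, hx, hy]
    | add x y hx hy => simp only [map_add, hx, hy]

end Groth.L14.Smoothing.SymAlg
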