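import Groth.Agent.L14.Smoothing.Desingularize
import Mathlib.RingTheory.Polynomial.Basic
import Mathlib.LinearAlgebra.Matrix.SchurComplement

/-!
The lifting lemma for smoothing.
-/

set_option autoImplicit false
set_option linter.style.haveILetI false

noncomputable section

open MvPolynomial

namespace Groth.L14.Smoothing.Lift

universe u

variable {R : Type u} [CommRing R]

theorem isSmoothAt_of_standard {B : Type u} [CommRing B] [Algebra R B] [Algebra.FinitePresentation R B] {a : B}
    (ha : _root_.Smoothing.IsStrictlyStandard R B a) (Q : Ideal B) [Q.IsPrime] (haQ : a ∉ Q) :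
    Algebra.IsSmoothAt R Q := by
  have h := Algebra.basicOpen_subset_smoothLocus_iff_smooth.mpr (smooth_of_strictlyStandard a ha).1
  exact h (show (⟨Q, inferInstance⟩ : PrimeSpectrum B) ∈ PrimeSpectrum.basicOpen a from haQ)

/-- The previous constructor with the ideal given separately. -/
theorem isStrictlyStandard_of_span_eq {V L : Type} {T : Type*} [Fintype V] [Fintype L] [DecidableEq L]
    [Finite T] (hLV : Fintype.card L ≤ Fintype.card V) (G : L ⊕ T → MvPolynomial V R)
    (I : Ideal (MvPolynomial V R)) (hI : Ideal.span (Set.range G) = I) (D₀ a₀ : MvPolynomial V R)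
    (col : L → V) (hD : D₀ = Matrix.det (Matrix.of fun j k : L => pderiv (col k) (G (Sum.inl j))))
    (hkill : ∀ t : T, a₀ * D₀ * G (Sum.inr t) ∈ Ideal.span (Set.range (G ∘ Sum.inl))) :
    _root_.Smoothing.IsStrictlyStandard R (MvPolynomial V R ⧸ I) (Ideal.Quotient.mk I (a₀ * D₀)) := by
  subst hI
  refine Generic.isStrictlyStandard_of_presentation hLV G _ ?_ fun p hp t => ?_
  · rw [map_mul, hD]
    exact Ideal.mul_mem_left _ _ (Ideal.subset_span ⟨col, rfl⟩)
  · rw [show p * G (Sum.inr t) = a₀ * D₀ * G (Sum.inr t) + (p - a₀ * D₀) * G (Sum.inr t) by ring]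
    refine add_mem (Ideal.mem_sup_left (hkill t)) (Ideal.mem_sup_right ?_)
    rw [pow_two]
    exact Ideal.mul_mem_mul (Ideal.Quotient.eq.mp hp) (Ideal.subset_span ⟨_, rfl⟩)

theorem sum_mul_pderiv_mem {n m : ℕ} (f : Fin m → MvPolynomial (Fin n) R) (π2 : R) (s : Fin m → MvPolynomial (Fin n) R)
    (h : MvPolynomial (Fin n) R) (hs : ∑ j, s j * f j = C π2 * h) (i : Fin n) :
    ∑ j, s j * pderiv i (f j) ∈ Ideal.span (Set.range f) ⊔ Ideal.span {C π2} := by
  have h1 := congrArg (pderiv i) hs
  rw [map_sum, pderiv_C_mul] at h1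
  have h2 : ∑ j, s j * pderiv i (f j) = C π2 * pderiv i h - ∑ j, f j * pderiv i (s j) := by
    rw [← h1, ← Finset.sum_sub_distrib]
    refine Finset.sum_congr rfl fun j _ => ?_
    rw [Derivation.leibniz, smul_eq_mul, smul_eq_mul]
    ring
  rw [h2]
  exact sub_mem (Ideal.mem_sup_right (Ideal.mul_mem_right _ _ (Ideal.mem_span_singleton_self _)))
    (Ideal.mem_sup_left (Submodule.sum_mem _ fun j _ => Ideal.mul_mem_right _ _ (Ideal.subset_span ⟨j, rfl⟩)))

theorem isStandardSmooth_away_of_minor' {ι σ : Type} [Finite ι] [Fintype σ] [DecidableEq σ]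
    (F : σ → MvPolynomial ι R) (col : σ → ι) (hcol : Function.Injective col) (e : MvPolynomial ι R) :
    Algebra.IsStandardSmooth R (Localization.Away (Ideal.Quotient.mk (Ideal.span (Set.range F))
      (Matrix.det (Matrix.of fun j k : σ => pderiv (col k) (F j)) * e))) := by
  classical
  let Q := Algebra.PreSubmersivePresentation.naive (v := F) col hcol
  let d := Ideal.Quotient.mk (Ideal.span (Set.range F)) (Matrix.det (Matrix.of fun j k : σ => pderiv (col k) (F j)))
  let b := Ideal.Quotient.mk (Ideal.span (Set.range F))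
    (Matrix.det (Matrix.of fun j k : σ => pderiv (col k) (F j)) * e)
  have hQ : Q.jacobian = d := by
    rw [Algebra.PreSubmersivePresentation.jacobian_eq_jacobiMatrix_det]
    have : Q.jacobiMatrix = (Matrix.of fun j k : σ => pderiv (col k) (F j)).transpose := by
      ext i j
      simp only [Q, Algebra.PreSubmersivePresentation.jacobiMatrix_naive, Matrix.transpose_apply, Matrix.of_apply]
    rw [this, Matrix.det_transpose]
    rfl
  have hbu : IsUnit (algebraMap _ (Localization.Away b) b) := IsLocalization.Away.algebraMap_isUnit b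
  have hdu : IsUnit (algebraMap _ (Localization.Away b) d) := by
    have h := hbu
    rw [show b = d * Ideal.Quotient.mk _ e from map_mul _ _ _, map_mul] at h
    exact isUnit_of_mul_isUnit_left h
  let P : Algebra.SubmersivePresentation R (Localization.Away b) _ _ :=
    { toPreSubmersivePresentation := .comp (.localizationAway (Localization.Away b) b) Q
      jacobian_isUnit := by
        rw [Algebra.PreSubmersivePresentation.comp_jacobian_eq_jacobian_smul_jacobian,
          Algebra.PreSubmersivePresentation.localizationAway_jacobian, Algebra.smul_def, hQ]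
        exact hdu.mul hbu }
  exact P.isStandardSmooth

/-- The computation showing that the extra relations vanish. -/
theorem relations_vanish {n m c : ℕ} (f : Fin m → MvPolynomial (Fin n) R) (π2 : R) (rows : Fin c → Fin m)
    (cols : Fin c → Fin n) (g : MvPolynomial (Fin n) R) (av : Fin m → Fin c → MvPolynomial (Fin n) R)
    (bv : Fin m → MvPolynomial (Fin n) R) (hab : ∀ j, g * f j = ∑ k, av j k * f (rows k) + C π2 * bv j)
    {L : Type u} [CommRing L] (φ : MvPolynomial (Fin n) R →+* L) (w : L) (z : Fin m → L)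
    (hπ : φ (C π2) = w ^ 2) (hflat : ∀ x, w ^ 2 * x = 0 → w * x = 0) (hg : IsUnit (φ g))
    (hΔ : IsUnit (φ (Matrix.det (Matrix.of fun j k : Fin c => pderiv (cols k) (f (rows j))))))
    (hfrow : ∀ k, φ (f (rows k)) = w * z (rows k))
    (hTr : ∀ j, φ g * z j = ∑ k, φ (av j k) * z (rows k) + w * φ (bv j)) :
    (∀ j, φ (f j) = w * z j) ∧ ∀ (r : Fin m → MvPolynomial (Fin n) R) (h : MvPolynomial (Fin n) R),
      ∑ j, r j * f j = C π2 * h → ∑ j, φ (r j) * z j - w * φ h = 0 := by
  classical
  set M : Matrix (Fin c) (Fin c) (MvPolynomial (Fin n) R) := Matrix.of fun j k => pderiv (cols k) (f (rows j))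
  have hfall : ∀ j, φ (f j) = w * z j := by
    intro j
    refine hg.mul_left_cancel ?_
    rw [← map_mul, hab, map_add, map_sum, map_mul, hπ, mul_left_comm, hTr, mul_add, Finset.mul_sum]
    refine congrArg₂ (fun a b : L => a + b) (Finset.sum_congr rfl fun k _ => ?_) (by ring)
    rw [map_mul, hfrow]
    ring
  refine ⟨hfall, fun r h hr => ?_⟩
  let s : Fin c → MvPolynomial (Fin n) R := fun k => ∑ j, r j * av j k
  let h' := g * h - ∑ j, r j * bv j
  have hs : ∑ k, s k * f (rows k) = C π2 * h' := by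
    have h1 : ∑ j, r j * (g * f j) = C π2 * (g * h) := by
      rw [mul_left_comm, ← hr, Finset.mul_sum]
      exact Finset.sum_congr rfl fun j _ => by ring
    simp only [hab, mul_add, Finset.sum_add_distrib, Finset.mul_sum] at h1
    rw [Finset.sum_comm] at h1
    have h2 : ∑ j, r j * (C π2 * bv j) = C π2 * ∑ j, r j * bv j := by
      rw [Finset.mul_sum]; exact Finset.sum_congr rfl fun j _ => by ring
    rw [h2] at h1
    have h3 : ∑ k, s k * f (rows k) = ∑ k, ∑ j, r j * (av j k * f (rows k)) := by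
      simp only [s, Finset.sum_mul, mul_assoc]
    rw [h3]
    simp only [h', mul_sub]
    linear_combination h1
  have hgRel : φ g * (∑ j, φ (r j) * z j - w * φ h) = ∑ k, φ (s k) * z (rows k) - w * φ h' := by
    have h1 : φ g * ∑ j, φ (r j) * z j =
        ∑ k, φ (s k) * z (rows k) + w * ∑ j, φ (r j) * φ (bv j) := by
      have : ∀ j, φ g * (φ (r j) * z j) =
          ∑ k, φ (r j) * φ (av j k) * z (rows k) + w * (φ (r j) * φ (bv j)) := fun j => by
        rw [mul_left_comm, hTr, mul_add, Finset.mul_sum]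
        exact congrArg₂ (fun a b : L => a + b) (Finset.sum_congr rfl fun k _ => by ring) (by ring)
      rw [Finset.mul_sum, Finset.sum_congr rfl fun j _ => this j, Finset.sum_add_distrib, Finset.mul_sum,
        Finset.sum_comm]
      simp only [s, map_sum, map_mul, Finset.sum_mul]
    simp only [h', map_sub, map_mul, map_sum, mul_sub, h1]
    ring
  have hsM : ∀ i, (Matrix.vecMul s M) i ∈ Ideal.span (Set.range f) ⊔ Ideal.span {C π2} := by
    intro i
    have h1 := sum_mul_pderiv_mem f π2 (fun j => ∑ k, if rows k = j then s k else 0) h' (by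
      rw [← hs]
      simp only [Finset.sum_mul, ite_mul, zero_mul]
      rw [Finset.sum_comm]
      simp) (cols i)
    convert h1 using 1
    simp only [Finset.sum_mul, ite_mul, zero_mul]
    rw [Finset.sum_comm]
    simp [M, Matrix.vecMul, dotProduct]
  have hdec : ∀ k, ∃ y : L, φ M.det * φ (s k) = w * y := by
    intro k
    have h0 : M.det * s k ∈ Ideal.span (Set.range f) ⊔ Ideal.span {C π2} := by
      have h1 : Matrix.vecMul (Matrix.vecMul s M) M.adjugate k = M.det * s k := by
        rw [Matrix.vecMul_vecMul, Matrix.mul_adjugate, Matrix.vecMul_smul, Matrix.vecMul_one]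
        rfl
      rw [← h1]
      simp only [Matrix.vecMul, dotProduct]
      exact Submodule.sum_mem _ fun i _ => Ideal.mul_mem_right _ _ (hsM i)
    obtain ⟨x, hx, y, hy, hxy⟩ := Submodule.mem_sup.mp h0
    obtain ⟨a, ha⟩ := Ideal.mem_span_range_iff_exists_fun.mp hx
    obtain ⟨b, hb⟩ := Ideal.mem_span_singleton'.mp hy
    refine ⟨∑ i, φ (a i) * z i + w * φ b, ?_⟩
    rw [← map_mul, ← hxy, ← ha, ← hb, map_add, map_sum, map_mul, hπ, mul_add, Finset.mul_sum]
    exact congrArg₂ (fun a b : L => a + b) (Finset.sum_congr rfl fun i _ => by rw [map_mul, hfall]; ring) (by ring)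
  choose y hy using hdec
  let W := ∑ k, y k * z (rows k) - φ M.det * φ h'
  have hW : φ M.det * (φ g * (∑ j, φ (r j) * z j - w * φ h)) = w * W := by
    simp only [hgRel, W, mul_sub, Finset.mul_sum]
    refine congrArg₂ (fun a b : L => a - b) (Finset.sum_congr rfl fun k _ => ?_) (by ring)
    rw [← mul_assoc, hy]
    ring
  have hW2 : w ^ 2 * W = 0 := by
    have h1 : ∑ k, φ (s k) * (w * z (rows k)) = w ^ 2 * φ h' := by
      have h0 := congrArg φ hs
      rw [map_sum, map_mul, hπ] at h0
      rw [← h0]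
      exact Finset.sum_congr rfl fun k _ => by rw [map_mul, hfrow]
    have h2 : w * (φ M.det * (φ g * (∑ j, φ (r j) * z j - w * φ h))) = 0 := by
      rw [hgRel, mul_left_comm, mul_sub, Finset.mul_sum, ← mul_assoc w w, ← pow_two, ← h1,
        show ∑ k, w * (φ (s k) * z (rows k)) = ∑ k, φ (s k) * (w * z (rows k)) from
          Finset.sum_congr rfl fun k _ => by ring, sub_self, mul_zero]
    rw [hW] at h2
    linear_combination h2
  rw [hflat W hW2] at hW
  exact hg.mul_right_eq_zero.mp (hΔ.mul_right_eq_zero.mp hW)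

/-- Relations of the lifted algebra vanish near a smooth point of the special fibre. -/
theorem exists_standard_near [IsNoetherianRing R] (π : R) (hR : ∀ r : R, π ^ 2 * r = 0 → π * r = 0) {n m : ℕ}
    (f : Fin m → MvPolynomial (Fin n) R)
    (q : Ideal (MvPolynomial (Fin n) R)) [q.IsPrime] (hfq : ∀ j, f j ∈ q) (hπq : C π ∈ q)
    {c : ℕ} (rows : Fin c ↪ Fin m) (cols : Fin c ↪ Fin n)
    (hΔ : Matrix.det (Matrix.of fun j k : Fin c => pderiv (cols k) (f (rows j))) ∉ q)
    (a₁ : MvPolynomial (Fin n) R) (ha₁ : a₁ ∉ q)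
    (hkill : ∀ l, a₁ * f l ∈ Ideal.span (Set.range (f ∘ rows)) ⊔ Ideal.span {C (π ^ 2)} ⊔
      Ideal.span (Set.range f) ^ 2)
    {κ : Type*} [Fintype κ] (rv : κ → Fin m → MvPolynomial (Fin n) R) (hv : κ → MvPolynomial (Fin n) R)
    (hrel : ∀ l, ∑ j, rv l j * f j = C (π ^ 2) * hv l)
    (I : Ideal (MvPolynomial (Fin n ⊕ Fin m) R))
    (hI : I = Ideal.span (Set.range (Sum.elim
      (fun j => rename Sum.inl (f j) - C π * X (Sum.inr j))
      (fun l => (∑ j, rename Sum.inl (rv l j) * X (Sum.inr j)) - C π * rename Sum.inl (hv l)))))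
    (hgen : ∀ (r : Fin m → MvPolynomial (Fin n) R) (h : MvPolynomial (Fin n) R), ∑ j, r j * f j = C (π ^ 2) * h →
      (∑ j, rename Sum.inl (r j) * X (Sum.inr j)) - C π * rename Sum.inl h ∈ I)
    (Q : Ideal (MvPolynomial (Fin n ⊕ Fin m) R)) [hQp : Q.IsPrime] (hIQ : I ≤ Q)
    (hQ : ∀ p, rename Sum.inl p ∈ Q ↔ p ∈ q) :
    ∃ a₀ ∉ Q, _root_.Smoothing.IsStrictlyStandard R (MvPolynomial (Fin n ⊕ Fin m) R ⧸ I)
      (Ideal.Quotient.mk I a₀) := by
  classical
  set Δ := Matrix.det (Matrix.of fun j k : Fin c => pderiv (cols k) (f (rows j))) with hΔdef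
  let P := MvPolynomial (Fin n) R
  let K : Ideal P := Ideal.span (Set.range (f ∘ rows)) ⊔ Ideal.span {C (π ^ 2)}
  have hK : ∀ l, ∃ t ∉ q, t * f l ∈ K := by
    let M := Localization.AtPrime q
    let I' : Ideal M := (Ideal.span (Set.range f)).map (algebraMap P M)
    have hI' : I' ≤ K.map (algebraMap P M) := by
      refine Submodule.le_of_le_smul_of_le_jacobson_bot
        (Ideal.FG.map (Submodule.fg_span (Set.finite_range f)) _) (IsLocalRing.maximalIdeal_le_jacobson ⊥) ?_
      refine Ideal.map_le_iff_le_comap.mpr (Ideal.span_le.mpr ?_)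
      rintro _ ⟨l, rfl⟩
      rw [SetLike.mem_coe, Ideal.mem_comap]
      have h1 := Ideal.mem_map_of_mem (algebraMap P M) (hkill l)
      rw [Ideal.map_sup, map_mul,
        Ideal.unit_mul_mem_iff_mem _ (IsLocalization.map_units M (⟨a₁, ha₁⟩ : q.primeCompl))] at h1
      refine SetLike.le_def.mp (sup_le_sup_left ?_ _) h1
      rw [Ideal.map_pow, pow_two]
      refine Submodule.smul_mono ?_ le_rfl
      rw [← Localization.AtPrime.map_eq_maximalIdeal]
      exact Ideal.map_mono (Ideal.span_le.mpr (Set.range_subset_iff.mpr hfq))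
    intro l
    obtain ⟨t, ht, htl⟩ := (IsLocalization.algebraMap_mem_map_algebraMap_iff q.primeCompl M _ (f l)).mp
      (hI' (Ideal.mem_map_of_mem _ (Ideal.subset_span ⟨l, rfl⟩)))
    exact ⟨t, ht, htl⟩
  choose t ht htK using hK
  let g := ∏ l, t l
  have hg : g ∉ q := fun h => by
    obtain ⟨l, -, hl⟩ := (Ideal.IsPrime.prod_mem_iff (p := q)).mp h
    exact ht l hl
  have hgK : ∀ l, ∃ a : Fin c → P, ∃ b : P, g * f l = ∑ k, a k * f (rows k) + C (π ^ 2) * b := by
    intro l
    have h : g * f l ∈ K := by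
      obtain ⟨d, hd⟩ := Finset.dvd_prod_of_mem t (Finset.mem_univ l)
      rw [show g = t l * d from hd, mul_comm (t l), mul_assoc]
      exact K.mul_mem_left _ (htK l)
    obtain ⟨x, hx, y, hy, hxy⟩ := Submodule.mem_sup.mp h
    obtain ⟨a, ha⟩ := Ideal.mem_span_range_iff_exists_fun.mp hx
    obtain ⟨b, hb⟩ := Ideal.mem_span_singleton'.mp hy
    exact ⟨a, b, by rw [← hxy, ← ha, ← hb, mul_comm b]; rfl⟩
  have hgK' : ∀ l, ∃ a : Fin c → P, ∃ b : P, g * f l = ∑ k, a k * f (rows k) + C (π ^ 2) * b ∧
      ∀ k, rows k = l → b = 0 ∧ a = Pi.single k g := by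
    intro l
    by_cases hl : ∃ k, rows k = l
    · obtain ⟨k, rfl⟩ := hl
      refine ⟨Pi.single k g, 0, ?_, fun k' hk' => ⟨rfl, by rw [rows.injective hk']⟩⟩
      simp [Pi.single_apply]
    · obtain ⟨a, b, hab⟩ := hgK l
      exact ⟨a, b, hab, fun k hk => (hl ⟨k, hk⟩).elim⟩
  choose av bv hab habr using hgK'
  let T := {j : Fin m // j ∉ Set.range rows}
  let V := Fin n ⊕ Fin m
  let E : Fin m → MvPolynomial V R := fun j => rename Sum.inl (f j) - C π * X (Sum.inr j)
  let Rel : κ → MvPolynomial V R := fun l =>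
    (∑ j, rename Sum.inl (rv l j) * X (Sum.inr j)) - C π * rename Sum.inl (hv l)
  let Tr : Fin m → MvPolynomial V R := fun j => rename Sum.inl g * X (Sum.inr j) -
    ∑ k, rename Sum.inl (av j k) * X (Sum.inr (rows k)) - C π * rename Sum.inl (bv j)
  let G₀ : Fin c ⊕ T → MvPolynomial V R := Sum.elim (fun k => E (rows k)) fun j => Tr j.1
  let GG : (Fin c ⊕ T) ⊕ (Fin m ⊕ κ) → MvPolynomial V R := Sum.elim G₀ (Sum.elim E Rel)
  have hTr : ∀ j, Tr j ∈ I := by
    intro j
    have hr : ∑ i, ((if i = j then g else 0) - ∑ k, if i = rows k then av j k else 0) * f i =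
        C (π ^ 2) * bv j := by
      simp only [sub_mul, Finset.sum_sub_distrib, ite_mul, zero_mul, Finset.sum_mul]
      rw [Finset.sum_ite_eq', if_pos (Finset.mem_univ j), Finset.sum_comm]
      simp only [Finset.sum_ite_eq', Finset.mem_univ, if_true]
      rw [hab]; ring
    have h := hgen _ _ hr
    convert h using 1
    simp only [Tr, map_sub, map_sum, sub_mul, Finset.sum_sub_distrib, apply_ite (rename (R := R) (Sum.inl : Fin n → V)),
      map_zero, ite_mul, zero_mul, Finset.sum_mul]
    rw [Finset.sum_ite_eq', if_pos (Finset.mem_univ j), Finset.sum_comm (γ := Fin m)]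
    simp only [Finset.sum_ite_eq', Finset.mem_univ, if_true]
  have hspan : Ideal.span (Set.range GG) = I := by
    refine le_antisymm (Ideal.span_le.mpr ?_) ?_
    · rintro _ ⟨(k | j) | (j | l), rfl⟩
      · rw [hI]; exact Ideal.subset_span ⟨Sum.inl (rows k), rfl⟩
      · exact hTr j.1
      · rw [hI]; exact Ideal.subset_span ⟨Sum.inl j, rfl⟩
      · rw [hI]; exact Ideal.subset_span ⟨Sum.inr l, rfl⟩
    · rw [hI, Ideal.span_le]
      rintro _ ⟨j | l, rfl⟩
      · exact Ideal.subset_span ⟨Sum.inr (Sum.inl j), rfl⟩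
      · exact Ideal.subset_span ⟨Sum.inr (Sum.inr l), rfl⟩
  let col : Fin c ⊕ T → V := Sum.map cols Subtype.val
  have hcol : Function.Injective col := cols.injective.sumMap Subtype.val_injective
  set D₀ := Matrix.det (Matrix.of fun j k : Fin c ⊕ T => pderiv (col k) (G₀ j)) with hD₀def
  have hD₀ : D₀ = rename Sum.inl Δ * rename Sum.inl g ^ Fintype.card T := by
    have hne : ∀ (i : Fin m) (x : P), pderiv (Sum.inr i : V) (rename Sum.inl x) = 0 := fun i x => by
      induction x using MvPolynomial.induction_on with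
      | C r => simp
      | add p q hp hq => simp [map_add, hp, hq]
      | mul_X p k hp => simp [map_mul, hp, Derivation.leibniz]
    have hrk : ∀ (k : Fin c) (j : T), (rows k) ≠ j.1 := fun k j h => j.2 ⟨k, h⟩
    have hCd : ∀ (v : V) (z : MvPolynomial V R), pderiv v (C π * z) = C π * pderiv v z := fun v z => by
      rw [pderiv_C_mul]
    have hX : ∀ a b : V, pderiv a (X b : MvPolynomial V R) = if b = a then 1 else 0 := fun a b => by
      by_cases h : b = a
      · subst h; simp
      · simp [h, pderiv_X_of_ne h]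
    have hrV : ∀ (k : Fin c) (j : T), (Sum.inr (rows k) : V) ≠ Sum.inr j.1 :=
      fun k j h => hrk k j (Sum.inr_injective h)
    have hM : (Matrix.of fun j k : Fin c ⊕ T => pderiv (col k) (G₀ j)) =
        Matrix.fromBlocks ((Matrix.of fun j k : Fin c => pderiv (cols k) (f (rows j))).map (rename Sum.inl)) 0
          (Matrix.of fun (j : T) (k : Fin c) => pderiv (Sum.inl (cols k) : V) (Tr j.1))
          (Matrix.diagonal fun _ => rename Sum.inl g) := by
      ext (j | j) (k | k) : 1
      · simp [G₀, E, col, hCd, hX, pderiv_rename Sum.inl_injective]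
      · simp [G₀, E, col, hCd, hne, hX, hrV]
      · simp [G₀, col]
      · simp only [G₀, Tr, col, Sum.elim_inr, Sum.map_inr, Matrix.of_apply, map_sub, map_sum, hCd, hne,
          Derivation.leibniz, hX, Matrix.fromBlocks_apply₂₂, Matrix.diagonal_apply, smul_eq_mul]
        by_cases h : j = k
        · subst h
          simp [hrV]
        · simp [h, hrV, show (Sum.inr j.1 : V) ≠ Sum.inr k.1 from fun e => h (Subtype.val_injective (Sum.inr_injective e))]
    rw [hD₀def, hM, Matrix.det_fromBlocks_zero₁₂, Matrix.det_diagonal, Finset.prod_const, Finset.card_univ]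
    congr 1
    exact (AlgHom.map_det (rename Sum.inl) _).symm
  have hgQ : rename Sum.inl g ∉ Q := fun h => hg ((hQ g).mp h)
  have hΔQ : rename Sum.inl Δ ∉ Q := fun h => hΔ ((hQ Δ).mp h)
  have hD₀Q : D₀ ∉ Q := by
    rw [hD₀]
    exact fun h => (hQp.mem_or_mem h).elim hΔQ fun h' => hgQ (hQp.mem_of_pow_mem _ h')
  let D₁ := D₀ * rename Sum.inl g
  have hD₁Q : D₁ ∉ Q := fun h => (hQp.mem_or_mem h).elim hD₀Q hgQ
  let Lead := Ideal.span (Set.range G₀)
  let B₀ := MvPolynomial V R ⧸ Lead
  let L := Localization.Away (Ideal.Quotient.mk Lead D₁)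
  haveI : Algebra.IsStandardSmooth R L := isStandardSmooth_away_of_minor' G₀ col hcol (rename Sum.inl g)
  haveI : Algebra.Smooth R L := inferInstance
  haveI : Module.Flat R L := Algebra.Smooth.flat R L
  let toL : MvPolynomial V R →+* L := (algebraMap B₀ L).comp (Ideal.Quotient.mk Lead)
  let φ : P →+* L := toL.comp (rename (R := R) (Sum.inl : Fin n → V)).toRingHom
  let z := fun j : Fin m => toL (X (Sum.inr j))
  let w := algebraMap R L π
  have hC : toL (C π) = w := by
    show _ = algebraMap R L π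
    rw [IsScalarTower.algebraMap_apply R B₀ L]; rfl
  have hφC : φ (C (π ^ 2)) = w ^ 2 := by
    show toL (rename Sum.inl (C (π ^ 2))) = _
    rw [rename_C, map_pow, map_pow, hC]
  have hLead : ∀ i, toL (G₀ i) = 0 := fun i => by
    show algebraMap B₀ L (Ideal.Quotient.mk Lead (G₀ i)) = 0
    rw [show Ideal.Quotient.mk Lead (G₀ i) = 0 from
      Ideal.Quotient.eq_zero_iff_mem.mpr (Ideal.subset_span ⟨i, rfl⟩), map_zero]
  have hu₁ : toL D₁ = toL (rename Sum.inl Δ) * toL (rename Sum.inl g ^ Fintype.card T) * toL (rename Sum.inl g) :=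
    (map_mul toL D₀ _).trans (congrArg (fun x : L => x * toL (rename Sum.inl g))
      ((congrArg toL hD₀).trans (map_mul toL _ _)))
  have hu : IsUnit (toL (rename Sum.inl Δ) * toL (rename Sum.inl g ^ Fintype.card T) * toL (rename Sum.inl g)) :=
    hu₁ ▸ (IsLocalization.Away.algebraMap_isUnit (Ideal.Quotient.mk Lead D₁))
  have hflat : ∀ x, w ^ 2 * x = 0 → w * x = 0 := fun x hx => by
    have h := Desing.mul_eq_zero_of_flat π 1 (fun y hy => by rw [one_mul]; exact hR y hy) hx
    rwa [map_one, one_mul] at h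
  have hfrow : ∀ k, φ (f (rows k)) = w * z (rows k) := fun k => by
    have h := hLead (Sum.inl k)
    simp only [G₀, E, Sum.elim_inl, map_sub, map_mul, hC, sub_eq_zero] at h
    exact h
  have hTrL : ∀ j, φ g * z j = ∑ k, φ (av j k) * z (rows k) + w * φ (bv j) := fun j => by
    by_cases hj : j ∈ Set.range rows
    · obtain ⟨k, rfl⟩ := hj
      obtain ⟨hb, ha⟩ := habr (rows k) k rfl
      simp [hb, ha, Pi.single_apply, apply_ite φ, ite_mul]
    · have h := hLead (Sum.inr ⟨j, hj⟩)
      simp only [G₀, Tr, Sum.elim_inr, map_sub, map_sum, map_mul, hC] at h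
      show toL (rename Sum.inl g) * z j = _
      simp only [φ, z, RingHom.comp_apply]
      linear_combination h
  obtain ⟨hfall, hrelL⟩ := relations_vanish f (π ^ 2) rows cols g av bv hab φ w z hφC hflat
    (isUnit_of_mul_isUnit_right hu) (isUnit_of_mul_isUnit_left (isUnit_of_mul_isUnit_left hu)) hfrow hTrL
  have hzero : ∀ t : Fin m ⊕ κ, ∃ k : ℕ, D₁ ^ k * GG (Sum.inr t) ∈ Lead := by
    intro t
    have h1 : toL (GG (Sum.inr t)) = 0 := by
      rcases t with j | l
      · show toL (E j) = 0
        simp only [E, map_sub, map_mul, hC]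
        exact sub_eq_zero.mpr (hfall j)
      · show toL (Rel l) = 0
        simp only [Rel, map_sub, map_sum, map_mul, hC]
        exact hrelL (rv l) (hv l) (hrel l)
    obtain ⟨⟨_, k, rfl⟩, hk⟩ := (IsLocalization.map_eq_zero_iff
      (Submonoid.powers (Ideal.Quotient.mk Lead D₁)) L _).mp h1
    refine ⟨k, ?_⟩
    rw [← Ideal.Quotient.eq_zero_iff_mem, map_mul, map_pow]
    exact hk
  choose k hk using hzero
  let N := Finset.univ.sum k
  refine ⟨D₁ ^ N * D₀, fun h => (hQp.mem_or_mem h).elim (fun h' => hD₁Q (hQp.mem_of_pow_mem _ h')) hD₀Q, ?_⟩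
  refine isStrictlyStandard_of_span_eq (Fintype.card_le_of_injective col hcol) GG I hspan D₀ (D₁ ^ N) col rfl
    fun t => ?_
  rw [mul_comm (D₁ ^ N) D₀, mul_assoc, show N = (N - k t) + k t from (Nat.sub_add_cancel
    (Finset.single_le_sum (fun i _ => Nat.zero_le (k i)) (Finset.mem_univ t))).symm, pow_add, mul_assoc]
  exact Ideal.mul_mem_left _ _ (Ideal.mul_mem_left _ _ (hk t))

theorem C_mul_eq_zero {σ : Type} (π : R) (hR : ∀ r : R, π ^ 2 * r = 0 → π * r = 0) {p : MvPolynomial σ R}
    (h : C (π ^ 2) * p = 0) : C π * p = 0 := by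
  ext d
  have h1 := congrArg (coeff d) h
  rw [coeff_C_mul, coeff_zero] at h1
  rw [coeff_C_mul, coeff_zero]
  exact hR _ h1

theorem exists_lifting [IsNoetherianRing R] {Λ C₀ : Type u} [CommRing Λ] [Algebra R Λ] (π : R)
    (hR : ∀ r : R, π ^ 2 * r = 0 → π * r = 0) (hΛ : ∀ x : Λ, π ^ 2 • x = 0 → π • x = 0)
    [CommRing C₀] [Algebra R C₀] [Algebra (R ⧸ Ideal.span {π ^ 2}) C₀]
    [IsScalarTower R (R ⧸ Ideal.span {π ^ 2}) C₀]
    [Algebra.FinitePresentation (R ⧸ Ideal.span {π ^ 2}) C₀]
    (g : C₀ →ₐ[R] Λ ⧸ Ideal.span {algebraMap R Λ (π ^ 2)}) :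
    ∃ (D : Type u) (_ : CommRing D) (_ : Algebra R D), Algebra.FinitePresentation R D ∧
      ∃ (δ : D →ₐ[R] Λ) (ψ : C₀ →ₐ[R] D ⧸ Ideal.span {algebraMap R D π}),
        (∀ (c : C₀) (d : D) (l : Λ), Ideal.Quotient.mk (Ideal.span {algebraMap R D π}) d = ψ c →
          Ideal.Quotient.mk (Ideal.span {algebraMap R Λ (π ^ 2)}) l = g c →
            δ d - l ∈ Ideal.span {algebraMap R Λ π}) ∧
        (∀ (Q : Ideal D) [Q.IsPrime], algebraMap R D π ∉ Q → Algebra.IsSmoothAt R Q) ∧
        (∀ (Q : Ideal (D ⧸ Ideal.span {algebraMap R D π})) [Q.IsPrime],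
          Algebra.IsSmoothAt (R ⧸ Ideal.span {π ^ 2}) (Q.comap ψ) →
            Algebra.IsSmoothAt R (Q.comap (Ideal.Quotient.mk (Ideal.span {algebraMap R D π})))) := by
  classical
  let Rb := R ⧸ Ideal.span {π ^ 2}
  obtain ⟨n, φb, hφb, hfg⟩ := (inferInstance : Algebra.FinitePresentation Rb C₀).out
  obtain ⟨m, fb, hfb⟩ := Submodule.fg_iff_exists_fin_generating_family.mp hfg
  let μ : MvPolynomial (Fin n) R →+* MvPolynomial (Fin n) Rb := MvPolynomial.map (Ideal.Quotient.mk _)
  have hμ : Function.Surjective μ := map_surjective _ Ideal.Quotient.mk_surjective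
  have hkμ : RingHom.ker μ = Ideal.span {C (π ^ 2)} := by
    rw [MvPolynomial.ker_map, Ideal.mk_ker, Ideal.map_span, Set.image_singleton]
  choose f hf using fun j => hμ (fb j)
  let Φ : MvPolynomial (Fin n) R →ₐ[R] C₀ := aeval fun i => φb (X i)
  have hΦμ : ∀ p, Φ p = φb (μ p) := by
    intro p
    induction p using MvPolynomial.induction_on with
    | C r =>
      simp only [Φ, μ, aeval_C, map_C]
      exact ((φb.commutes _).trans (IsScalarTower.algebraMap_apply R Rb C₀ r).symm).symm
    | add p q hp hq => rw [map_add, map_add, map_add, hp, hq]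
    | mul_X p i hp => rw [map_mul, map_mul, map_mul, hp]; simp [Φ, μ]
  have hΦ : Function.Surjective Φ := fun c => by
    obtain ⟨pb, rfl⟩ := hφb c
    obtain ⟨p, rfl⟩ := hμ pb
    exact ⟨p, hΦμ p⟩
  have himg : (Ideal.span (Set.range f)).map μ = Ideal.span (Set.range fb) := by
    rw [Ideal.map_span, ← Set.range_comp]
    exact congrArg Ideal.span (congrArg Set.range (funext hf))
  have hkΦ : RingHom.ker Φ = Ideal.span (Set.range f) ⊔ Ideal.span {C (π ^ 2)} := by
    rw [← hkμ, RingHom.ker_eq_comap_bot μ, ← Ideal.comap_map_of_surjective μ hμ, himg]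
    ext p
    rw [RingHom.mem_ker, hΦμ, Ideal.mem_comap, show Ideal.span (Set.range fb) = RingHom.ker φb.toRingHom from hfb]
    rfl
  choose lam hlam using fun i => Ideal.Quotient.mk_surjective (g (Φ (X i)))
  have hgΦ : ∀ p, Ideal.Quotient.mk (Ideal.span {algebraMap R Λ (π ^ 2)}) (aeval lam p) = g (Φ p) := fun p =>
    AlgHom.congr_fun (MvPolynomial.algHom_ext (f := (Ideal.Quotient.mkₐ R _).comp (aeval lam)) (g := g.comp Φ)
      fun i => by simp [hlam]) p
  have hf0 : ∀ j, Φ (f j) = 0 := fun j => RingHom.mem_ker.mp (hkΦ ▸ Ideal.mem_sup_left (Ideal.subset_span ⟨j, rfl⟩))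
  choose mu hmu using fun j => Ideal.mem_span_singleton'.mp (Ideal.Quotient.eq_zero_iff_mem.mp
    ((hgΦ (f j)).trans (by rw [hf0, map_zero])))
  let S : Submodule (MvPolynomial (Fin n) R) (Fin m → MvPolynomial (Fin n) R) :=
    Submodule.comap (Fintype.linearCombination (MvPolynomial (Fin n) R) f) (Ideal.span {C (π ^ 2)})
  obtain ⟨κ, rv, hrv⟩ := Submodule.fg_iff_exists_fin_generating_family.mp (IsNoetherian.noetherian S)
  have hmem : ∀ l, ∃ h, ∑ j, rv l j * f j = C (π ^ 2) * h := fun l => by
    have h1 : rv l ∈ S := hrv ▸ Submodule.subset_span ⟨l, rfl⟩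
    obtain ⟨h, hh⟩ := Ideal.mem_span_singleton'.mp h1
    refine ⟨h, ?_⟩
    rw [mul_comm, hh, Fintype.linearCombination_apply]
    simp only [smul_eq_mul]
  choose hv hrel using hmem
  let V := Fin n ⊕ Fin m
  let rn : MvPolynomial (Fin n) R →ₐ[R] MvPolynomial V R := rename Sum.inl
  let E : Fin m → MvPolynomial V R := fun j => rename Sum.inl (f j) - C π * X (Sum.inr j)
  let Rel : Fin κ → MvPolynomial V R := fun l =>
    (∑ j, rename Sum.inl (rv l j) * X (Sum.inr j)) - C π * rename Sum.inl (hv l)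
  let I : Ideal (MvPolynomial V R) := Ideal.span (Set.range (Sum.elim E Rel))
  have hgen : ∀ (r : Fin m → MvPolynomial (Fin n) R) (h : MvPolynomial (Fin n) R),
      ∑ j, r j * f j = C (π ^ 2) * h →
      (∑ j, rename Sum.inl (r j) * X (Sum.inr j)) - C π * rename Sum.inl h ∈ I := by
    intro r h hr
    have hrS : r ∈ S := by
      refine Ideal.mem_span_singleton'.mpr ⟨h, ?_⟩
      rw [mul_comm, ← hr, Fintype.linearCombination_apply]
      simp only [smul_eq_mul]
    rw [← hrv] at hrS
    obtain ⟨c, hc⟩ := (Submodule.mem_span_range_iff_exists_fun _).mp hrS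
    have hr' : ∀ j, r j = ∑ l, c l * rv l j := fun j => by
      rw [← hc]; simp [Finset.sum_apply]
    have h1 : C (π ^ 2) * (h - ∑ l, c l * hv l) = 0 := by
      rw [mul_sub, ← hr, Finset.mul_sum, sub_eq_zero]
      simp only [hr', Finset.sum_mul]
      rw [Finset.sum_comm]
      refine Finset.sum_congr rfl fun l _ => ?_
      rw [mul_left_comm, ← hrel, Finset.mul_sum]
      exact Finset.sum_congr rfl fun j _ => by ring
    have h2 : C π * rn (h - ∑ l, c l * hv l) = 0 := by
      rw [← rename_C (Sum.inl : Fin n → V) π, ← map_mul, C_mul_eq_zero π hR h1, map_zero]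
    have h3 : (∑ j, rename Sum.inl (r j) * X (Sum.inr j)) - C π * rename Sum.inl h = ∑ l, rn (c l) * Rel l := by
      have h4 : C π * rn h = ∑ l, C π * (rn (c l) * rn (hv l)) := by
        rw [map_sub, mul_sub, sub_eq_zero, map_sum, Finset.mul_sum] at h2
        simpa only [map_mul] using h2
      change _ - C π * rn h = _
      rw [h4]
      simp only [Rel, mul_sub, Finset.sum_sub_distrib, hr', map_sum, Finset.sum_mul, Finset.mul_sum, rn]
      rw [Finset.sum_comm]
      refine congrArg₂ (fun a b : MvPolynomial V R => a - b) (Finset.sum_congr rfl fun l _ =>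
        Finset.sum_congr rfl fun j _ => ?_) (Finset.sum_congr rfl fun l _ => ?_)
      · rw [map_mul]; ring
      · ring
    rw [h3]
    exact Submodule.sum_mem _ fun l _ => Ideal.mul_mem_left _ _ (Ideal.subset_span ⟨Sum.inr l, rfl⟩)
  let D := MvPolynomial V R ⧸ I
  haveI hfp : Algebra.FinitePresentation R D :=
    Algebra.FinitePresentation.quotient (Submodule.fg_span (Set.finite_range _))
  let δV : MvPolynomial V R →ₐ[R] Λ := aeval (Sum.elim lam fun j => π • mu j)
  have hδl : ∀ p, δV (rename Sum.inl p) = aeval lam p := fun p => by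
    show aeval _ (rename Sum.inl p) = _
    rw [aeval_rename]; rfl
  have hδ : ∀ x ∈ I, δV x = 0 := fun x hx => by
    refine (Ideal.span_le (I := RingHom.ker δV)).mpr ?_ hx
    rintro _ ⟨j | l, rfl⟩ <;> simp only [SetLike.mem_coe, RingHom.mem_ker, Sum.elim_inl, Sum.elim_inr, E, Rel,
      map_sub, map_sum, map_mul, hδl]
    · simp only [δV, aeval_C, aeval_X, Sum.elim_inr, Algebra.smul_def]
      rw [← hmu, map_pow]; ring
    · simp only [δV, aeval_C, aeval_X, Sum.elim_inr]
      set A := ∑ j, aeval lam (rv l j) * mu j - aeval lam (hv l) with hA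
      have h1 : algebraMap R Λ π ^ 2 * A = 0 := by
        have h0 := congrArg (aeval lam) (hrel l)
        simp only [map_sum, map_mul, ← hmu, aeval_C, map_pow] at h0
        simp only [hA, mul_sub, Finset.mul_sum, ← h0, ← Finset.sum_sub_distrib]
        exact Finset.sum_eq_zero fun j _ => by ring
      have h2 := hΛ A (by rw [Algebra.smul_def, map_pow]; exact h1)
      rw [Algebra.smul_def] at h2
      refine Eq.trans ?_ h2
      simp only [hA, mul_sub, Finset.mul_sum, Algebra.smul_def]
      exact congrArg₂ (fun a b : Λ => a - b) (Finset.sum_congr rfl fun j _ => by ring) rfl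
  let δ : D →ₐ[R] Λ := Ideal.Quotient.liftₐ I δV hδ
  let Ψ : MvPolynomial (Fin n) R →ₐ[R] D ⧸ Ideal.span {algebraMap R D π} :=
    (Ideal.Quotient.mkₐ R _).comp ((Ideal.Quotient.mkₐ R I).comp rn)
  have hπ0 : (Ideal.Quotient.mk (Ideal.span {algebraMap R D π})) (Ideal.Quotient.mk I (C π)) = 0 :=
    Ideal.Quotient.eq_zero_iff_mem.mpr (Ideal.mem_span_singleton_self _)
  have hΨ : RingHom.ker Φ ≤ RingHom.ker Ψ := by
    rw [hkΦ]
    refine sup_le (Ideal.span_le.mpr ?_) ((Ideal.span_singleton_le_iff_mem _).mpr ?_)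
    · rintro _ ⟨j, rfl⟩
      show Ideal.Quotient.mk _ (Ideal.Quotient.mk I (rename Sum.inl (f j))) = 0
      rw [show Ideal.Quotient.mk I (rename Sum.inl (f j)) = Ideal.Quotient.mk I (C π * X (Sum.inr j)) from
        Ideal.Quotient.eq.mpr (Ideal.subset_span ⟨Sum.inl j, rfl⟩), map_mul, map_mul, hπ0]
      exact zero_mul (Ideal.Quotient.mk (Ideal.span {algebraMap R D π}) (Ideal.Quotient.mk I (X (Sum.inr j))))
    · show Ideal.Quotient.mk _ (Ideal.Quotient.mk I (rename Sum.inl (C (π ^ 2)))) = 0
      rw [rename_C, map_pow, map_pow, map_pow, hπ0, pow_two]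
      exact mul_zero (0 : D ⧸ Ideal.span {algebraMap R D π})
  let e : (MvPolynomial (Fin n) R ⧸ RingHom.ker Φ) ≃ₐ[R] C₀ := Ideal.quotientKerAlgEquivOfSurjective hΦ
  let ψ : C₀ →ₐ[R] D ⧸ Ideal.span {algebraMap R D π} :=
    (Ideal.Quotient.liftₐ _ Ψ fun p hp => hΨ hp).comp e.symm.toAlgHom
  have hψ : ∀ p, ψ (Φ p) = Ψ p := fun p => by
    have he : e.symm (Φ p) = Ideal.Quotient.mk _ p := by rw [AlgEquiv.symm_apply_eq]; rfl
    simp only [ψ, AlgHom.comp_apply, AlgEquiv.coe_toAlgHom, he]
    rfl
  refine ⟨D, inferInstance, inferInstance, hfp, δ, ψ, fun c d l hd hl => ?_, fun Q _ hπQ => ?_, fun Q _ hsm => ?_⟩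
  · obtain ⟨p, rfl⟩ := hΦ c
    rw [hψ] at hd
    obtain ⟨u, hu⟩ := Ideal.mem_span_singleton'.mp (Ideal.Quotient.eq.mp hd)
    obtain ⟨v, hv⟩ := Ideal.mem_span_singleton'.mp (Ideal.Quotient.eq.mp (hl.trans (hgΦ p).symm))
    refine Ideal.mem_span_singleton'.mpr ⟨δ u - v * algebraMap R Λ π, ?_⟩
    have h1 := congrArg δ hu
    rw [map_mul, map_sub, AlgHom.commutes] at h1
    have h2 : δ (Ideal.Quotient.mk I (rn p)) = aeval lam p := hδl p
    rw [map_pow] at hv
    change δ u * algebraMap R Λ π = δ d - δ (Ideal.Quotient.mk I (rn p)) at h1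
    linear_combination h1 - hv - h2
  · have hdet : (Matrix.of fun j k : Fin m => pderiv (Sum.inr k : V) (E j)) = Matrix.diagonal fun _ => -(C π) := by
      ext j k : 1
      have hne : ∀ (i : Fin m) (x : MvPolynomial (Fin n) R), pderiv (Sum.inr i : V) (rename Sum.inl x) = 0 :=
        fun i x => by
          induction x using MvPolynomial.induction_on with
          | C r => simp
          | add p q hp hq => simp [map_add, hp, hq]
          | mul_X p k hp => simp [map_mul, hp, Derivation.leibniz]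
      rcases eq_or_ne j k with h | h
      · subst h; simp [E, hne, pderiv_C_mul]
      · simp [E, hne, pderiv_C_mul, Matrix.diagonal_apply_ne _ h,
          Pi.single_apply, h]
    have hstd : _root_.Smoothing.IsStrictlyStandard R D (Ideal.Quotient.mk I (C π * (-(C π)) ^ m)) := by
      refine isStrictlyStandard_of_span_eq (by simp [V]) (Sum.elim E Rel) I rfl ((-(C π)) ^ m) (C π)
        (fun k => Sum.inr k) ?_ fun l => ?_
      · simp only [Sum.elim_inl]
        rw [hdet, Matrix.det_diagonal, Finset.prod_const, Finset.card_univ, Fintype.card_fin]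
      · rw [mul_comm (C π), mul_assoc]
        refine Ideal.mul_mem_left _ _ ?_
        have : C π * Rel l = -∑ j, rn (rv l j) * E j := by
          have h0 := congrArg rn (hrel l)
          simp only [rn, map_sum, map_mul, rename_C, map_pow] at h0
          simp only [Rel, E, rn, mul_sub, Finset.sum_sub_distrib, Finset.mul_sum, neg_sub, h0]
          refine congrArg₂ (fun a b : MvPolynomial V R => a - b) (Finset.sum_congr rfl fun j _ => ?_) ?_ <;> ring
        show C π * Rel l ∈ _
        rw [this]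
        exact neg_mem (Submodule.sum_mem _ fun j _ => Ideal.mul_mem_left _ _ (Ideal.subset_span ⟨j, rfl⟩))
    refine isSmoothAt_of_standard hstd Q fun h => hπQ ?_
    rw [map_mul, map_pow, map_neg] at h
    rcases (inferInstance : Q.IsPrime).mem_or_mem h with h' | h'
    · exact h'
    · exact neg_mem_iff.mp ((inferInstance : Q.IsPrime).mem_of_pow_mem _ h')
  · let qc := Q.comap ψ
    haveI : qc.IsPrime := inferInstance
    haveI : Algebra.IsSmoothAt Rb qc := hsm
    obtain ⟨a, haq, c, rows, cols, a', ha, hkill⟩ :=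
      exists_standard_element fb φb hφb hfb.symm qc
    let q : Ideal (MvPolynomial (Fin n) R) := Ideal.comap Φ qc
    haveI : q.IsPrime := inferInstance
    let QP : Ideal (MvPolynomial V R) :=
      Ideal.comap (Ideal.Quotient.mk I) (Q.comap (Ideal.Quotient.mk (Ideal.span {algebraMap R D π})))
    haveI : QP.IsPrime := inferInstance
    have hq : ∀ p, rename Sum.inl p ∈ QP ↔ p ∈ q := fun p => by
      show Ψ p ∈ Q ↔ ψ (Φ p) ∈ Q
      rw [hψ]
    have hfq : ∀ j, f j ∈ q := fun j => by
      show Φ (f j) ∈ qc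
      rw [hf0]; exact zero_mem _
    have hπq : C π ∈ q := by
      rw [← hq]
      show Ideal.Quotient.mk _ (Ideal.Quotient.mk I (rename Sum.inl (C π))) ∈ Q
      rw [rename_C, hπ0]
      exact zero_mem _
    have hIQ : I ≤ QP := fun x hx => by
      show Ideal.Quotient.mk _ (Ideal.Quotient.mk I x) ∈ Q
      rw [Ideal.Quotient.eq_zero_iff_mem.mpr hx, map_zero]
      exact zero_mem _
    have hminor : μ (Matrix.det (Matrix.of fun j k : Fin c => pderiv (cols k) (f (rows j)))) =
        _root_.Smoothing.jacobianMinor fb rows cols := by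
      rw [_root_.Smoothing.jacobianMinor, RingHom.map_det]
      refine congrArg Matrix.det (Matrix.ext fun j k => ?_)
      simp only [RingHom.mapMatrix_apply, Matrix.map_apply, Matrix.of_apply, μ, ← pderiv_map]
      rw [← hf]
    have hΔ : Matrix.det (Matrix.of fun j k : Fin c => pderiv (cols k) (f (rows j))) ∉ q := fun h => haq (by
      rw [ha]
      refine qc.mul_mem_left _ ?_
      have h' : Φ _ ∈ qc := h
      rwa [hΦμ, hminor] at h')
    obtain ⟨a₁, ha₁⟩ := hΦ a
    have ha₁q : a₁ ∉ q := fun h => haq (ha₁ ▸ h)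
    have hk : ∀ l, a₁ * f l ∈ Ideal.span (Set.range (f ∘ rows)) ⊔ Ideal.span {C (π ^ 2)} ⊔
        Ideal.span (Set.range f) ^ 2 := by
      intro l
      have h := hkill (μ a₁) ((hΦμ a₁).symm.trans ha₁) l
      rw [← hf l, ← map_mul, ← himg, ← Ideal.map_pow,
        show Set.range (fb ∘ rows) = μ '' Set.range (f ∘ rows) by
          rw [← Set.range_comp]; exact congrArg Set.range (funext fun k => (hf (rows k)).symm),
        ← Ideal.map_span, ← Ideal.map_sup] at h
      rw [← Ideal.mem_comap, Ideal.comap_map_of_surjective μ hμ, ← RingHom.ker_eq_comap_bot, hkμ, sup_right_comm] at h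
      exact h
    obtain ⟨a₀, ha₀, hstd⟩ := exists_standard_near π hR f q hfq hπq rows cols hΔ a₁ ha₁q hk rv hv hrel I rfl hgen
      QP hIQ hq
    exact isSmoothAt_of_standard hstd _ ha₀

end Groth.L14.Smoothing.Lift
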