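import Groth.Agent.L14.Smoothing.NilpotentDeform
import Mathlib.RingTheory.Flat.EquationalCriterion
import Mathlib.RingTheory.Etale.Field
import Mathlib.RingTheory.Smooth.Basic
import Mathlib.RingTheory.Unramified.LocalRing
import Mathlib.RingTheory.Flat.Stability
import Mathlib.RingTheory.Flat.FaithfullyFlat.Algebra
import Mathlib.RingTheory.TensorProduct.Quotient

/-!
Ind-smoothness of unramified flat Artinian algebras.
-/

set_option autoImplicit false
set_option maxSynthPendingDepth 3
set_option linter.style.haveILetI false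

noncomputable section

open IsLocalRing TensorProduct

namespace Groth.L14.Smoothing.Insep

universe u

/-- Flatness descends along a faithfully flat extension. -/
theorem ringHom_flat_of_comp {R S T : Type u} [CommRing R] [CommRing S] [CommRing T]
    [Algebra R S] [Algebra S T] [Algebra R T] [IsScalarTower R S T] [Module.Flat R T]
    [Module.FaithfullyFlat S T] : Module.Flat R S := by
  rw [Module.Flat.iff_lTensor_injective']
  intro I
  rw [injective_iff_map_eq_zero]
  intro z hz
  apply Module.FaithfullyFlat.tensorProduct_mk_injective (A := S) (B := T) (S ⊗[R] I)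
  rw [map_zero]
  apply (AlgebraTensorModule.cancelBaseChange R S S T I).injective
  rw [map_zero]
  apply Module.Flat.lTensor_preserves_injective_linearMap (M := T) I.subtype Subtype.val_injective
  rw [map_zero]
  have key : ∀ w : S ⊗[R] I, (I.subtype.lTensor T)
      (AlgebraTensorModule.cancelBaseChange R S S T I ((1 : T) ⊗ₜ[S] w)) =
      ((IsScalarTower.toAlgHom R S T).toLinearMap.rTensor R) (I.subtype.lTensor S w) := by
    intro w
    induction w using TensorProduct.induction_on with
    | zero => simp
    | tmul s a => simp [Algebra.smul_def]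
    | add a b ha hb => simp only [TensorProduct.tmul_add, map_add, ha, hb]
  exact (key z).trans (by rw [hz, map_zero])

/-- Flatness modulo an ideal descends along a faithfully flat extension. -/
theorem flat_quotient_of_faithfullyFlat {R A T : Type u} [CommRing R] [CommRing A] [CommRing T] [Algebra R A]
    [Algebra A T] [Algebra R T] [IsScalarTower R A T] [Module.FaithfullyFlat A T] (K : Ideal R)
    [Module.Flat (R ⧸ K) (T ⧸ K.map (algebraMap R T))] :
    Module.Flat (R ⧸ K) (A ⧸ K.map (algebraMap R A)) := by
  let A' := A ⧸ K.map (algebraMap R A)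
  let T' := T ⧸ K.map (algebraMap R T)
  have hmap : K.map (algebraMap R T) = (K.map (algebraMap R A)).map (algebraMap A T) := by
    rw [Ideal.map_map, ← IsScalarTower.algebraMap_eq]
  letI : Algebra A' T' := (Ideal.quotientMap (K.map (algebraMap R T)) (algebraMap A T)
    (by rw [hmap]; exact Ideal.le_comap_map)).toAlgebra
  haveI : IsScalarTower (R ⧸ K) A' T' := IsScalarTower.of_algebraMap_eq fun r => by
    obtain ⟨r, rfl⟩ := Ideal.Quotient.mk_surjective r
    show Ideal.Quotient.mk _ (algebraMap R T r) = Ideal.Quotient.mk _ (algebraMap A T (algebraMap R A r))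
    rw [← IsScalarTower.algebraMap_apply R A T]
  haveI : IsScalarTower A A' T' := IsScalarTower.of_algebraMap_eq fun a => rfl
  let E : (A' ⊗[A] T) ≃ₐ[A] T' :=
    (Algebra.TensorProduct.comm A A' T).trans
      (((Algebra.TensorProduct.quotIdealMapEquivTensorQuot T (K.map (algebraMap R A))).symm.restrictScalars A).trans
        (Ideal.quotientEquivAlgOfEq A hmap.symm))
  haveI : Module.FaithfullyFlat A' T' := Module.FaithfullyFlat.of_linearEquiv A' (A' ⊗[A] T)
    (AlgEquiv.extendScalarsOfSurjective (R := A) (S := A') Ideal.Quotient.mk_surjective E).toLinearEquiv.symm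
  exact ringHom_flat_of_comp (R := R ⧸ K) (S := A') (T := T')

/-- A finite separable field extension is ind-smooth. -/
theorem indSmooth_separable (E F : Type u) [Field E] [Field F] [Algebra E F] [Module.Finite E F]
    [Algebra.IsSeparable E F] : _root_.Smoothing.IndSmooth E F := by
  haveI : Algebra.FormallyEtale E F := Algebra.FormallyEtale.of_isSeparable E F
  haveI : Algebra.FinitePresentation E F := Algebra.FinitePresentation.of_finiteType.mp inferInstance
  exact fun A _ _ _ f => ⟨F, inferInstance, inferInstance, { }, f, AlgHom.id E F, AlgHom.id_comp f⟩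

/-- An unramified algebra flat modulo a primary ideal is ind-smooth modulo that ideal. -/
theorem indSmooth_of_unramified {R A : Type u} [CommRing R] [IsLocalRing R] [IsNoetherianRing R] [CommRing A]
    [IsLocalRing A] [Algebra R A] [IsLocalHom (algebraMap R A)] [Algebra.EssFiniteType R A]
    [Algebra.FormallyUnramified R A] (K : Ideal R) (hK : K ≤ maximalIdeal R) (N : ℕ)
    (hN : maximalIdeal R ^ N ≤ K) [Module.Flat (R ⧸ K) (A ⧸ K.map (algebraMap R A))] :
    _root_.Smoothing.IndSmooth (R ⧸ K) (A ⧸ K.map (algebraMap R A)) := by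
  let R' := R ⧸ K
  let A' := A ⧸ K.map (algebraMap R A)
  let I : Ideal R' := (maximalIdeal R).map (Ideal.Quotient.mk K)
  have hI : I ^ N = ⊥ := by
    rw [← Ideal.map_pow, ← le_bot_iff, ← Ideal.map_quotient_self K]
    exact Ideal.map_mono hN
  refine Groth.L14.Smoothing.Deform.indSmooth_of_nilpotent N I hI ?_
  have hpA : (maximalIdeal R).map (algebraMap R A) = maximalIdeal A :=
    Algebra.FormallyUnramified.map_maximalIdeal
  have hIA : I.map (algebraMap R' A') = (maximalIdeal A).map (Ideal.Quotient.mk _) := by
    rw [Ideal.map_map, ← hpA, Ideal.map_map]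
    rfl
  let E := ResidueField R
  let toI : R →+* R' ⧸ I := (Ideal.Quotient.mk I).comp (Ideal.Quotient.mk K)
  have htoI : RingHom.ker toI = maximalIdeal R := by
    rw [← RingHom.comap_ker, Ideal.mk_ker, Ideal.comap_map_of_surjective' _ Ideal.Quotient.mk_surjective,
      Ideal.mk_ker, sup_eq_left.mpr hK]
  letI : Algebra E (R' ⧸ I) := (Ideal.Quotient.lift (maximalIdeal R) toI fun r hr => by
    rw [← htoI] at hr; exact hr : E →+* R' ⧸ I).toAlgebra
  have hbij : Function.Bijective (algebraMap E (R' ⧸ I)) := by
    haveI : Nontrivial (R' ⧸ I) := by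
      refine Ideal.Quotient.nontrivial_iff.mpr fun h => ?_
      have h1 : (1 : R) ∈ RingHom.ker toI := by
        rw [RingHom.mem_ker, map_one, eq_comm]
        show (0 : R' ⧸ I) = 1
        rw [← map_one (Ideal.Quotient.mk I), eq_comm, Ideal.Quotient.eq_zero_iff_mem, h]
        trivial
      rw [htoI] at h1
      exact (maximalIdeal.isMaximal R).ne_top ((Ideal.eq_top_iff_one _).mpr h1)
    refine ⟨RingHom.injective _, fun z => ?_⟩
    obtain ⟨z, rfl⟩ := Ideal.Quotient.mk_surjective z
    obtain ⟨r, rfl⟩ := Ideal.Quotient.mk_surjective z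
    exact ⟨residue R r, rfl⟩
  let F := ResidueField A
  let toA : A →+* A' ⧸ I.map (algebraMap R' A') := (Ideal.Quotient.mk _).comp (Ideal.Quotient.mk _)
  have htoA : RingHom.ker toA = maximalIdeal A := by
    rw [← RingHom.comap_ker, Ideal.mk_ker, hIA, Ideal.comap_map_of_surjective' _ Ideal.Quotient.mk_surjective,
      Ideal.mk_ker, sup_eq_left.mpr (hpA ▸ Ideal.map_mono hK)]
  letI : Algebra E (A' ⧸ I.map (algebraMap R' A')) :=
    ((algebraMap (R' ⧸ I) (A' ⧸ I.map (algebraMap R' A'))).comp (algebraMap E (R' ⧸ I))).toAlgebra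
  haveI : IsScalarTower E (R' ⧸ I) (A' ⧸ I.map (algebraMap R' A')) := IsScalarTower.of_algebraMap_eq' rfl
  let g0 : F →+* A' ⧸ I.map (algebraMap R' A') := Ideal.Quotient.lift (maximalIdeal A) toA fun s hs => by
    rw [← htoA] at hs; exact hs
  let g : F →ₐ[E] A' ⧸ I.map (algebraMap R' A') :=
    { g0 with
      commutes' := fun c => by
        obtain ⟨c, rfl⟩ := residue_surjective c
        rfl }
  have hg : Function.Bijective g := by
    refine ⟨(injective_iff_map_eq_zero _).mpr fun z hz => ?_, fun z => ?_⟩
    · obtain ⟨s, rfl⟩ := residue_surjective z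
      refine (residue_eq_zero_iff s).mpr ?_
      rw [← htoA]
      exact hz
    · obtain ⟨z, rfl⟩ := Ideal.Quotient.mk_surjective z
      obtain ⟨s, rfl⟩ := Ideal.Quotient.mk_surjective z
      exact ⟨residue A s, rfl⟩
  exact Groth.L14.Smoothing.Deform.indSmooth_congr hbij (AlgEquiv.ofBijective g hg) (indSmooth_separable E F)

end Groth.L14.Smoothing.Insep
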