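import Groth.Agent.L14.Smoothing.SymAlg
import Mathlib.RingTheory.Etale.Kaehler
import Mathlib.RingTheory.Extension.Presentation.Basic
import Mathlib.RingTheory.Extension.Cotangent.Free
import Mathlib.RingTheory.Localization.Away.Basic
import Mathlib.RingTheory.Flat.Basic
import Mathlib.RingTheory.Flat.Stability
import Mathlib.LinearAlgebra.TensorProduct.Prod

/-!
The symmetric algebra of a conormal module: freeness of differentials over smooth opens.
-/

set_option autoImplicit false
set_option linter.style.haveILetI false

noncomputable section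

open TensorProduct SymmetricAlgebra KaehlerDifferential

namespace Groth.L14.Smoothing.ConormalSym

universe u

theorem mem_span_range_of_etale {R S T : Type u} [CommRing R] [CommRing S] [Algebra R S] [CommRing T]
    [Algebra R T] [Algebra S T] [IsScalarTower R S T] [Algebra.FormallyEtale S T] (ω : Ω[T⁄R]) :
    ω ∈ Submodule.span T (Set.range fun a : S => D R T (algebraMap S T a)) := by
  obtain ⟨z, rfl⟩ := (tensorKaehlerEquivOfFormallyEtale R S T).surjective ω
  induction z using TensorProduct.induction_on with
  | zero => simp
  | tmul c ω =>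
    rw [← mul_one c, ← smul_eq_mul, ← smul_tmul', map_smul]
    refine Submodule.smul_mem _ _ ?_
    have hω : ω ∈ Submodule.span S (Set.range (D R S)) := by rw [span_range_derivation]; trivial
    induction hω using Submodule.span_induction with
    | mem x hx =>
      obtain ⟨x, rfl⟩ := hx
      exact Submodule.subset_span ⟨x, by simp [tensorKaehlerEquivOfFormallyEtale_apply]⟩
    | zero => simp
    | add x y _ _ hx hy => rw [tmul_add, map_add]; exact add_mem hx hy
    | smul r x _ hx =>
      rw [tmul_smul, ← algebraMap_smul T r ((1 : T) ⊗ₜ[S] x), map_smul]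
      exact Submodule.smul_mem _ _ hx
  | add x y hx hy => rw [map_add]; exact add_mem hx hy

/-- Differentials of a localised symmetric algebra split once the module has a connection. -/
theorem free_kaehler {R A A' Q C' : Type u} [CommRing R] [CommRing A] [Algebra R A] [CommRing A']
    [Algebra R A'] [Algebra A A'] [IsScalarTower R A A'] [Algebra.FormallyEtale A A']
    [AddCommGroup Q] [Module A Q] [Module R Q] [IsScalarTower R A Q] [Module.Finite A Q]
    [CommRing C'] [Algebra R C'] [Algebra A C'] [Algebra A' C'] [Algebra (SymmetricAlgebra A Q) C']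
    [IsScalarTower R A' C'] [IsScalarTower A A' C'] [IsScalarTower A (SymmetricAlgebra A Q) C']
    [IsScalarTower R (SymmetricAlgebra A Q) C'] [Algebra.FormallyEtale (SymmetricAlgebra A Q) C']
    [Module.Projective A' (A' ⊗[A] Q)] [Module.Free A' (Ω[A'⁄R] × (A' ⊗[A] Q))] :
    Module.Free C' Ω[C'⁄R] := by
  classical
  let S := SymmetricAlgebra A Q
  let M1 := C' ⊗[A'] Ω[A'⁄R]
  let M2 := C' ⊗[A'] (A' ⊗[A] Q)
  obtain ⟨n, v, hv⟩ := Module.Finite.exists_fin (R := A') (M := A' ⊗[A] Q)
  obtain ⟨s, hs⟩ := Module.projective_lifting_property (Fintype.linearCombination A' v) LinearMap.id (by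
    rw [← LinearMap.range_eq_top, Fintype.range_linearCombination, hv])
  let ι' : A' ⊗[A] Q →ₗ[A'] C' := ((IsScalarTower.toAlgHom A S C').toLinearMap ∘ₗ ι A Q).liftBaseChange A'
  let δ : A →+ M1 × M2 :=
    { toFun := fun a => ((1 : C') ⊗ₜ[A'] D R A' (algebraMap A A' a), 0)
      map_zero' := by simp
      map_add' := fun a b => by simp [tmul_add] }
  let j : Q → A' ⊗[A] Q := fun q => (1 : A') ⊗ₜ[A] q
  have hj : ∀ q, ι' (j q) = algebraMap S C' (ι A Q q) := fun q => by simp [ι', j]
  have hsum : ∀ q, ∑ i, s (j q) i • v i = j q := fun q => by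
    have h := LinearMap.congr_fun hs (j q)
    simpa [Fintype.linearCombination_apply] using h
  let l : Q →+ M1 × M2 :=
    { toFun := fun q => (∑ i, ι' (v i) • ((1 : C') ⊗ₜ[A'] D R A' (s (j q) i)), (1 : C') ⊗ₜ[A'] j q)
      map_zero' := by simp [j]
      map_add' := fun p q => by simp [j, tmul_add, map_add, smul_add, Finset.sum_add_distrib] }
  have htm : ∀ (a : A') (x : Ω[A'⁄R]), (1 : C') ⊗ₜ[A'] (a • x) = algebraMap A' C' a • ((1 : C') ⊗ₜ[A'] x) :=
    fun a x => by rw [algebraMap_smul, tmul_smul]
  have haC : ∀ a : A, algebraMap A' C' (algebraMap A A' a) = algebraMap A C' a := fun a =>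
    (IsScalarTower.algebraMap_apply A A' C' a).symm
  obtain ⟨Δ, hΔa, hΔq, hΔ, hΔR⟩ := SymAlg.exists_derivation (R := R) (A := A) (Q := Q) (M := M1 × M2) δ
    (fun a b => by
      refine Prod.ext ?_ (by simp [δ])
      simp only [δ, AddMonoidHom.coe_mk, ZeroHom.coe_mk, map_mul, Derivation.leibniz, tmul_add, htm, haC,
        Prod.smul_fst, Prod.fst_add, algebraMap_smul, tmul_smul])
    (fun r => by simp [δ, ← IsScalarTower.algebraMap_apply])
    l (fun a q => by
      rw [← algebraMap_smul C' (ι A Q q)]
      refine Prod.ext ?_ ?_
      · have hjs : ∀ i, s (j (a • q)) i = algebraMap A A' a * s (j q) i := fun i => by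
          rw [show j (a • q) = algebraMap A A' a • j q by simp [j, algebraMap_smul], map_smul]
          rfl
        simp only [l, δ, AddMonoidHom.coe_mk, ZeroHom.coe_mk, hjs, Derivation.leibniz, tmul_add, htm, haC,
          Prod.smul_fst, Prod.fst_add, smul_add, Finset.sum_add_distrib, smul_smul, Finset.smul_sum,
          ← algebraMap_smul C' a, mul_comm _ (algebraMap A C' a), ← Finset.sum_smul]
        congr 2
        rw [← hj]
        conv_rhs => rw [← hsum q]
        simp only [map_sum, map_smul, Algebra.smul_def]
        exact Finset.sum_congr rfl fun i _ => mul_comm _ _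
      · simp [l, δ, j, tmul_smul])
  let Δ' : Derivation R S (M1 × M2) :=
    { toFun := Δ
      map_add' := Δ.map_add
      map_smul' := fun r x => by
        rw [Algebra.smul_def, hΔ, RingHom.id_apply, IsScalarTower.algebraMap_apply R A S, hΔR, smul_zero,
          add_zero, algebraMap_smul, algebraMap_smul]
      map_one_eq_zero' := by
        show Δ 1 = 0
        have h := hΔR 1
        rwa [map_one, map_one] at h
      leibniz' := hΔ }
  let e := tensorKaehlerEquivOfFormallyEtale R S C'
  let Φ : Ω[C'⁄R] →ₗ[C'] M1 × M2 := (Δ'.liftKaehlerDifferential.liftBaseChange C') ∘ₗ e.symm.toLinearMap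
  have hΦ : ∀ x : S, Φ (D R C' (algebraMap S C' x)) = Δ x := fun x => by
    simp [Φ, e, tensorKaehlerEquivOfFormallyEtale_symm_D_algebraMap, Δ']
  let μ : M1 →ₗ[C'] Ω[C'⁄R] := (KaehlerDifferential.map R R A' C').liftBaseChange C'
  have hμ : ∀ a, μ ((1 : C') ⊗ₜ[A'] D R A' a) = D R C' (algebraMap A' C' a) := fun a => by
    show (1 : C') • KaehlerDifferential.map R R A' C' (D R A' a) = _
    rw [one_smul, KaehlerDifferential.map_D]
  let w : Q →ₗ[A] Ω[C'⁄R] :=
    { toFun := fun q => D R C' (algebraMap S C' (ι A Q q)) - μ (l q).1
      map_add' := fun p q => by simp only [map_add, Prod.fst_add]; abel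
      map_smul' := fun a q => by
        have h1 : l (a • q) = a • l q + algebraMap S C' (ι A Q q) • δ a := by
          have h := hΔq (a • q)
          rw [map_smul, Algebra.smul_def, hΔ, hΔq, hΔa, algebraMap_smul, ← algebraMap_smul C' (ι A Q q)] at h
          exact h.symm
        rw [h1, map_smul, Algebra.smul_def, map_mul, Derivation.leibniz, RingHom.id_apply, Prod.fst_add,
          Prod.smul_fst, Prod.smul_fst, map_add, LinearMap.map_smul_of_tower, map_smul, smul_sub,
          show (δ a).1 = (1 : C') ⊗ₜ[A'] D R A' (algebraMap A A' a) from rfl, hμ, haC,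
          ← IsScalarTower.algebraMap_apply A S C', algebraMap_smul]
        abel }
  let Ψ : M1 × M2 →ₗ[C'] Ω[C'⁄R] :=
    μ.coprod ((w.liftBaseChange A').liftBaseChange C')
  have h12 : Φ ∘ₗ Ψ = LinearMap.id := by
    refine LinearMap.prod_ext ?_ ?_
    · refine TensorProduct.AlgebraTensorModule.curry_injective (LinearMap.ext_ring (LinearMap.ext fun ω => ?_))
      have hω : ω ∈ Submodule.span A' (Set.range fun a : A => D R A' (algebraMap A A' a)) :=
        mem_span_range_of_etale ω
      show Φ (Ψ ((1 : C') ⊗ₜ[A'] ω, 0)) = ((1 : C') ⊗ₜ[A'] ω, 0)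
      simp only [Ψ, LinearMap.coprod_apply, map_zero, add_zero]
      induction hω using Submodule.span_induction with
      | mem x hx =>
        obtain ⟨a, rfl⟩ := hx
        rw [hμ, haC, IsScalarTower.algebraMap_apply A S C', hΦ]
        exact hΔa a
      | zero =>
        rw [tmul_zero, map_zero, map_zero]
        rfl
      | add x y _ _ hx hy => simp [tmul_add, map_add, hx, hy]
      | smul c x _ hx =>
        rw [htm, map_smul, map_smul, hx]
        simp
    · refine TensorProduct.AlgebraTensorModule.curry_injective (LinearMap.ext_ring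
        (TensorProduct.AlgebraTensorModule.curry_injective (LinearMap.ext_ring (LinearMap.ext fun q => ?_))))
      show Φ (μ 0 + (w.liftBaseChange A').liftBaseChange C' ((1 : C') ⊗ₜ[A'] j q)) = (0, (1 : C') ⊗ₜ[A'] j q)
      simp only [map_zero, zero_add, LinearMap.liftBaseChange_tmul, one_smul, j]
      show Φ (D R C' (algebraMap S C' (ι A Q q)) - μ (l q).1) = _
      rw [map_sub, hΦ, hΔq]
      have h2 : Φ (μ (l q).1) = ((l q).1, 0) := by
        simp only [l, AddMonoidHom.coe_mk, ZeroHom.coe_mk, map_sum, map_smul, hμ]
        rw [Prod.ext_iff]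
        have h3 : ∀ b : A', Φ (D R C' (algebraMap A' C' b)) = ((1 : C') ⊗ₜ[A'] D R A' b, 0) := by
          intro b
          have hb : D R A' b ∈ Submodule.span A' (Set.range fun a : A => D R A' (algebraMap A A' a)) :=
            mem_span_range_of_etale _
          rw [← hμ]
          generalize D R A' b = ω at hb
          induction hb using Submodule.span_induction with
          | mem x hx =>
            obtain ⟨a, rfl⟩ := hx
            rw [hμ, haC, IsScalarTower.algebraMap_apply A S C', hΦ, hΔa]
            rfl
          | zero => simp only [tmul_zero, map_zero]; rfl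
          | add x y _ _ hx hy => simp [tmul_add, map_add, hx, hy]
          | smul c x _ hx => rw [htm, map_smul, map_smul, hx]; simp
        simp [h3, Prod.fst_sum, Prod.snd_sum]
      rw [h2]
      simp [l, j]
  have h21 : Ψ ∘ₗ Φ = LinearMap.id := by
    have hS : ∀ x : S, Ψ (Δ x) = D R C' (algebraMap S C' x) := by
      intro x
      induction x using SymmetricAlgebra.induction with
      | algebraMap a =>
        rw [hΔa, ← IsScalarTower.algebraMap_apply, ← haC, ← hμ]
        simp [Ψ, δ]
      | ι q =>
        rw [hΔq]
        simp only [Ψ, LinearMap.coprod_apply]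
        show μ (l q).1 + (w.liftBaseChange A').liftBaseChange C' ((1 : C') ⊗ₜ[A'] j q) = _
        simp only [LinearMap.liftBaseChange_tmul, one_smul, j]
        show μ (l q).1 + (D R C' (algebraMap S C' (ι A Q q)) - μ (l q).1) = _
        abel
      | mul x y hx hy =>
        rw [hΔ, map_mul, Derivation.leibniz, map_add, LinearMap.map_smul_of_tower, LinearMap.map_smul_of_tower,
          hx, hy, algebraMap_smul, algebraMap_smul]
      | add x y hx hy => simp [map_add, hx, hy]
    refine LinearMap.ext fun z => ?_
    obtain ⟨z, rfl⟩ := e.surjective z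
    induction z using TensorProduct.induction_on with
    | zero => simp
    | tmul c ω =>
      have hω : ω ∈ Submodule.span S (Set.range (D R S)) := by rw [span_range_derivation]; trivial
      induction hω using Submodule.span_induction with
      | mem x hx =>
        obtain ⟨x, rfl⟩ := hx
        rw [← mul_one c, ← smul_eq_mul, ← smul_tmul', map_smul, map_smul,
          show e ((1 : C') ⊗ₜ[S] D R S x) = D R C' (algebraMap S C' x) by
            simp [e, tensorKaehlerEquivOfFormallyEtale_apply],
          LinearMap.comp_apply, hΦ, hS, LinearMap.id_apply]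
      | zero => simp
      | add x y _ _ hx hy => simp [tmul_add, map_add, hx, hy]
      | smul r x _ hx => rw [tmul_smul, ← algebraMap_smul C' r (c ⊗ₜ[S] x), map_smul, map_smul, hx, map_smul]
    | add x y hx hy => simp [map_add, hx, hy]
  let E : (M1 × M2) ≃ₗ[C'] Ω[C'⁄R] := LinearEquiv.ofLinearMap Ψ Φ h21 h12
  let T : (C' ⊗[A'] (Ω[A'⁄R] × (A' ⊗[A] Q))) ≃ₗ[C'] M1 × M2 :=
    TensorProduct.prodRight A' C' C' Ω[A'⁄R] (A' ⊗[A] Q)
  exact Module.Free.of_equiv (T.trans E)

variable (R A : Type u) [CommRing R] [CommRing A] [Algebra R A]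

/-- Over a smooth open the conormal module and the differentials add up to a free module. -/
theorem projective_and_free {m : ℕ} (P : Algebra.Generators R A (Fin m)) (A' : Type u) [CommRing A']
    [Algebra R A'] [Algebra A A'] [IsScalarTower R A A'] (M : Submonoid A) [IsLocalization M A']
    [Algebra.FormallySmooth R A'] :
    Module.Projective A' (A' ⊗[A] P.toExtension.Cotangent) ∧
      Module.Free A' (Ω[A'⁄R] × (A' ⊗[A] P.toExtension.Cotangent)) := by
  haveI : Module.Flat A A' := IsLocalization.flat A' M
  haveI : Algebra.FormallyEtale A A' := Algebra.FormallyEtale.of_isLocalization M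
  haveI : Subsingleton (A' ⊗[A] Algebra.H1Cotangent R A) :=
    (Algebra.tensorH1CotangentOfIsLocalization R A' M).toEquiv.subsingleton
  haveI : Subsingleton (A' ⊗[A] P.toExtension.H1Cotangent) :=
    (TensorProduct.congr (LinearEquiv.refl A A') P.equivH1Cotangent).toEquiv.subsingleton
  let f := P.toExtension.cotangentComplex.baseChange A'
  let g : A' ⊗[A] P.toExtension.CotangentSpace →ₗ[A'] Ω[A'⁄R] :=
    (tensorKaehlerEquivOfFormallyEtale R A A').toLinearMap ∘ₗ P.toExtension.toKaehler.baseChange A'
  have hinj : Function.Injective f := by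
    have h1 := Module.Flat.lTensor_exact A' P.toExtension.exact_hCotangentι_cotangentComplex
    rw [← LinearMap.ker_eq_bot, eq_bot_iff]
    intro x hx
    obtain ⟨y, rfl⟩ := (h1 x).mp hx
    rw [Subsingleton.elim y 0, map_zero]
    exact zero_mem _
  have hexact : Function.Exact f g :=
    (LinearEquiv.postcomp_exact_iff_exact (e := tensorKaehlerEquivOfFormallyEtale R A A')).mpr
      (lTensor_exact A' P.toExtension.exact_cotangentComplex_toKaehler P.toExtension.toKaehler_surjective)
  have hg : Function.Surjective g := (tensorKaehlerEquivOfFormallyEtale R A A').surjective.comp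
    (LinearMap.lTensor_surjective _ P.toExtension.toKaehler_surjective)
  obtain ⟨σ, hσ⟩ := Module.projective_lifting_property g LinearMap.id hg
  have hσ' : ∀ ω, g (σ ω) = ω := fun ω => LinearMap.congr_fun hσ ω
  have hbij : Function.Bijective (σ.coprod f) := by
    refine ⟨(injective_iff_map_eq_zero _).mpr fun x hx => ?_, fun z => ?_⟩
    · simp only [LinearMap.coprod_apply] at hx
      have h2 := congrArg g hx
      rw [map_add, hσ', hexact.apply_apply_eq_zero, add_zero, map_zero] at h2
      rw [h2, map_zero, zero_add] at hx
      exact Prod.ext h2 (hinj (hx.trans (map_zero f).symm))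
    · obtain ⟨y, hy⟩ := (hexact (z - σ (g z))).mp (by rw [map_sub, hσ', sub_self])
      exact ⟨(g z, y), by simp [hy]⟩
  let e := LinearEquiv.ofBijective _ hbij
  haveI : Module.Free A P.toExtension.CotangentSpace := .of_basis P.cotangentSpaceBasis
  haveI hfree : Module.Free A' (Ω[A'⁄R] × (A' ⊗[A] P.toExtension.Cotangent)) := Module.Free.of_equiv e.symm
  exact ⟨Module.Projective.of_split (LinearMap.inr A' _ _) (LinearMap.snd A' Ω[A'⁄R] _)
    (LinearMap.ext fun _ => rfl), hfree⟩

theorem exists_retract [Algebra.FinitePresentation R A] :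
    ∃ (C : Type u) (_ : CommRing C) (_ : Algebra A C) (_ : Algebra R C) (_ : IsScalarTower R A C),
      Algebra.FiniteType A C ∧ Nonempty (C →ₐ[A] A) ∧
      ∀ a : A, Algebra.Smooth R (Localization.Away a) →
        Module.Free (Localization.Away (algebraMap A C a)) Ω[Localization.Away (algebraMap A C a)⁄R] := by
  obtain ⟨m, k, ⟨P⟩⟩ := Algebra.Presentation.exists_presentation_fin R A
  let G := P.toGenerators
  haveI : Module.Finite A G.toExtension.Cotangent := Algebra.Extension.Cotangent.finite P.fg_ker
  let S := SymmetricAlgebra A G.toExtension.Cotangent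
  refine ⟨S, inferInstance, inferInstance, inferInstance, inferInstance, inferInstance,
    ⟨SymmetricAlgebra.algebraMapInv⟩, fun a ha => ?_⟩
  haveI := ha
  let A' := Localization.Away a
  let C' := Localization.Away (algebraMap A S a)
  obtain ⟨hp, hf⟩ := projective_and_free R A G A' (Submonoid.powers a)
  haveI := hp
  haveI := hf
  letI : Algebra A' C' := (IsLocalization.Away.lift (g := algebraMap A C') a (by
    rw [IsScalarTower.algebraMap_apply A S C']
    exact IsLocalization.Away.algebraMap_isUnit _) : A' →+* C').toAlgebra
  haveI : IsScalarTower A A' C' := IsScalarTower.of_algebraMap_eq fun x => by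
    rw [RingHom.algebraMap_toAlgebra, IsLocalization.Away.lift_eq]
  haveI : IsScalarTower R A' C' := IsScalarTower.of_algebraMap_eq fun r => by
    rw [IsScalarTower.algebraMap_apply R A A', ← IsScalarTower.algebraMap_apply A A' C',
      ← IsScalarTower.algebraMap_apply R A C']
  haveI : Algebra.FormallyEtale A A' := Algebra.FormallyEtale.of_isLocalization (Submonoid.powers a)
  haveI : Algebra.FormallyEtale S C' := Algebra.FormallyEtale.of_isLocalization (Submonoid.powers (algebraMap A S a))
  exact free_kaehler (R := R) (A := A) (A' := A') (Q := G.toExtension.Cotangent) (C' := C')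

/-- Over a Noetherian base the retract is moreover smooth over the smooth opens. -/
theorem exists_smooth_free_retract [IsNoetherianRing R] [Algebra.FinitePresentation R A] :
    ∃ (C : Type u) (_ : CommRing C) (_ : Algebra A C) (_ : Algebra R C) (_ : IsScalarTower R A C),
      Algebra.FinitePresentation R C ∧ Nonempty (C →ₐ[A] A) ∧
      ∀ a : A, Algebra.Smooth R (Localization.Away a) →
        Algebra.Smooth R (Localization.Away (algebraMap A C a)) ∧
        Module.Free (Localization.Away (algebraMap A C a)) Ω[Localization.Away (algebraMap A C a)⁄R] := by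
  obtain ⟨m, k, ⟨P⟩⟩ := Algebra.Presentation.exists_presentation_fin R A
  let G := P.toGenerators
  let Q := G.toExtension.Cotangent
  haveI : Module.Finite A Q := Algebra.Extension.Cotangent.finite P.fg_ker
  let S := SymmetricAlgebra A Q
  haveI : Algebra.FiniteType R S := Algebra.FiniteType.trans (R := R) (S := A) (A := S) inferInstance inferInstance
  haveI : Algebra.FinitePresentation R S := Algebra.FinitePresentation.of_finiteType.mp inferInstance
  refine ⟨S, inferInstance, inferInstance, inferInstance, inferInstance, inferInstance,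
    ⟨SymmetricAlgebra.algebraMapInv⟩, fun a ha => ?_⟩
  haveI := ha
  let A' := Localization.Away a
  let C' := Localization.Away (algebraMap A S a)
  obtain ⟨hp, hf⟩ := projective_and_free R A G A' (Submonoid.powers a)
  haveI := hp
  haveI := hf
  letI : Algebra A' C' := (IsLocalization.Away.lift (g := algebraMap A C') a (by
    rw [IsScalarTower.algebraMap_apply A S C']
    exact IsLocalization.Away.algebraMap_isUnit _) : A' →+* C').toAlgebra
  haveI : IsScalarTower A A' C' := IsScalarTower.of_algebraMap_eq fun x => by
    rw [RingHom.algebraMap_toAlgebra, IsLocalization.Away.lift_eq]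
  haveI : IsScalarTower R A' C' := IsScalarTower.of_algebraMap_eq fun r => by
    rw [IsScalarTower.algebraMap_apply R A A', ← IsScalarTower.algebraMap_apply A A' C',
      ← IsScalarTower.algebraMap_apply R A C']
  haveI : Algebra.FormallyEtale A A' := Algebra.FormallyEtale.of_isLocalization (Submonoid.powers a)
  haveI : Algebra.FormallyEtale S C' := Algebra.FormallyEtale.of_isLocalization (Submonoid.powers (algebraMap A S a))
  refine ⟨?_, free_kaehler (R := R) (A := A) (A' := A') (Q := Q) (C' := C')⟩
  haveI : Algebra.FinitePresentation S C' := IsLocalization.Away.finitePresentation (algebraMap A S a)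
  haveI : Algebra.FinitePresentation R C' := Algebra.FinitePresentation.trans R S C'
  haveI : Algebra.FormallySmooth A' C' := by
    refine Algebra.FormallySmooth.of_comp_surjective fun B _ _ I hI f => ?_
    letI : Algebra A B := ((algebraMap A' B).comp (algebraMap A A')).toAlgebra
    haveI : IsScalarTower A A' B := IsScalarTower.of_algebraMap_eq fun _ => rfl
    let f0 : S →ₐ[A] B ⧸ I := (f.restrictScalars A).comp (IsScalarTower.toAlgHom A S C')
    obtain ⟨h, hh⟩ := Module.projective_lifting_property ((Ideal.Quotient.mkₐ A' I).toLinearMap)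
      ((f0.toLinearMap ∘ₗ ι A Q).liftBaseChange A') Ideal.Quotient.mk_surjective
    let h0 : Q →ₗ[A] B := h.restrictScalars A ∘ₗ (TensorProduct.mk A A' Q 1)
    let g : S →ₐ[A] B := SymmetricAlgebra.lift h0
    have hg : (Ideal.Quotient.mkₐ A I).comp g = f0 := SymmetricAlgebra.algHom_ext (LinearMap.ext fun q => by
      show Ideal.Quotient.mk I (g (ι A Q q)) = f0 (ι A Q q)
      rw [lift_ι_apply]
      have h1 := LinearMap.congr_fun hh ((1 : A') ⊗ₜ[A] q)
      simp only [LinearMap.comp_apply, LinearMap.liftBaseChange_tmul, one_smul] at h1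
      exact h1)
    have hu : IsUnit (g (algebraMap A S a)) := by
      rw [AlgHom.commutes, IsScalarTower.algebraMap_apply A A' B]
      exact (IsLocalization.Away.algebraMap_isUnit a).map _
    have hpow : ∀ y : Submonoid.powers (algebraMap A S a), IsUnit (g y) := by
      rintro ⟨_, n, rfl⟩
      rw [map_pow]
      exact hu.pow n
    let g' : C' →ₐ[A] B := IsLocalization.liftAlgHom (M := Submonoid.powers (algebraMap A S a)) hpow
    have hg' : ∀ x, g' (algebraMap S C' x) = g x := fun x => IsLocalization.lift_eq _ x
    have hcomm : (g' : C' →+* B).comp (algebraMap A' C') = algebraMap A' B :=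
      IsLocalization.ringHom_ext (Submonoid.powers a) (RingHom.ext fun x => by
        simp only [RingHom.comp_apply, RingHom.coe_coe, ← IsScalarTower.algebraMap_apply A A']
        exact g'.commutes x)
    refine ⟨{ g' with commutes' := fun x => RingHom.congr_fun hcomm x }, AlgHom.coe_ringHom_injective ?_⟩
    refine IsLocalization.ringHom_ext (Submonoid.powers (algebraMap A S a)) (RingHom.ext fun x => ?_)
    show Ideal.Quotient.mk I (g' (algebraMap S C' x)) = f (algebraMap S C' x)
    rw [hg']
    exact AlgHom.congr_fun hg x
  haveI : Algebra.FormallySmooth R C' := Algebra.FormallySmooth.comp R A' C'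
  exact { }

end Groth.L14.Smoothing.ConormalSym
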