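import Groth.Agent.L14.Smoothing.Standard
import Mathlib.LinearAlgebra.Basis.Prod
import Mathlib.Algebra.Module.Projective

/-!
A power of an element with smooth localisation and stably free differentials is strictly standard.
-/

open MvPolynomial KaehlerDifferential TensorProduct

namespace Groth.L14.Smoothing

universe u

variable {R A : Type u} [CommRing R] [CommRing A] [Algebra R A] {n m : ℕ}

/-- The Jacobian row in the localisation. -/
noncomputable def jrow (φ : MvPolynomial (Fin n) R →ₐ[R] A) (a : A) (h : MvPolynomial (Fin n) R) :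
    Fin n → Localization.Away a :=
  fun i => algebraMap A _ (φ (pderiv i h))

theorem jrow_add (φ : MvPolynomial (Fin n) R →ₐ[R] A) (a : A) (h h' : MvPolynomial (Fin n) R) :
    jrow φ a (h + h') = jrow φ a h + jrow φ a h' := by
  funext i; simp [jrow]

theorem jrow_mul (φ : MvPolynomial (Fin n) R →ₐ[R] A) (a : A) (p h : MvPolynomial (Fin n) R) (hh : φ h = 0) :
    jrow φ a (p * h) = algebraMap A (Localization.Away a) (φ p) • jrow φ a h := by
  funext i; simp [jrow, (pderiv i).leibniz, hh]

theorem jrow_sum (φ : MvPolynomial (Fin n) R →ₐ[R] A) (a : A) {ι : Type*} (s : Finset ι)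
    (h : ι → MvPolynomial (Fin n) R) : jrow φ a (∑ j ∈ s, h j) = ∑ j ∈ s, jrow φ a (h j) := by
  funext i; simp [jrow, Finset.sum_apply]

variable (f : Fin m → MvPolynomial (Fin n) R) (φ : MvPolynomial (Fin n) R →ₐ[R] A)
  (hφ : Function.Surjective φ) (hker : RingHom.ker φ.toRingHom = Ideal.span (Set.range f)) {a : A}
include hφ hker

theorem exists_pow_mul_mem_sq [Algebra.FormallySmooth R (Localization.Away a)] {pa : MvPolynomial (Fin n) R}
    (hpa : φ pa = a) {h : MvPolynomial (Fin n) R} (hh : φ h = 0) (hrow : jrow φ a h = 0) :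
    ∃ e : ℕ, pa ^ e * h ∈ Ideal.span (Set.range f) ^ 2 := by
  classical
  let S := Localization.Away a
  let π := awayHom φ a
  letI : Algebra (MvPolynomial (Option (Fin n)) R) S := π.toRingHom.toAlgebra
  haveI : IsScalarTower R (MvPolynomial (Option (Fin n)) R) S :=
    IsScalarTower.of_algebraMap_eq fun r => (π.commutes r).symm
  obtain ⟨l, hl⟩ := (Algebra.FormallySmooth.iff_split_injection (R := R) (P := MvPolynomial (Option (Fin n)) R)
    (A := S) (awayHom_surjective φ a hφ)).mp inferInstance
  let J := RingHom.ker (algebraMap (MvPolynomial (Option (Fin n)) R) S)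
  have hhJ : rename some h ∈ J := by
    show π (rename some h) = 0
    rw [awayHom_rename, hh, map_zero]
  let v : J.Cotangent := J.toCotangent ⟨_, hhJ⟩
  have hv : v = 0 := by
    have h1 := LinearMap.congr_fun hl v
    rw [LinearMap.comp_apply, LinearMap.id_apply, kerCotangentToTensor_toCotangent] at h1
    have h2 : D R (MvPolynomial (Option (Fin n)) R) (rename some h) =
        ∑ i, rename some (pderiv i h) • D R (MvPolynomial (Option (Fin n)) R) (X (some i)) := by
      conv_lhs => rw [← (mvPolynomialBasis R (Option (Fin n))).sum_repr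
        (D R (MvPolynomial (Option (Fin n)) R) (rename some h))]
      rw [Fintype.sum_option]
      simp [pderiv_none_rename, pderiv_some_rename]
    rw [← h1, h2, TensorProduct.tmul_sum, map_sum]
    refine Finset.sum_eq_zero fun i _ => ?_
    rw [TensorProduct.tmul_smul, map_smul]
    have hJ : rename some (pderiv i h) ∈ J := by
      show π (rename some (pderiv i h)) = 0
      rw [awayHom_rename]
      exact congrFun hrow i
    obtain ⟨⟨x, hx⟩, hx'⟩ := J.toCotangent_surjective
      (l ((1 : S) ⊗ₜ D R (MvPolynomial (Option (Fin n)) R) (X (some i))))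
    rw [← hx', ← map_smul, Ideal.toCotangent_eq_zero, pow_two]
    exact Ideal.mul_mem_mul hJ hx
  have hsq : rename some h ∈ J ^ 2 := (Ideal.toCotangent_eq_zero J _).mp hv
  let L := Localization.Away pa
  let ψ : MvPolynomial (Option (Fin n)) R →ₐ[R] L :=
    aeval fun o => o.elim (IsLocalization.Away.invSelf pa) fun i => algebraMap (MvPolynomial (Fin n) R) L (X i)
  have hψr : ∀ p, ψ (rename some p) = algebraMap _ L p := by
    intro p
    have : ψ.comp (rename some) = IsScalarTower.toAlgHom R (MvPolynomial (Fin n) R) L :=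
      MvPolynomial.algHom_ext fun i => by simp [ψ]
    exact DFunLike.congr_fun this p
  have hψg : ψ (invRel pa) = 0 := by
    rw [invRel, map_sub, map_mul, map_one, hψr, show ψ (X none) = IsLocalization.Away.invSelf pa by simp [ψ],
      mul_comm, IsLocalization.Away.mul_invSelf, sub_self]
  have hJle : J.map ψ.toRingHom ≤ (Ideal.span (Set.range f)).map (algebraMap (MvPolynomial (Fin n) R) L) := by
    refine Ideal.map_le_iff_le_comap.mpr fun x hx => ?_
    refine ker_awayHom_le hpa f hker.le _ ?_ (fun j => ?_) hx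
    · show ψ (invRel pa) ∈ (Ideal.span (Set.range f)).map (algebraMap (MvPolynomial (Fin n) R) L)
      rw [hψg]; exact zero_mem _
    · show ψ (rename some (f j)) ∈ (Ideal.span (Set.range f)).map (algebraMap (MvPolynomial (Fin n) R) L)
      rw [hψr]; exact Ideal.mem_map_of_mem _ (Ideal.subset_span ⟨j, rfl⟩)
  have h3 : algebraMap _ L h ∈ (Ideal.span (Set.range f) ^ 2).map (algebraMap (MvPolynomial (Fin n) R) L) := by
    rw [Ideal.map_pow, ← hψr]
    have := Ideal.mem_map_of_mem ψ.toRingHom hsq
    rw [Ideal.map_pow] at this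
    exact Ideal.pow_right_mono hJle 2 this
  obtain ⟨_, ⟨e, rfl⟩, he⟩ :=
    (IsLocalization.algebraMap_mem_map_algebraMap_iff (Submonoid.powers pa) L _ _).mp h3
  exact ⟨e, he⟩

theorem exists_omega_presentation :
    ∃ p0 : (Fin n → Localization.Away a) →ₗ[Localization.Away a] Ω[Localization.Away a⁄R],
      Function.Surjective p0 ∧
        LinearMap.ker p0 = Submodule.span (Localization.Away a) (Set.range fun j => jrow φ a (f j)) := by
  classical
  obtain ⟨pa, hpa⟩ := hφ a
  let S := Localization.Away a
  let π := awayHom φ a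
  have hπ := awayHom_surjective φ a hφ
  letI : Algebra (MvPolynomial (Option (Fin n)) R) S := π.toRingHom.toAlgebra
  haveI : IsScalarTower R (MvPolynomial (Option (Fin n)) R) S :=
    IsScalarTower.of_algebraMap_eq fun r => (π.commutes r).symm
  let bS := (mvPolynomialBasis R (Option (Fin n))).baseChange S
  let p : (Option (Fin n) → S) →ₗ[S] Ω[S⁄R] :=
    (mapBaseChange R (MvPolynomial (Option (Fin n)) R) S) ∘ₗ bS.equivFun.symm.toLinearMap
  have hp : Function.Surjective p :=
    (mapBaseChange_surjective R (MvPolynomial (Option (Fin n)) R) S hπ).comp bS.equivFun.symm.surjective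
  have hrepr : ∀ x i, bS.equivFun ((1 : S) ⊗ₜ D R _ x) i = π (pderiv i x) := by
    intro x i
    rw [Module.Basis.equivFun_apply]
    simp [bS, Algebra.smul_def]
    rfl
  let row' : MvPolynomial (Option (Fin n)) R → (Option (Fin n) → S) := fun x i => π (pderiv i x)
  have hrow0 : ∀ x, π x = 0 → p (row' x) = 0 := by
    intro x hx
    rw [show row' x = bS.equivFun ((1 : S) ⊗ₜ D R _ x) from funext fun i => (hrepr x i).symm]
    rw [LinearMap.comp_apply, LinearEquiv.coe_coe, LinearEquiv.symm_apply_apply, mapBaseChange_tmul, map_D,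
      show algebraMap (MvPolynomial (Option (Fin n)) R) S x = 0 from hx, map_zero, smul_zero]
  let ext0 : (Fin n → S) →ₗ[S] (Option (Fin n) → S) :=
    LinearMap.pi fun o => o.elim 0 fun i => LinearMap.proj i
  have hrowf : ∀ h, row' (rename some h) = ext0 (jrow φ a h) := by
    intro h
    funext o
    cases o with
    | none => simp [row', ext0, pderiv_none_rename]
    | some i =>
      show π (pderiv (some i) (rename some h)) = jrow φ a h i
      rw [pderiv_some_rename, awayHom_rename]
      rfl
  have hgy : row' (invRel pa) none = algebraMap A S a := by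
    show π (pderiv none (invRel pa)) = _
    rw [invRel, map_sub, (pderiv (none : Option (Fin n))).leibniz]
    simp [pderiv_none_rename, π, awayHom_rename, hpa]
    rfl
  have hai : algebraMap A S a * IsLocalization.Away.invSelf a = 1 := IsLocalization.Away.mul_invSelf a
  have hf0 : ∀ l, φ (f l) = 0 := fun l =>
    RingHom.mem_ker.mp (show f l ∈ RingHom.ker φ.toRingHom from hker ▸ Ideal.subset_span ⟨l, rfl⟩)
  refine ⟨p ∘ₗ ext0, fun w => ?_, le_antisymm (fun v hv => ?_) ?_⟩
  · obtain ⟨v, rfl⟩ := hp w
    let k := v none * IsLocalization.Away.invSelf a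
    refine ⟨fun i => (v - k • row' (invRel pa)) (some i), ?_⟩
    have : ext0 (fun i => (v - k • row' (invRel pa)) (some i)) = v - k • row' (invRel pa) := by
      funext o
      cases o with
      | none =>
        show (0 : S) = v none - k * row' (invRel pa) none
        rw [hgy, mul_assoc, mul_comm (IsLocalization.Away.invSelf a) _, hai, mul_one, sub_self]
      | some i => rfl
    rw [LinearMap.comp_apply, this, map_sub, map_smul, hrow0 _ (awayHom_invRel φ a hpa), smul_zero, sub_zero]
  · obtain ⟨x, hx⟩ := ((exact_kerCotangentToTensor_mapBaseChange R (MvPolynomial (Option (Fin n)) R) S hπ)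
      (bS.equivFun.symm (ext0 v))).mp hv
    let J := RingHom.ker (algebraMap (MvPolynomial (Option (Fin n)) R) S)
    obtain ⟨⟨y, hy⟩, rfl⟩ := J.toCotangent_surjective x
    rw [kerCotangentToTensor_toCotangent] at hx
    obtain ⟨W, hW⟩ := Ideal.mem_span_range_iff_exists_fun.mp
      (ker_awayHom_le hpa f hker.le (Ideal.span (Set.range fun o : Option (Fin m) => o.elim (invRel pa)
        fun j => rename some (f j))) (Ideal.subset_span ⟨none, rfl⟩) (fun j => Ideal.subset_span ⟨some j, rfl⟩) hy)
    have hv' : ext0 v = row' y := by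
      rw [show row' y = bS.equivFun ((1 : S) ⊗ₜ D R _ y) from funext fun i => (hrepr y i).symm, hx,
        LinearEquiv.apply_symm_apply]
    have hyrow : row' y = π (W none) • row' (invRel pa) + ∑ j, π (W (some j)) • ext0 (jrow φ a (f j)) := by
      funext i
      simp only [← hrowf]
      rw [← hW, Fintype.sum_option]
      simp only [row', Pi.add_apply, Pi.smul_apply, Finset.sum_apply, smul_eq_mul, map_add, map_sum,
        Option.elim_none, Option.elim_some]
      congr 1
      · rw [(pderiv i).leibniz]
        simp [π, awayHom_invRel φ a hpa]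
      · refine Finset.sum_congr rfl fun j _ => ?_
        rw [(pderiv i).leibniz]
        simp [π, awayHom_rename, hf0]
    have h0 := congrFun (hv'.trans hyrow) none
    have hWn : π (W none) = 0 := by
      simp [ext0, hgy] at h0
      calc π (W none) = π (W none) * (algebraMap A S a * IsLocalization.Away.invSelf a) := by rw [hai, mul_one]
        _ = 0 := by rw [← mul_assoc, ← h0, zero_mul]
    rw [hWn, zero_smul, zero_add] at hyrow
    have hveq : v = ∑ j, π (W (some j)) • jrow φ a (f j) := by
      funext i
      have := congrFun (hv'.trans hyrow) (some i)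
      simpa [ext0] using this
    rw [hveq]
    exact Submodule.sum_mem _ fun j _ => Submodule.smul_mem _ _ (Submodule.subset_span ⟨j, rfl⟩)
  · rw [Submodule.span_le]
    rintro _ ⟨j, rfl⟩
    show p (ext0 (jrow φ a (f j))) = 0
    rw [← hrowf]
    exact hrow0 _ (by show π (rename some (f j)) = 0; rw [awayHom_rename, hf0, map_zero])

omit hφ hker in
theorem det_mul_mem_span {c : ℕ} {S : Type u} [CommRing S] (M : Matrix (Fin c) (Fin n) S)
    (N : Matrix (Fin n) (Fin c) S) :
    (M * N).det ∈ Ideal.span (Set.range fun s : Fin c → Fin n => (M.submatrix id s).det) := by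
  classical
  have h : (M * N).transpose = fun t => ∑ i, N i t • M.transpose i := by
    funext t k
    simp [Matrix.mul_apply, Finset.sum_apply, mul_comm]
  rw [← Matrix.det_transpose, h]
  show (Matrix.detRowAlternating (R := S)).toMultilinearMap (fun t => ∑ i, N i t • M.transpose i) ∈ _
  rw [MultilinearMap.map_sum]
  refine Submodule.sum_mem _ fun s _ => ?_
  rw [MultilinearMap.map_smul_univ, smul_eq_mul]
  refine Ideal.mul_mem_left _ _ (Ideal.subset_span ⟨s, ?_⟩)
  exact (Matrix.det_transpose _).symm

omit hφ hker in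
theorem pow_isStrictlyStandard [Algebra.FinitePresentation R A] (a : A) [Algebra.Smooth R (Localization.Away a)]
    (p q : ℕ) (e : (Ω[Localization.Away a⁄R] × (Fin p → Localization.Away a)) ≃ₗ[Localization.Away a]
      (Fin q → Localization.Away a)) :
    ∃ e₀ : ℕ, ∀ n : ℕ, e₀ ≤ n → _root_.Smoothing.IsStrictlyStandard R A (a ^ n) := by
  classical
  let S := Localization.Away a
  obtain ⟨n, φ, hφ, hfg⟩ := ‹Algebra.FinitePresentation R A›.out
  obtain ⟨sg, hsg⟩ := hfg
  obtain ⟨m, f, hker⟩ : ∃ (m : ℕ) (f : Fin m → MvPolynomial (Fin n) R),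
      RingHom.ker φ.toRingHom = Ideal.span (Set.range f) := by
    refine ⟨_, fun i => (sg.equivFin.symm i : MvPolynomial (Fin n) R), ?_⟩
    rw [show Set.range (fun i => (sg.equivFin.symm i : MvPolynomial (Fin n) R)) = ↑sg by
      rw [← Function.comp_def (Subtype.val), sg.equivFin.symm.surjective.range_comp, Subtype.range_coe]]
    exact hsg.symm
  obtain ⟨p0, hp0, hp0k⟩ := exists_omega_presentation f φ hφ hker (a := a)
  obtain ⟨s, hs⟩ := Module.projective_lifting_property p0 LinearMap.id hp0
  have hs' : ∀ w, p0 (s w) = w := fun w => LinearMap.congr_fun hs w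
  let M0 := LinearMap.ker p0
  let r0 : (Fin n → S) →ₗ[S] M0 := (LinearMap.id - s ∘ₗ p0).codRestrict M0 fun x => by
    show p0 (x - s (p0 x)) = 0
    rw [map_sub, hs', sub_self]
  have hr0 : ∀ x : M0, r0 x = x := fun x => Subtype.ext (by
    show (x : Fin n → S) - s (p0 x) = x
    rw [show p0 x = 0 from x.2, map_zero, sub_zero])
  let e1 : (Fin n → S) ≃ₗ[S] M0 × Ω[S⁄R] :=
    LinearEquiv.ofBijective (r0.prod p0) ⟨by
      rw [injective_iff_map_eq_zero]
      intro x hx
      obtain ⟨h1, h2⟩ := Prod.mk_eq_zero.mp hx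
      have h1' : x - s (p0 x) = 0 := congrArg Subtype.val h1
      rwa [h2, map_zero, sub_zero] at h1', by
      rintro ⟨x, w⟩
      refine ⟨(x : Fin n → S) + s w, Prod.ext ?_ ?_⟩
      · show r0 ((x : Fin n → S) + s w) = x
        refine Subtype.ext ?_
        show (x : Fin n → S) + s w - s (p0 ((x : Fin n → S) + s w)) = x
        rw [map_add, show p0 x = 0 from x.2, zero_add, hs', add_sub_cancel_right]
      · show p0 ((x : Fin n → S) + s w) = w
        rw [map_add, show p0 x = 0 from x.2, zero_add, hs']⟩
  let eb : (M0 × (Fin q → S)) ≃ₗ[S] (Fin (n + p) → S) :=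
    ((LinearEquiv.refl S M0).prodCongr e.symm) ≪≫ₗ (LinearEquiv.prodAssoc S M0 Ω[S⁄R] (Fin p → S)).symm ≪≫ₗ
      (e1.symm.prodCongr (LinearEquiv.refl S (Fin p → S))) ≪≫ₗ
      (LinearEquiv.sumArrowLequivProdArrow (Fin n) (Fin p) S S).symm ≪≫ₗ
      (LinearEquiv.funCongrLeft S S finSumFinEquiv.symm)
  let b : Module.Basis (Fin (n + p)) S (M0 × (Fin q → S)) := Module.Basis.ofEquivFun eb
  -- the enlarged presentation
  let φ' : MvPolynomial (Fin (n + q)) R →ₐ[R] A :=
    aeval (Fin.addCases (fun i => φ (X i)) (fun _ => 0))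
  have hφ'r : ∀ p, φ' (rename (Fin.castAdd q) p) = φ p := by
    intro p
    have : φ'.comp (rename (Fin.castAdd q)) = φ := MvPolynomial.algHom_ext fun i => by simp [φ']
    exact DFunLike.congr_fun this p
  have hφ' : Function.Surjective φ' := fun y => by
    obtain ⟨x, rfl⟩ := hφ y; exact ⟨_, hφ'r x⟩
  let ff : Fin (m + q) → MvPolynomial (Fin (n + q)) R :=
    Fin.addCases (fun l => rename (Fin.castAdd q) (f l)) (fun k => X (Fin.natAdd n k))
  have hf0 : ∀ l, φ (f l) = 0 := fun l =>
    RingHom.mem_ker.mp (show f l ∈ RingHom.ker φ.toRingHom from hker ▸ Ideal.subset_span ⟨l, rfl⟩)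
  have hff : ∀ j, φ' (ff j) = 0 := by
    intro j
    induction j using Fin.addCases with
    | left l => simp [ff, hφ'r, hf0]
    | right k => simp [ff, φ']
  have hker' : RingHom.ker φ'.toRingHom = Ideal.span (Set.range ff) := by
    refine le_antisymm (fun x hx => ?_) (Ideal.span_le.mpr ?_)
    · let back : MvPolynomial (Fin (n + q)) R →ₐ[R] MvPolynomial (Fin n) R :=
        aeval (Fin.addCases X (fun _ => 0))
      have h1 : x - rename (Fin.castAdd q) (back x) ∈ Ideal.span (Set.range ff) := by
        clear hx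
        induction x using MvPolynomial.induction_on with
        | C r => simp [back]
        | add x y hx hy =>
          convert Ideal.add_mem _ hx hy using 1
          rw [map_add, map_add]; ring
        | mul_X x i hx =>
          induction i using Fin.addCases with
          | left t =>
            convert Ideal.mul_mem_right (X (Fin.castAdd q t)) _ hx using 1
            simp [back]; ring
          | right k =>
            convert Ideal.mul_mem_left _ x (Ideal.subset_span (s := Set.range ff) ⟨Fin.natAdd m k, rfl⟩) using 1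
            simp [back, ff]
      have h2 : φ (back x) = 0 := by
        have : φ.comp back = φ' := by
          refine MvPolynomial.algHom_ext fun i => ?_
          induction i using Fin.addCases <;> simp [back, φ']
        exact (DFunLike.congr_fun this x).trans hx
      have h3 : rename (Fin.castAdd q) (back x) ∈ Ideal.span (Set.range ff) := by
        have hm : back x ∈ Ideal.span (Set.range f) := hker ▸ (show back x ∈ RingHom.ker φ.toRingHom from h2)
        have := Ideal.mem_map_of_mem (rename (Fin.castAdd q) : MvPolynomial (Fin n) R →ₐ[R] _) hm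
        rw [Ideal.map_span] at this
        refine Ideal.span_mono ?_ this
        rintro _ ⟨_, ⟨l, rfl⟩, rfl⟩
        exact ⟨Fin.castAdd q l, by simp [ff]⟩
      have := Ideal.add_mem _ h1 h3
      rwa [sub_add_cancel] at this
    · rintro _ ⟨j, rfl⟩
      exact hff j
  obtain ⟨pa, hpa⟩ := hφ' a
  -- coordinates
  let E : (Fin (n + q) → S) ≃ₗ[S] (Fin n → S) × (Fin q → S) :=
    (LinearEquiv.funCongrLeft S S finSumFinEquiv) ≪≫ₗ LinearEquiv.sumArrowLequivProdArrow (Fin n) (Fin q) S S
  have hEf : ∀ l, E (jrow φ' a (rename (Fin.castAdd q) (f l))) = (jrow φ a (f l), 0) := by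
    intro l
    refine Prod.ext (funext fun i => ?_) (funext fun k => ?_)
    · show algebraMap A S (φ' (pderiv (finSumFinEquiv (Sum.inl i)) (rename (Fin.castAdd q) (f l)))) = _
      rw [finSumFinEquiv_apply_left, pderiv_rename (Fin.castAdd_injective n q), hφ'r]
      rfl
    · show algebraMap A S (φ' (pderiv (finSumFinEquiv (Sum.inr k)) (rename (Fin.castAdd q) (f l)))) = 0
      rw [finSumFinEquiv_apply_right]
      have hnot : (Fin.natAdd n k : Fin (n + q)) ∉ (rename (Fin.castAdd q) (f l)).vars := by
        intro hh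
        obtain ⟨i, -, hi⟩ := Finset.mem_image.mp (vars_rename (Fin.castAdd q) (f l) hh)
        have := congrArg Fin.val hi
        simp at this
        omega
      rw [pderiv_eq_zero_of_notMem_vars hnot, map_zero, map_zero]
  have hEz : ∀ k, E (jrow φ' a (X (Fin.natAdd n k))) = (0, Pi.single k 1) := by
    intro k
    refine Prod.ext (funext fun i => ?_) (funext fun k' => ?_)
    · show algebraMap A S (φ' (pderiv (finSumFinEquiv (Sum.inl i)) (X (Fin.natAdd n k)))) = 0
      rw [finSumFinEquiv_apply_left, pderiv_X_of_ne (fun h => by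
        have := congrArg Fin.val h; simp at this; omega), map_zero, map_zero]
    · show algebraMap A S (φ' (pderiv (finSumFinEquiv (Sum.inr k')) (X (Fin.natAdd n k)))) = _
      rw [finSumFinEquiv_apply_right]
      by_cases hk : k = k'
      · subst hk; simp
      · rw [pderiv_X_of_ne (fun h => hk (Fin.natAdd_injective q n h)), map_zero, map_zero]
        simp [Ne.symm hk]
  let ι' : (M0 × (Fin q → S)) →ₗ[S] (Fin (n + q) → S) :=
    E.symm.toLinearMap ∘ₗ (M0.subtype.prodMap LinearMap.id)
  let r' : (Fin (n + q) → S) →ₗ[S] (M0 × (Fin q → S)) := (r0.prodMap LinearMap.id) ∘ₗ E.toLinearMap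
  have hri : ∀ x, r' (ι' x) = x := by
    intro x
    simp only [r', ι', LinearMap.comp_apply, LinearEquiv.coe_coe, LinearEquiv.apply_symm_apply]
    exact Prod.ext (hr0 x.1) rfl
  -- rows span the image
  have hspan : ∀ x, ι' x ∈ Submodule.span S (Set.range fun j => jrow φ' a (ff j)) := by
    rintro ⟨⟨v, hv⟩, w⟩
    have hv' : v ∈ Submodule.span S (Set.range fun j => jrow φ a (f j)) := hp0k ▸ hv
    obtain ⟨c, hc⟩ := (Submodule.mem_span_range_iff_exists_fun S).mp hv'
    have : ι' (⟨v, hv⟩, w) = ∑ l, c l • jrow φ' a (ff (Fin.castAdd q l)) +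
        ∑ k, w k • jrow φ' a (ff (Fin.natAdd m k)) := by
      apply E.injective
      simp only [ι', LinearMap.comp_apply, LinearEquiv.coe_coe, LinearEquiv.apply_symm_apply, map_add, map_sum,
        map_smul, ff, Fin.addCases_left, Fin.addCases_right, hEf, hEz]
      refine Prod.ext ?_ (funext fun k => ?_)
      · simp [Prod.fst_sum, hc]
      · simp [Prod.snd_sum, Finset.sum_apply, Pi.single_apply]
    rw [this]
    exact add_mem (Submodule.sum_mem _ fun l _ => Submodule.smul_mem _ _ (Submodule.subset_span ⟨_, rfl⟩))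
      (Submodule.sum_mem _ fun k _ => Submodule.smul_mem _ _ (Submodule.subset_span ⟨_, rfl⟩))
  have hmem : ∀ j, ∃ x, ι' x = jrow φ' a (ff j) := by
    intro j
    induction j using Fin.addCases with
    | left l =>
      refine ⟨(⟨jrow φ a (f l), ?_⟩, 0), E.injective ?_⟩
      · show jrow φ a (f l) ∈ LinearMap.ker p0
        rw [hp0k]; exact Submodule.subset_span ⟨l, rfl⟩
      · simp [ι', ff, hEf]
    | right k =>
      exact ⟨(0, Pi.single k 1), E.injective (by simp [ι', ff, hEz])⟩
  choose pre hpre using hmem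
  choose bc hbc using fun t => (Submodule.mem_span_range_iff_exists_fun S).mp (hspan (b t))
  -- clear denominators
  have hclear : ∀ t, ∃ (N : ℕ) (G : MvPolynomial (Fin (n + q)) R), φ' G = 0 ∧
      jrow φ' a G = algebraMap A S a ^ N • ι' (b t) := by
    intro t
    obtain ⟨⟨_, N, rfl⟩, hint⟩ := IsLocalization.exist_integer_multiples_of_finite (Submonoid.powers a) (bc t)
    choose w hw using fun j => hint j
    choose w' hw' using fun j => hφ' (w j)
    refine ⟨N, ∑ j, w' j * ff j, by simp [map_sum, hff], ?_⟩
    rw [jrow_sum, ← hbc t, Finset.smul_sum]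
    refine Finset.sum_congr rfl fun j _ => ?_
    rw [jrow_mul _ _ _ _ (hff j), smul_smul, hw', hw j, ← map_pow, ← Algebra.smul_def]
  choose N G hG0 hGrow using hclear
  rcases subsingleton_or_nontrivial S with hS | hS
  · -- `a` is nilpotent
    obtain ⟨⟨_, K, rfl⟩, hK⟩ :=
      (IsLocalization.map_eq_zero_iff (Submonoid.powers a) S (1 : A)).mp (Subsingleton.elim _ _)
    refine ⟨K, fun k hk => ?_⟩
    have hz : a ^ k = 0 := by
      rw [← Nat.sub_add_cancel hk, pow_add, show a ^ K = 0 by simpa using hK, mul_zero]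
    let P : _root_.Smoothing.MarkedPresentation R A :=
      { n := n
        m := m
        c := 0
        hcn := Nat.zero_le _
        hcm := Nat.zero_le _
        rel := f
        hom := φ
        surj := hφ
        ker_eq := hker }
    refine ⟨P, ?_, fun a' ha' j _ => ?_⟩
    · rw [hz]; exact zero_mem _
    · refine Ideal.mem_sup_right ?_
      rw [pow_two]
      refine Ideal.mul_mem_mul ?_ (Ideal.subset_span ⟨j, rfl⟩)
      exact hker ▸ (show a' ∈ RingHom.ker φ.toRingHom from ha'.trans hz)
  let c := n + p
  have hcn : c ≤ n + q := by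
    have hinj : Function.Injective (ι' ∘ₗ b.equivFun.symm.toLinearMap) :=
      (Function.LeftInverse.injective hri).comp b.equivFun.symm.injective
    have := LinearMap.finrank_le_finrank_of_injective hinj
    simpa [c] using this
  let rel : Fin (c + (m + q)) → MvPolynomial (Fin (n + q)) R := Fin.addCases G ff
  have hspanrel : Ideal.span (Set.range rel) = RingHom.ker φ'.toRingHom := by
    refine le_antisymm (Ideal.span_le.mpr ?_) (hker'.le.trans (Ideal.span_mono ?_))
    · rintro _ ⟨j, rfl⟩
      induction j using Fin.addCases with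
      | left t => simpa [rel] using hG0 t
      | right t => simpa [rel] using hff t
    · rintro _ ⟨j, rfl⟩
      exact ⟨Fin.natAdd c j, by simp [rel]⟩
  let P : _root_.Smoothing.MarkedPresentation R A :=
    { n := n + q
      m := c + (m + q)
      c := c
      hcn := hcn
      hcm := Nat.le_add_right _ _
      rel := rel
      hom := φ'
      surj := hφ'
      ker_eq := hspanrel.symm }
  have hrelG : ∀ t : Fin c, rel (Fin.castLE P.hcm t) = G t := fun t => by
    show rel (Fin.castAdd (m + q) t) = G t
    simp [rel]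
  let ai : S := IsLocalization.Away.invSelf a
  have hai : algebraMap A S a * ai = 1 := IsLocalization.Away.mul_invSelf a
  have hai' : ∀ k : ℕ, ai ^ k * algebraMap A S a ^ k = 1 := fun k => by
    rw [← mul_pow, mul_comm, hai, one_pow]
  let M : Matrix (Fin c) (Fin (n + q)) S := Matrix.of fun t i => jrow φ' a (G t) i
  let Nm : Matrix (Fin (n + q)) (Fin c) S :=
    Matrix.of fun i t => ai ^ N t * b.equivFun (r' (Pi.single i 1)) t
  have hMN : M * Nm = 1 := by
    ext u t
    have h1 : (M * Nm) u t = ai ^ N t * b.equivFun (r' (jrow φ' a (G u))) t := by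
      conv_rhs => rw [pi_eq_sum_univ' (jrow φ' a (G u))]
      simp only [map_sum, map_smul, Finset.sum_apply, Pi.smul_apply, smul_eq_mul,
        Matrix.mul_apply, M, Nm, Matrix.of_apply]
      rw [Finset.mul_sum]
      exact Finset.sum_congr rfl fun i _ => by ring
    rw [h1, hGrow u, map_smul, map_smul, hri, Pi.smul_apply, Module.Basis.equivFun_apply, Module.Basis.repr_self,
      Finsupp.single_apply, smul_eq_mul, Matrix.one_apply]
    split_ifs with h
    · subst h; rw [mul_one, hai']
    · rw [mul_zero, mul_zero]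
  have h1mem : (1 : S) ∈ (Ideal.span (Set.range fun cols : Fin P.c → Fin P.n =>
      P.hom (_root_.Smoothing.jacobianMinor P.rel (Fin.castLE P.hcm) cols))).map (algebraMap A S) := by
    have h := det_mul_mem_span M Nm
    rw [hMN, Matrix.det_one] at h
    rw [Ideal.map_span]
    refine Ideal.span_mono ?_ h
    rintro _ ⟨cols, rfl⟩
    refine ⟨_, ⟨cols, rfl⟩, ?_⟩
    show algebraMap A S (φ' (_root_.Smoothing.jacobianMinor rel (Fin.castLE P.hcm) cols)) = _
    rw [_root_.Smoothing.jacobianMinor, AlgHom.map_det, RingHom.map_det]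
    congr 1
    refine Matrix.ext fun t k => ?_
    show algebraMap A S (φ' (pderiv (cols k) (rel (Fin.castLE P.hcm t)))) = M t (cols k)
    rw [hrelG]
    rfl
  obtain ⟨_, ⟨e1', rfl⟩, he1⟩ :=
    (IsLocalization.algebraMap_mem_map_algebraMap_iff (Submonoid.powers a) S _ (1 : A)).mp (by rwa [map_one])
  rw [mul_one] at he1
  -- the tail
  have htail : ∀ j, ∃ k : ℕ, pa ^ k * ff j ∈
      Ideal.span (Set.range G) ⊔ Ideal.span (Set.range ff) ^ 2 := by
    intro j
    let γ : Fin c → S := fun t => b.equivFun (pre j) t * ai ^ N t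
    have hγ : jrow φ' a (ff j) = ∑ t, γ t • jrow φ' a (G t) := by
      rw [← hpre j]
      conv_lhs => rw [← b.sum_equivFun (pre j)]
      rw [map_sum]
      refine Finset.sum_congr rfl fun t _ => ?_
      rw [map_smul, hGrow, smul_smul]
      show b.equivFun (pre j) t • ι' (b t) = (b.equivFun (pre j) t * ai ^ N t * algebraMap A S a ^ N t) • ι' (b t)
      rw [mul_assoc, hai', mul_one]
    obtain ⟨⟨_, K, rfl⟩, hint⟩ := IsLocalization.exist_integer_multiples_of_finite (Submonoid.powers a) γ
    choose w hw using fun t => hint t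
    choose w' hw' using fun t => hφ' (w t)
    have hh : φ' (pa ^ K * ff j - ∑ t, w' t * G t) = 0 := by simp [map_sum, hff, hG0]
    have hrow : jrow φ' a (pa ^ K * ff j - ∑ t, w' t * G t) = 0 := by
      have h1 := jrow_add φ' a (pa ^ K * ff j - ∑ t, w' t * G t) (∑ t, w' t * G t)
      rw [sub_add_cancel, jrow_sum, jrow_mul _ _ _ _ (hff j), map_pow, hpa, hγ, Finset.smul_sum] at h1
      have h2 : ∀ t, algebraMap A S (a ^ K) • γ t • jrow φ' a (G t) = jrow φ' a (w' t * G t) := fun t => by
        rw [jrow_mul _ _ _ _ (hG0 t), smul_smul, hw', hw t]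
        congr 1
        exact (Algebra.smul_def _ _).symm
      rw [Finset.sum_congr rfl fun t _ => h2 t] at h1
      exact add_eq_right.mp h1.symm
    obtain ⟨e2, he2⟩ := exists_pow_mul_mem_sq ff φ' hφ' hker' hpa hh hrow
    refine ⟨e2 + K, ?_⟩
    have h3 : pa ^ e2 * ∑ t, w' t * G t ∈ Ideal.span (Set.range G) :=
      Ideal.mul_mem_left _ _ (Submodule.sum_mem _ fun t _ => Ideal.mul_mem_left _ _ (Ideal.subset_span ⟨t, rfl⟩))
    have := Ideal.add_mem _ (Ideal.mem_sup_left h3) (Ideal.mem_sup_right
      (S := Ideal.span (Set.range G)) he2)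
    rwa [← mul_add, add_sub_cancel, ← mul_assoc, ← pow_add] at this
  choose kk hkk using htail
  refine ⟨e1' + ∑ j, kk j, fun k hk => ⟨P, ?_, fun a' ha' j hj => ?_⟩⟩
  · rw [← Nat.sub_add_cancel (le_trans (Nat.le_add_right _ _) hk), pow_add]
    exact Ideal.mul_mem_left _ _ he1
  · change a' * rel j ∈ Ideal.span (rel '' {j' : Fin (c + (m + q)) | (j' : ℕ) < c}) ⊔ Ideal.span (Set.range rel) ^ 2
    change c ≤ (j : ℕ) at hj
    obtain ⟨t, rfl⟩ : ∃ t, j = Fin.natAdd c t := by
      induction j using Fin.addCases with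
      | left t => exact absurd t.isLt (not_lt.mpr hj)
      | right t => exact ⟨t, rfl⟩
    rw [show rel (Fin.natAdd c t) = ff t by simp [rel]]
    have hdiff : a' - pa ^ k ∈ Ideal.span (Set.range rel) := by
      rw [hspanrel]
      show φ' (a' - pa ^ k) = 0
      rw [map_sub, map_pow, hpa, show φ' a' = a ^ k from ha', sub_self]
    have hleG : Ideal.span (Set.range G) ⊔ Ideal.span (Set.range ff) ^ 2 ≤
        Ideal.span (rel '' {j' : Fin (c + (m + q)) | (j' : ℕ) < c}) ⊔ Ideal.span (Set.range rel) ^ 2 := by
      refine sup_le_sup (Ideal.span_mono ?_) (Ideal.pow_right_mono (Ideal.span_mono ?_) 2)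
      · rintro _ ⟨t, rfl⟩
        exact ⟨Fin.castAdd _ t, t.isLt, by simp [rel]⟩
      · rintro _ ⟨t, rfl⟩
        exact ⟨Fin.natAdd _ t, by simp [rel]⟩
    have hle : kk t ≤ k := le_trans (le_trans (Finset.single_le_sum (fun _ _ => Nat.zero_le _) (Finset.mem_univ t))
      (Nat.le_add_left _ _)) hk
    have h1 : pa ^ k * ff t ∈ _ := hleG (by
      rw [← Nat.sub_add_cancel hle, pow_add, mul_assoc]
      exact Ideal.mul_mem_left _ _ (hkk t))
    have h2 : (a' - pa ^ k) * ff t ∈
        Ideal.span (rel '' {j' : Fin (c + (m + q)) | (j' : ℕ) < c}) ⊔ Ideal.span (Set.range rel) ^ 2 :=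
      Ideal.mem_sup_right (by
        rw [pow_two]
        exact Ideal.mul_mem_mul hdiff (Ideal.subset_span ⟨Fin.natAdd c t, by simp [rel]⟩))
    have := Ideal.add_mem _ h2 h1
    rwa [← add_mul, sub_add_cancel] at this

end Groth.L14.Smoothing
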