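import Groth.Prelude.Def_Smoothing
import Mathlib.RingTheory.TensorProduct.MvPolynomial
import Mathlib.RingTheory.Extension.Presentation.Basic
import Mathlib.RingTheory.Finiteness.Basic
import Mathlib.RingTheory.Noetherian.Basic
import Mathlib.Algebra.Module.LocalizedModule.Basic

/-!
Base change of standard elements; a squaring lemma for localised modules.
-/

open MvPolynomial TensorProduct

namespace Groth.L14.Smoothing

universe u

variable {R A R' : Type u} [CommRing R] [CommRing A] [Algebra R A] [CommRing R'] [Algebra R R']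

/-- Base change of a marked presentation. -/
@[reducible] noncomputable def baseChangePres (P : _root_.Smoothing.MarkedPresentation R A) :
    _root_.Smoothing.MarkedPresentation R' (R' ⊗[R] A) where
  n := P.n
  m := P.m
  c := P.c
  hcn := P.hcn
  hcm := P.hcm
  rel := fun j => MvPolynomial.map (algebraMap R R') (P.rel j)
  hom := (Algebra.TensorProduct.map (AlgHom.id R' R') P.hom).comp (algebraTensorAlgEquiv R R').symm.toAlgHom
  surj := by
    show Function.Surjective (⇑(Algebra.TensorProduct.map (AlgHom.id R' R') P.hom) ∘ ⇑(algebraTensorAlgEquiv R R').symm)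
    refine Function.Surjective.comp ?_ (algebraTensorAlgEquiv R R').symm.surjective
    intro x
    induction x using TensorProduct.induction_on with
    | zero => exact ⟨0, map_zero _⟩
    | tmul r a => obtain ⟨p, rfl⟩ := P.surj a; exact ⟨r ⊗ₜ p, by simp⟩
    | add x y hx hy => obtain ⟨a, rfl⟩ := hx; obtain ⟨b, rfl⟩ := hy; exact ⟨a + b, map_add _ _ _⟩
  ker_eq := by
    have hk := Algebra.TensorProduct.lTensor_ker (A := R') P.hom P.surj
    have he : ∀ p : MvPolynomial (Fin P.n) R, (algebraTensorAlgEquiv R R').symm (MvPolynomial.map (algebraMap R R') p) =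
        (1 : R') ⊗ₜ[R] p := fun p => algebraTensorAlgEquiv_symm_map R R' p
    refine le_antisymm ?_ (Ideal.span_le.mpr ?_)
    · intro x hx
      have hx' : (algebraTensorAlgEquiv R R').symm x ∈
          RingHom.ker (Algebra.TensorProduct.map (AlgHom.id R R') P.hom) := hx
      rw [hk, show RingHom.ker P.hom = Ideal.span (Set.range P.rel) from P.ker_eq, Ideal.map_span] at hx'
      have h2 := Ideal.mem_map_of_mem (algebraTensorAlgEquiv R R').toAlgHom.toRingHom hx'
      rw [Ideal.map_span, show (algebraTensorAlgEquiv R R').toAlgHom.toRingHom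
        ((algebraTensorAlgEquiv R R').symm x) = x from AlgEquiv.apply_symm_apply _ _] at h2
      refine Ideal.span_mono ?_ h2
      rintro _ ⟨_, ⟨_, ⟨j, rfl⟩, rfl⟩, rfl⟩
      refine ⟨j, ?_⟩
      show MvPolynomial.map (algebraMap R R') (P.rel j) =
        algebraTensorAlgEquiv R R' ((1 : R') ⊗ₜ[R] P.rel j)
      rw [← he, AlgEquiv.apply_symm_apply]
    · rintro _ ⟨j, rfl⟩
      show Algebra.TensorProduct.map (AlgHom.id R' R') P.hom
        ((algebraTensorAlgEquiv R R').symm (MvPolynomial.map (algebraMap R R') (P.rel j))) = 0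
      rw [he, Algebra.TensorProduct.map_tmul, show P.hom (P.rel j) = 0 from RingHom.mem_ker.mp
        (show P.rel j ∈ RingHom.ker P.hom.toRingHom from P.ker_eq ▸ Ideal.subset_span ⟨j, rfl⟩), tmul_zero]

theorem baseChangePres_hom (P : _root_.Smoothing.MarkedPresentation R A) (p : MvPolynomial (Fin P.n) R) :
    (baseChangePres (R' := R') P).hom (MvPolynomial.map (algebraMap R R') p) = (1 : R') ⊗ₜ[R] P.hom p := by
  show Algebra.TensorProduct.map (AlgHom.id R' R') P.hom
    ((algebraTensorAlgEquiv R R').symm (MvPolynomial.map (algebraMap R R') p)) = _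
  rw [algebraTensorAlgEquiv_symm_map, Algebra.TensorProduct.map_tmul, map_one]

theorem baseChange_minor (P : _root_.Smoothing.MarkedPresentation R A) (S : Fin P.c → Fin P.n) :
    _root_.Smoothing.jacobianMinor (baseChangePres (R' := R') P).rel
        (Fin.castLE (baseChangePres (R' := R') P).hcm) S =
      MvPolynomial.map (algebraMap R R')
        (_root_.Smoothing.jacobianMinor P.rel (Fin.castLE P.hcm) S) := by
  rw [_root_.Smoothing.jacobianMinor, _root_.Smoothing.jacobianMinor, RingHom.map_det]
  congr 1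
  refine Matrix.ext fun j k => ?_
  exact MvPolynomial.pderiv_map (φ := algebraMap R R')

theorem baseChange_killsTail (P : _root_.Smoothing.MarkedPresentation R A) {a : A}
    (h : _root_.Smoothing.KillsTail P a) :
    _root_.Smoothing.KillsTail (baseChangePres (R' := R') P) ((1 : R') ⊗ₜ[R] a) := by
  obtain ⟨pa, hpa⟩ := P.surj a
  intro b hb j hj
  have h1 := Ideal.mem_map_of_mem (MvPolynomial.map (algebraMap R R')) (h pa hpa j hj)
  rw [Ideal.map_sup, Ideal.map_pow, Ideal.map_span, Ideal.map_span, map_mul, ← Set.image_comp,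
    ← Set.range_comp] at h1
  have h2 : b - MvPolynomial.map (algebraMap R R') pa ∈ Ideal.span (Set.range (baseChangePres (R' := R') P).rel) := by
    rw [← (baseChangePres (R' := R') P).ker_eq]
    show (baseChangePres (R' := R') P).hom _ = 0
    rw [map_sub, hb, baseChangePres_hom, hpa, sub_self]
  have h3 : (b - MvPolynomial.map (algebraMap R R') pa) * (baseChangePres (R' := R') P).rel j ∈
      Ideal.span ((baseChangePres (R' := R') P).rel '' {j' : Fin P.m | (j' : ℕ) < P.c}) ⊔
        Ideal.span (Set.range (baseChangePres (R' := R') P).rel) ^ 2 :=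
    Ideal.mem_sup_right (by rw [pow_two]; exact Ideal.mul_mem_mul h2 (Ideal.subset_span ⟨j, rfl⟩))
  have h4 := Ideal.add_mem _ h3 (show MvPolynomial.map (algebraMap R R') pa * (baseChangePres (R' := R') P).rel j ∈
      Ideal.span ((baseChangePres (R' := R') P).rel '' {j' : Fin P.m | (j' : ℕ) < P.c}) ⊔
        Ideal.span (Set.range (baseChangePres (R' := R') P).rel) ^ 2 from h1)
  rwa [← add_mul, sub_add_cancel] at h4

theorem isStandard_baseChange (a : A) :
    (_root_.Smoothing.IsElementaryStandard R A a →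
        _root_.Smoothing.IsElementaryStandard R' (R' ⊗[R] A) ((1 : R') ⊗ₜ[R] a)) ∧
      (_root_.Smoothing.IsStrictlyStandard R A a →
        _root_.Smoothing.IsStrictlyStandard R' (R' ⊗[R] A) ((1 : R') ⊗ₜ[R] a)) := by
  constructor
  · rintro ⟨P, ⟨a', rfl⟩, hk⟩
    refine ⟨baseChangePres P, ⟨(1 : R') ⊗ₜ[R] a', ?_⟩, baseChange_killsTail P hk⟩
    erw [baseChange_minor, baseChangePres_hom]
    simp [Algebra.TensorProduct.tmul_mul_tmul]
  · rintro ⟨P, hmem, hk⟩
    refine ⟨baseChangePres P, ?_, baseChange_killsTail P hk⟩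
    have h := Ideal.mem_map_of_mem (Algebra.TensorProduct.includeRight : A →ₐ[R] R' ⊗[R] A) hmem
    rw [Ideal.map_span] at h
    refine Ideal.span_mono ?_ h
    rintro _ ⟨_, ⟨S, rfl⟩, rfl⟩
    refine ⟨S, ?_⟩
    show (baseChangePres (R' := R') P).hom
      (_root_.Smoothing.jacobianMinor (baseChangePres (R' := R') P).rel
        (Fin.castLE (baseChangePres (R' := R') P).hcm) S) = _
    erw [baseChange_minor, baseChangePres_hom]
    rfl

theorem exists_mem_ker_smul_eq {A : Type u} [CommRing A] [IsNoetherianRing A]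
    (M : Type u) [AddCommGroup M] [Module A M] [Module.Finite A M] (S : Submonoid A) (π : A)
    (h : ∀ m : LocalizedModule S M, π ^ 2 • m = 0 → π • m = 0) :
    ∃ s ∈ S, ∀ n : ℕ, 0 < n → ∀ m : M, (s ^ n * π) ^ 2 • m = 0 → (s ^ n * π) • m = 0 := by
  classical
  let K2 := LinearMap.ker (LinearMap.lsmul A M (π ^ 2))
  obtain ⟨gens, hgens⟩ := IsNoetherian.noetherian K2
  have hloc : ∀ m ∈ gens, ∃ t : S, (t : A) • π • m = 0 := by
    intro m hm
    have hm' : π ^ 2 • m = 0 := by
      have : m ∈ K2 := hgens ▸ Submodule.subset_span hm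
      simpa [K2] using this
    have h1 := h (LocalizedModule.mkLinearMap S M m) (by rw [← map_smul, hm', map_zero])
    rw [← map_smul] at h1
    obtain ⟨t, ht⟩ := (IsLocalizedModule.eq_zero_iff S (LocalizedModule.mkLinearMap S M)).mp h1
    exact ⟨t, by simpa [Submonoid.smul_def] using ht⟩
  choose! t ht using hloc
  let s0 : A := ∏ m ∈ gens, (t m : A)
  have hs0 : s0 ∈ S := Submonoid.prod_mem S fun m _ => (t m).2
  have hkill : ∀ m : M, π ^ 2 • m = 0 → s0 • π • m = 0 := by
    intro m hm
    have hle : K2 ≤ LinearMap.ker (LinearMap.lsmul A M (s0 * π)) := by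
      rw [← hgens, Submodule.span_le]
      intro x hx
      obtain ⟨c, hc⟩ := Finset.dvd_prod_of_mem (fun m => (t m : A)) hx
      simp only [SetLike.mem_coe, LinearMap.mem_ker, LinearMap.lsmul_apply]
      rw [show s0 * π = c * ((t x : A) * π) by rw [← mul_assoc, mul_comm c]; exact congrArg (· * π) hc,
        mul_smul, mul_smul, ht x hx, smul_zero]
    have := hle (show m ∈ K2 by simpa [K2] using hm)
    simpa [mul_smul] using this
  obtain ⟨N, hN⟩ := monotone_stabilizes_iff_noetherian.mpr inferInstance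
    (⟨fun k => LinearMap.ker (LinearMap.lsmul A M (s0 ^ k)), fun a b hab x hx => by
      obtain ⟨d, rfl⟩ := Nat.exists_eq_add_of_le hab
      simp only [LinearMap.mem_ker, LinearMap.lsmul_apply] at hx ⊢
      rw [add_comm, pow_add, mul_smul, hx, smul_zero]⟩ : ℕ →o Submodule A M)
  refine ⟨s0 ^ (N + 1), S.pow_mem hs0 _, fun n hn m hm => ?_⟩
  have hstab : ∀ k, N ≤ k → ∀ x : M, s0 ^ k • x = 0 → s0 ^ N • x = 0 := fun k hk x hx => by
    have := hN k hk
    have hx' : x ∈ LinearMap.ker (LinearMap.lsmul A M (s0 ^ k)) := hx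
    have : x ∈ LinearMap.ker (LinearMap.lsmul A M (s0 ^ N)) := (SetLike.ext_iff.mp this x).mpr hx'
    exact this
  rw [mul_pow, ← pow_mul, ← pow_mul, mul_comm _ (π ^ 2), mul_smul] at hm
  have h1 : s0 • π • (s0 ^ ((N + 1) * (n * 2)) • m) = 0 := hkill _ hm
  rw [← mul_smul, ← mul_smul, show s0 * π * s0 ^ ((N + 1) * (n * 2)) = s0 ^ ((N + 1) * (n * 2) + 1) * π by ring,
    mul_smul] at h1
  have hge : N + 1 ≤ (N + 1) * n := Nat.le_mul_of_pos_right _ hn
  have h2 := hstab _ (by nlinarith) (π • m) h1
  rw [← pow_mul, mul_smul, show (N + 1) * n = ((N + 1) * n - N) + N by omega, pow_add, mul_smul, h2, smul_zero]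

end Groth.L14.Smoothing
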