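import Groth.Agent.L14.Smoothing.InsepBase
import Groth.Agent.L14.Smoothing.InsepFibre
import Mathlib.RingTheory.Smooth.Basic
import Mathlib.RingTheory.FinitePresentation

/-!
A smooth algebra through which a map to a truncated geometrically regular local ring factors.
-/

set_option autoImplicit false
set_option maxSynthPendingDepth 3
set_option linter.style.haveILetI false

noncomputable section

open IsLocalRing MvPolynomial TensorProduct

namespace Groth.L14.Smoothing.Insep

universe u

/-- Generic equation algebra: a factorisation through a smooth algebra carries the equations. -/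
theorem exists_smooth_equations {R A L : Type u} [CommRing R] [IsNoetherianRing R] [CommRing A] [Algebra R A]
    [Algebra.FiniteType R A] [CommRing L] [Algebra R L] (hind : _root_.Smoothing.IndSmooth R L)
    (f : A →ₐ[R] L) {d r : ℕ} (c : Fin d → R) (a : Fin r → A) (z : Fin d → Fin r → L)
    (hrel : ∀ i, algebraMap R L (c i) = ∑ j, z i j * f (a j)) :
    ∃ (B : Type u) (_ : CommRing B) (_ : Algebra R B), Algebra.Smooth R B ∧
      ∃ (g : A →ₐ[R] B) (zB : Fin d → Fin r → B) (h : B →ₐ[R] L), h.comp g = f ∧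
        (∀ i, algebraMap R B (c i) = ∑ j, zB i j * g (a j)) ∧ ∀ i j, h (zB i j) = z i j := by
  let P := MvPolynomial (Fin d × Fin r) A
  let rel : Fin d → P := fun i => algebraMap R P (c i) - ∑ j, X (i, j) * C (a j)
  let Q := P ⧸ Ideal.span (Set.range rel)
  haveI : Algebra.FiniteType R P := Algebra.FiniteType.trans (R := R) (S := A) (A := P) inferInstance inferInstance
  haveI : Algebra.FiniteType R Q := Algebra.FiniteType.of_surjective (Ideal.Quotient.mkₐ R _) Ideal.Quotient.mk_surjective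
  let ev : P →ₐ[R] L := MvPolynomial.aevalTower f fun ij => z ij.1 ij.2
  have hev : ∀ x ∈ Ideal.span (Set.range rel), ev x = 0 := fun x hx =>
    (Ideal.span_le.mpr (by
      rintro _ ⟨i, rfl⟩
      show ev (rel i) = 0
      rw [map_sub, AlgHom.commutes, map_sum, hrel, sub_eq_zero]
      exact Finset.sum_congr rfl fun j _ => by
        rw [map_mul, MvPolynomial.aevalTower_X, MvPolynomial.aevalTower_C]) :
      Ideal.span (Set.range rel) ≤ RingHom.ker ev) hx
  let F : Q →ₐ[R] L := Ideal.Quotient.liftₐ _ ev hev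
  obtain ⟨B, iB, iA, hB, g, h, hgh⟩ := hind Q (Algebra.FinitePresentation.of_finiteType.mp inferInstance) F
  let mkQ : P →ₐ[R] Q := Ideal.Quotient.mkₐ R _
  refine ⟨B, iB, iA, hB, g.comp (mkQ.comp (IsScalarTower.toAlgHom R A P)),
    fun i j => g (mkQ (X (i, j))), h, AlgHom.ext fun x => ?_, fun i => ?_, fun i j => ?_⟩
  · show h (g (mkQ (C x))) = f x
    rw [show h (g (mkQ (C x))) = F (mkQ (C x)) from AlgHom.congr_fun hgh _]
    exact MvPolynomial.aevalTower_C _ _ _
  · have h0 : mkQ (rel i) = 0 := Ideal.Quotient.eq_zero_iff_mem.mpr (Ideal.subset_span ⟨i, rfl⟩)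
    have h1 := congrArg g h0
    rw [map_zero, map_sub, map_sub, AlgHom.commutes, AlgHom.commutes, map_sum, map_sum, sub_eq_zero] at h1
    rw [h1]
    exact Finset.sum_congr rfl fun j _ => by
      rw [map_mul, map_mul]
      rfl
  · rw [show h (g (mkQ (X (i, j)))) = F (mkQ (X (i, j))) from AlgHom.congr_fun hgh _]
    exact MvPolynomial.aevalTower_X _ _ _

set_option maxHeartbeats 1000000 in
/-- The smooth factor of a truncation of a geometrically regular local ring. -/
theorem exists_smooth_factor {k A S : Type u} [Field k] (p : ℕ) [Fact p.Prime] [CharP k p]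
    [CommRing A] [Algebra k A] [Algebra.FiniteType k A] [CommRing S] [IsRegularLocalRing S] [Algebra k S]
    (hgeo : CAlg.IsGeometricallyRegular k S) (φ : A →ₐ[k] S) {r : ℕ} (a : Fin r → A) {d : ℕ}
    (hd : ringKrullDim S = d) (n e : ℕ) (he : 0 < e)
    (hn : maximalIdeal S ^ n ≤ Ideal.span (Set.range fun j => φ (a j))) :
    ∃ (m : ℕ) (y : Fin m → S) (P : Fin d → MvPolynomial (Fin m) k) (lam : Fin d → Fin r → S),
      Ideal.span (Set.range fun i => MvPolynomial.aeval y (P i)) = maximalIdeal S ∧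
      (∀ i, MvPolynomial.aeval y (P i) ^ n = ∑ j, lam i j * φ (a j)) ∧
      ∀ (Rp : Type u) (_ : CommRing Rp) (_ : Algebra k Rp) (ψ : MvPolynomial (Fin m) k →ₐ[k] Rp),
        (∀ f, IsUnit (MvPolynomial.aeval y f) → IsUnit (ψ f)) → (∀ i, ψ (P i) ^ e = 0) →
        ∀ (h : Rp →+* S ⧸ Ideal.span (Set.range fun i => MvPolynomial.aeval y (P i) ^ e)),
          (∀ f, h (ψ f) = Ideal.Quotient.mk _ (MvPolynomial.aeval y f)) →
          ∃ (B : Type u) (_ : CommRing B) (_ : Algebra Rp B), Algebra.Smooth Rp B ∧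
            ∃ (gB : A →+* B) (z : Fin d → Fin r → B)
              (hB : B →+* S ⧸ Ideal.span (Set.range fun i => MvPolynomial.aeval y (P i) ^ e)),
              (∀ c, gB (algebraMap k A c) = algebraMap Rp B (algebraMap k Rp c)) ∧
              (∀ x, hB (algebraMap Rp B x) = h x) ∧
              (∀ x, hB (gB x) = Ideal.Quotient.mk _ (φ x)) ∧
              (∀ i, algebraMap Rp B (ψ (P i)) ^ n = ∑ j, z i j * gB (a j)) ∧
              (∀ i j, hB (z i j) = Ideal.Quotient.mk _ (lam i j)) := by
  classical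
  let L := d * (e + n) + 2
  let T := S ⧸ maximalIdeal S ^ L
  let π : S →ₐ[k] T := Ideal.Quotient.mkₐ k _
  obtain ⟨G, hG⟩ := (Algebra.FiniteType.out : (⊤ : Subalgebra k A).FG)
  obtain ⟨m, y, A0, iloc, a0, hy, hE0, hArt, hflat, hess, hmA, hspan, hdimR, P, hPgen, hPS⟩ :=
    exists_base p hgeo hd L (by omega) (G.image fun g => π (φ g))
  haveI := iloc
  haveI := hflat
  haveI := hess
  haveI : IsNoetherianRing A0 := inferInstance
  have hne : maximalIdeal S ^ L ≠ ⊤ := ne_top_of_le_ne_top (maximalIdeal.isMaximal S).ne_top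
    (Ideal.pow_le_self (by omega))
  haveI : IsLocalRing T := Groth.L01.isLocalRing_quotient hne
  have hmT : maximalIdeal T = (maximalIdeal S).map (Ideal.Quotient.mk _) := Groth.L01.maximalIdeal_quotient_eq_map
  haveI : IsLocalHom (algebraMap A0 T) :=
    ((IsLocalRing.local_hom_TFAE (algebraMap A0 T)).out 0 2).mpr (hmA.le.trans hmT.ge)
  haveI : Module.FaithfullyFlat A0 T := Module.FaithfullyFlat.of_flat_of_isLocalHom
  -- `A` maps into `A0`
  have hrange : ∀ x, π (φ x) ∈ A0 := fun x => by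
    have hx : x ∈ Algebra.adjoin k (G : Set A) := hG ▸ trivial
    induction hx using Algebra.adjoin_induction with
    | mem g hg => exact hE0 _ (Finset.mem_image_of_mem _ hg)
    | algebraMap c => rw [AlgHom.commutes, AlgHom.commutes]; exact A0.algebraMap_mem c
    | add u v _ _ hu hv => rw [map_add, map_add]; exact A0.add_mem hu hv
    | mul u v _ _ hu hv => rw [map_mul, map_mul]; exact A0.mul_mem hu hv
  let φ0 : A →ₐ[k] A0 := (π.comp φ).codRestrict A0 hrange
  -- the equations in `A0`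
  let R0 := MvPolynomial (Fin m) k
  let ev : R0 →ₐ[k] S := MvPolynomial.aeval y
  let ev0 : R0 →ₐ[k] A0 := MvPolynomial.aeval a0
  have hev0 : ∀ f, (ev0 f : T) = π (ev f) := fun f =>
    DFunLike.congr_fun (MvPolynomial.algHom_ext (f := A0.val.comp ev0) (g := π.comp ev) fun j => by
      show A0.val (MvPolynomial.aeval a0 (X j)) = π (MvPolynomial.aeval y (X j))
      rw [MvPolynomial.aeval_X, MvPolynomial.aeval_X]
      exact hy j) f
  have hPn : ∀ i, ev (P i) ^ n ∈ Ideal.span (Set.range fun j => φ (a j)) := fun i =>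
    hn (Ideal.pow_mem_pow (hPS ▸ Ideal.subset_span ⟨i, rfl⟩) n)
  have hmem0 : ∀ i, ev0 (P i) ^ n ∈ Ideal.span (Set.range fun j => φ0 (a j)) := fun i => by
    rw [← Ideal.comap_map_eq_self_of_faithfullyFlat (B := T) (Ideal.span (Set.range fun j => φ0 (a j))), Ideal.mem_comap]
    have h1 := Ideal.mem_map_of_mem π (hPn i)
    rw [Ideal.map_span, ← Set.range_comp] at h1
    rw [Ideal.map_span, ← Set.range_comp, map_pow]
    show (ev0 (P i) : T) ^ n ∈ _
    rw [hev0, ← map_pow]
    exact h1
  choose z0 hz0 using fun i => Ideal.mem_span_range_iff_exists_fun.mp (hmem0 i)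
  -- exact coefficients in `S`
  choose μ hμ using fun i => Ideal.mem_span_range_iff_exists_fun.mp (hPn i)
  choose zt hzt using fun i j => Ideal.Quotient.mk_surjective (z0 i j : T)
  have herr : ∀ i, ev (P i) ^ n - ∑ j, zt i j * φ (a j) ∈ Ideal.span (Set.range fun l => ev (P l) ^ (e + n)) := by
    intro i
    refine pow_span_le (fun l => ev (P l)) (e + n) ?_
    rw [hPS]
    refine Ideal.pow_le_pow_right (show d * (e + n) + 1 ≤ L by omega) ?_
    rw [← Ideal.Quotient.eq_zero_iff_mem, map_sub, sub_eq_zero, map_pow, map_sum]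
    have h := congrArg A0.val (hz0 i)
    rw [map_sum, map_pow] at h
    refine Eq.trans ?_ (Eq.trans h.symm (Finset.sum_congr rfl fun j _ => ?_))
    · show Ideal.Quotient.mk _ (ev (P i)) ^ n = (ev0 (P i) : T) ^ n
      rw [hev0]
      rfl
    · rw [map_mul, map_mul, hzt]
      rfl
  choose c hc using fun i => Ideal.mem_span_range_iff_exists_fun.mp (herr i)
  let lam : Fin d → Fin r → S := fun i j => zt i j + ∑ l, c i l * ev (P l) ^ e * μ l j
  refine ⟨m, y, P, lam, hPS, fun i => ?_, ?_⟩
  · show ev (P i) ^ n = ∑ j, (zt i j + ∑ l, c i l * ev (P l) ^ e * μ l j) * φ (a j)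
    simp only [add_mul, Finset.sum_mul, Finset.sum_add_distrib]
    rw [Finset.sum_comm (f := fun j l => c i l * ev (P l) ^ e * μ l j * φ (a j))]
    have h2 : ∀ l, ∑ j, c i l * ev (P l) ^ e * μ l j * φ (a j) = c i l * ev (P l) ^ (e + n) := fun l => by
      simp only [mul_assoc, ← Finset.mul_sum]
      rw [hμ, pow_add]
    simp only [h2]
    rw [hc, add_sub_cancel]
  intro Rp _ _ ψ hψu hψe h hh
  -- the truncated parameter ring
  let p0 : Ideal R0 := (maximalIdeal S).comap ev
  let R0p := Localization.AtPrime p0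
  letI : Algebra R0 S := ev.toRingHom.toAlgebra
  haveI : IsScalarTower k R0 S := IsScalarTower.of_algebraMap_eq fun c => (ev.commutes c).symm
  letI : Algebra R0 A0 := ev0.toRingHom.toAlgebra
  haveI : IsScalarTower k R0 A0 := IsScalarTower.of_algebraMap_eq fun c => (ev0.commutes c).symm
  letI : Algebra R0p S := (IsLocalization.lift (M := p0.primeCompl) (g := algebraMap R0 S)
    (fun z => not_not.mp fun h => z.2 h) : R0p →+* S).toAlgebra
  haveI : IsScalarTower R0 R0p S := IsScalarTower.of_algebraMap_eq fun x => by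
    rw [RingHom.algebraMap_toAlgebra (R := R0p), IsLocalization.lift_eq]
  have hu0 : ∀ z : p0.primeCompl, IsUnit (algebraMap R0 A0 z) := fun z => by
    refine IsUnit.of_map (f := algebraMap A0 T) _ ?_
    show IsUnit ((ev0 z : A0) : T)
    rw [hev0]
    exact (not_not.mp fun h => z.2 h : IsUnit (ev z)).map _
  letI : Algebra R0p A0 := (IsLocalization.lift (M := p0.primeCompl) (g := algebraMap R0 A0) hu0 : R0p →+* A0).toAlgebra
  haveI : IsScalarTower R0 R0p A0 := IsScalarTower.of_algebraMap_eq fun x => by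
    rw [RingHom.algebraMap_toAlgebra (R := R0p), IsLocalization.lift_eq]
  haveI : IsScalarTower R0p A0 T := IsScalarTower.of_algebraMap_eq' <|
    IsLocalization.ringHom_ext p0.primeCompl (RingHom.ext fun f => by
      show Ideal.Quotient.mk _ (algebraMap R0p S (algebraMap R0 R0p f)) =
        ((algebraMap R0p A0 (algebraMap R0 R0p f) : A0) : T)
      rw [← IsScalarTower.algebraMap_apply R0 R0p A0, ← IsScalarTower.algebraMap_apply R0 R0p S]
      exact (hev0 f).symm)
  have hmapS : (maximalIdeal R0p).map (algebraMap R0p S) = maximalIdeal S := by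
    rw [← hPgen, Ideal.map_span, ← Set.range_comp]
    refine Eq.trans (congrArg Ideal.span (congrArg Set.range (funext fun i => ?_))) hPS
    exact (IsScalarTower.algebraMap_apply R0 R0p S (P i)).symm
  haveI : IsLocalHom (algebraMap R0p S) := ((IsLocalRing.local_hom_TFAE (algebraMap R0p S)).out 0 2).mpr hmapS.le
  haveI : IsRegularLocalRing R0p := IsRegularRing.isRegularLocalRing_localization p0
  haveI : Module.Flat R0p S := RegFlat.flat_of_regular d R0p S hdimR hd hmapS
  haveI : IsLocalHom (algebraMap R0p A0) := by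
    refine ⟨fun z hz => ?_⟩
    have h1 : IsUnit (algebraMap R0p T z) := by
      rw [IsScalarTower.algebraMap_apply R0p A0 T]
      exact hz.map (algebraMap A0 T)
    haveI : IsLocalHom (Ideal.Quotient.mk (maximalIdeal S ^ L)) :=
      IsLocalHom.of_surjective _ Ideal.Quotient.mk_surjective
    exact IsUnit.of_map (f := algebraMap R0p S) _ (IsUnit.of_map (f := Ideal.Quotient.mk (maximalIdeal S ^ L)) _ h1)
  haveI := formallyUnramified_of_span a0 hspan fun j => MvPolynomial.aeval_X a0 j
  haveI : Algebra.FormallyUnramified R0p A0 := Algebra.FormallyUnramified.of_restrictScalars R0 R0p A0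
  haveI : Algebra.EssFiniteType R0 A0 := Algebra.EssFiniteType.of_comp k R0 A0
  haveI : Algebra.EssFiniteType R0p A0 := Algebra.EssFiniteType.of_comp R0 R0p A0
  let K0 : Ideal R0p := Ideal.span (Set.range fun i => algebraMap R0 R0p (P i) ^ e)
  have hK0 : K0 ≤ maximalIdeal R0p := Ideal.span_le.mpr (by
    rintro _ ⟨i, rfl⟩
    exact Ideal.pow_mem_of_mem _ (hPgen ▸ Ideal.subset_span ⟨i, rfl⟩) _ he)
  have hN : maximalIdeal R0p ^ (d * e + 1) ≤ K0 := by
    rw [← hPgen]
    exact pow_span_le _ e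
  have hKS : K0.map (algebraMap R0p S) = Ideal.span (Set.range fun i => ev (P i) ^ e) := by
    rw [Ideal.map_span, ← Set.range_comp]
    refine congrArg Ideal.span (congrArg Set.range (funext fun i => ?_))
    show algebraMap R0p S (algebraMap R0 R0p (P i) ^ e) = _
    rw [map_pow, ← IsScalarTower.algebraMap_apply R0 R0p S]
    rfl
  have hLK : maximalIdeal S ^ L ≤ K0.map (algebraMap R0p S) := by
    have hd1 : d * e + 1 ≤ L := by
      have : d * e ≤ d * (e + n) := Nat.mul_le_mul_left d (Nat.le_add_right e n)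
      omega
    refine le_trans (le_of_eq ?_) (Ideal.map_mono ((Ideal.pow_le_pow_right hd1).trans hN))
    rw [Ideal.map_pow, hmapS]
  let S' := S ⧸ K0.map (algebraMap R0p S)
  let T' := T ⧸ K0.map (algebraMap R0p T)
  haveI : Module.Flat (R0p ⧸ K0) S' := by
    let E : ((R0p ⧸ K0) ⊗[R0p] S) ≃ₐ[R0p] S' :=
      (Algebra.TensorProduct.comm R0p (R0p ⧸ K0) S).trans
        ((Algebra.TensorProduct.quotIdealMapEquivTensorQuot S K0).symm.restrictScalars R0p)
    exact Module.Flat.of_linearEquiv
      (AlgEquiv.extendScalarsOfSurjective (R := R0p) (S := R0p ⧸ K0) Ideal.Quotient.mk_surjective E).toLinearEquiv.symm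
  have hKT : K0.map (algebraMap R0p T) = (K0.map (algebraMap R0p S)).map (Ideal.Quotient.mk _) := by
    rw [Ideal.map_map]
    rfl
  let e1 : T' ≃+* S' := (Ideal.quotEquivOfEq hKT).trans (DoubleQuot.quotQuotEquivQuotOfLE hLK)
  have he1 : ∀ s, e1 (Ideal.Quotient.mk _ (Ideal.Quotient.mk _ s)) = Ideal.Quotient.mk _ s := fun s => rfl
  let e2 : T' ≃ₐ[R0p ⧸ K0] S' :=
    { e1 with
      commutes' := fun x => by
        obtain ⟨x, rfl⟩ := Ideal.Quotient.mk_surjective x
        exact he1 _ }
  haveI : Module.Flat (R0p ⧸ K0) T' := Module.Flat.of_linearEquiv e2.toLinearEquiv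
  haveI := flat_quotient_of_faithfullyFlat (R := R0p) (A := A0) (T := T) K0
  let S0 := R0p ⧸ K0
  let A' := A0 ⧸ K0.map (algebraMap R0p A0)
  have hind : _root_.Smoothing.IndSmooth S0 A' := indSmooth_of_unramified K0 hK0 (d * e + 1) hN
  -- test algebra
  haveI : IsScalarTower k R0p A0 := IsScalarTower.of_algebraMap_eq fun c => by
    rw [IsScalarTower.algebraMap_apply k R0 R0p, ← IsScalarTower.algebraMap_apply R0 R0p A0,
      ← IsScalarTower.algebraMap_apply k R0 A0]
  haveI : IsScalarTower k S0 A' := IsScalarTower.of_algebraMap_eq fun c => by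
    show Ideal.Quotient.mk _ (algebraMap k A0 c) = Ideal.Quotient.mk _ (algebraMap R0p A0 (algebraMap k R0p c))
    rw [← IsScalarTower.algebraMap_apply k R0p A0]
  let f' : S0 ⊗[k] A →ₐ[S0] A' := Algebra.TensorProduct.lift (Algebra.ofId S0 A')
    ((Ideal.Quotient.mkₐ k _).comp φ0) fun _ _ => Commute.all _ _
  have hrel : ∀ i, algebraMap S0 A' (Ideal.Quotient.mk _ (algebraMap R0 R0p (P i) ^ n)) =
      ∑ j, Ideal.Quotient.mk _ (z0 i j) * f' ((1 : S0) ⊗ₜ a j) := fun i => by
    show Ideal.Quotient.mk _ (algebraMap R0p A0 (algebraMap R0 R0p (P i) ^ n)) = _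
    rw [map_pow (algebraMap R0p A0), ← IsScalarTower.algebraMap_apply R0 R0p A0]
    show Ideal.Quotient.mk _ (ev0 (P i) ^ n) = _
    rw [← hz0 i, map_sum]
    refine Finset.sum_congr rfl fun j _ => ?_
    rw [map_mul, Algebra.TensorProduct.lift_tmul, map_one, one_mul]
    rfl
  haveI : IsNoetherianRing S0 := inferInstance
  obtain ⟨B0, _, _, hB0, g0, zB, h0, hg0, hB0rel, hB0z⟩ := exists_smooth_equations hind f'
    (fun i => Ideal.Quotient.mk _ (algebraMap R0 R0p (P i) ^ n)) (fun j => (1 : S0) ⊗ₜ a j)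
    (fun i j => Ideal.Quotient.mk _ (z0 i j)) hrel
  haveI := hB0
  -- base change
  have hψp : ∀ f : p0.primeCompl, IsUnit (ψ f) := fun f => hψu _ (not_not.mp fun h => f.2 h)
  let ψp : R0p →+* Rp := IsLocalization.lift (M := p0.primeCompl) (g := ψ.toRingHom) hψp
  have hψp' : ∀ f, ψp (algebraMap R0 R0p f) = ψ f := fun f => IsLocalization.lift_eq _ f
  let ψ0 : S0 →+* Rp := Ideal.Quotient.lift K0 ψp fun x hx =>
    (Ideal.span_le.mpr (by
      rintro _ ⟨i, rfl⟩
      show ψp _ = 0
      rw [map_pow, hψp', hψe]) : K0 ≤ RingHom.ker ψp) hx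
  letI : Algebra S0 Rp := ψ0.toAlgebra
  let J : Ideal S := Ideal.span (Set.range fun i => ev (P i) ^ e)
  let Te := S ⧸ J
  let q : A' →+* Te := (Ideal.quotEquivOfEq hKS).toRingHom.comp (e1.toRingHom.comp
    (Ideal.quotientMap (K0.map (algebraMap R0p T)) (algebraMap A0 T) (by
      rw [← Ideal.map_le_iff_le_comap, Ideal.map_map, ← IsScalarTower.algebraMap_eq])))
  have hq : ∀ (x : A0) (s : S), (x : T) = π s → q (Ideal.Quotient.mk _ x) = Ideal.Quotient.mk J s := fun x s hs => by
    show Ideal.quotEquivOfEq hKS (e1 (Ideal.Quotient.mk _ (x : T))) = _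
    rw [hs]
    rfl
  have hqh : q.comp (algebraMap S0 A') = h.comp ψ0 := by
    refine Ideal.Quotient.ringHom_ext (IsLocalization.ringHom_ext p0.primeCompl (RingHom.ext fun f => ?_))
    show q (Ideal.Quotient.mk _ (algebraMap R0p A0 (algebraMap R0 R0p f))) = h (ψp (algebraMap R0 R0p f))
    rw [hψp', hh, ← IsScalarTower.algebraMap_apply R0 R0p A0]
    exact hq _ _ (hev0 f)
  letI : Algebra Rp Te := h.toAlgebra
  letI : Algebra S0 Te := (h.comp ψ0).toAlgebra
  haveI : IsScalarTower S0 Rp Te := IsScalarTower.of_algebraMap_eq' rfl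
  let hA : B0 →ₐ[S0] Te :=
    { q.comp h0.toRingHom with
      commutes' := fun x => by
        show q (h0 (algebraMap S0 B0 x)) = h (ψ0 x)
        rw [AlgHom.commutes]
        exact RingHom.congr_fun hqh x }
  let hB : Rp ⊗[S0] B0 →ₐ[Rp] Te := Algebra.TensorProduct.lift (Algebra.ofId Rp Te) hA fun _ _ => Commute.all _ _
  have hB1 : ∀ b, hB ((1 : Rp) ⊗ₜ b) = q (h0 b) := fun b => by
    rw [Algebra.TensorProduct.lift_tmul, map_one, one_mul]
    rfl
  let gA : A →+* Rp ⊗[S0] B0 := (Algebra.TensorProduct.includeRight : B0 →ₐ[S0] Rp ⊗[S0] B0).toRingHom.comp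
    (g0.toRingHom.comp (Algebra.TensorProduct.includeRight : A →ₐ[k] S0 ⊗[k] A).toRingHom)
  have hgA : ∀ x, gA x = (1 : Rp) ⊗ₜ g0 ((1 : S0) ⊗ₜ x) := fun x => rfl
  have hS0 : ∀ x : S0, (1 : Rp) ⊗ₜ[S0] algebraMap S0 B0 x = algebraMap Rp (Rp ⊗[S0] B0) (ψ0 x) := fun x => by
    rw [Algebra.algebraMap_eq_smul_one, ← TensorProduct.smul_tmul, Algebra.smul_def, mul_one]
    rfl
  refine ⟨Rp ⊗[S0] B0, inferInstance, inferInstance, inferInstance, gA, fun i j => (1 : Rp) ⊗ₜ zB i j, hB.toRingHom,
    fun c => ?_, fun x => hB.commutes x, fun x => ?_, fun i => ?_, fun i j => ?_⟩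
  · rw [hgA, show ((1 : S0) ⊗ₜ[k] algebraMap k A c) = algebraMap S0 (S0 ⊗[k] A) (algebraMap k S0 c) from by
      rw [← IsScalarTower.algebraMap_apply k S0 (S0 ⊗[k] A)]
      exact (Algebra.TensorProduct.includeRight : A →ₐ[k] S0 ⊗[k] A).commutes c, AlgHom.commutes, hS0]
    refine congrArg _ ?_
    show ψp (algebraMap k R0p c) = _
    rw [IsScalarTower.algebraMap_apply k R0 R0p, hψp']
    exact ψ.commutes c
  · show hB (gA x) = _
    rw [hgA, hB1, show h0 (g0 ((1 : S0) ⊗ₜ x)) = f' ((1 : S0) ⊗ₜ x) from AlgHom.congr_fun hg0 _,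
      Algebra.TensorProduct.lift_tmul, map_one, one_mul]
    exact hq _ _ rfl
  · simp only [hgA, Algebra.TensorProduct.tmul_mul_tmul, one_mul, ← TensorProduct.tmul_sum, ← hB0rel, hS0]
    rw [← map_pow (algebraMap Rp _)]
    refine congrArg _ ?_
    show _ = ψp (algebraMap R0 R0p (P i) ^ n)
    rw [map_pow, hψp']
  · show hB _ = _
    rw [hB1, hB0z, hq _ _ (hzt i j).symm, Ideal.Quotient.eq]
    show zt i j - (zt i j + ∑ l, c i l * ev (P l) ^ e * μ l j) ∈ J
    rw [sub_add_cancel_left, neg_mem_iff]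
    exact Ideal.sum_mem _ fun l _ => Ideal.mul_mem_right _ _ (Ideal.mul_mem_left _ _ (Ideal.subset_span ⟨l, rfl⟩))

end Groth.L14.Smoothing.Insep
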