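import Groth.Agent.L14.Smoothing.InsepReduced
import Groth.Agent.L14.Smoothing.InsepFactor
import Groth.Agent.L14.Smoothing.BaseChange
import Groth.Agent.L06.FormSmoothField2

/-!
Resolution at a prime of a geometrically regular algebra in positive characteristic.
-/

set_option autoImplicit false
set_option linter.style.haveILetI false

noncomputable section

open MvPolynomial IsLocalRing TensorProduct

namespace Groth.L14.Smoothing.Insep

universe u

/-- Clearing denominators in a system of linear equations over a localisation at a prime. -/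
theorem exists_clearing {L : Type u} [CommRing L] (q : Ideal L) [q.IsPrime] {d r : ℕ} (x : Fin d → L)
    (a : Fin r → L) (c : Fin d → Fin r → Localization.AtPrime q)
    (h : ∀ i, algebraMap L (Localization.AtPrime q) (x i) = ∑ j, c i j * algebraMap L (Localization.AtPrime q) (a j)) :
    ∃ (t : L) (l : Fin d → Fin r → L), t ∉ q ∧ (∀ i, t * x i = ∑ j, l i j * a j) ∧
      ∀ i j, algebraMap L (Localization.AtPrime q) (l i j) = algebraMap L (Localization.AtPrime q) t * c i j := by
  classical
  let am := algebraMap L (Localization.AtPrime q)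
  obtain ⟨D, hD⟩ := IsLocalization.exist_integer_multiples_of_finite q.primeCompl fun ij : Fin d × Fin r => c ij.1 ij.2
  choose l hl using fun i j => (hD (i, j) : ∃ v, am v = (D : L) • c i j)
  have h1 : ∀ i, am ((D : L) * x i) = am (∑ j, l i j * a j) := fun i => by
    rw [map_mul, h, map_sum, Finset.mul_sum]
    refine Finset.sum_congr rfl fun j _ => ?_
    rw [map_mul, hl, Algebra.smul_def, mul_assoc]
  choose t ht using fun i => IsLocalization.exists_of_eq (M := q.primeCompl) (h1 i)
  refine ⟨(∏ i, (t i : L)) * D, fun i j => (∏ i, (t i : L)) * l i j, fun hmem => ?_, fun i => ?_, fun i j => ?_⟩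
  · rcases Ideal.IsPrime.mem_or_mem ‹_› hmem with h' | h'
    · obtain ⟨i, -, hi⟩ := (Ideal.IsPrime.prod_mem_iff (p := q)).mp h'
      exact (t i).2 hi
    · exact D.2 h'
  · obtain ⟨w, hw⟩ := Finset.dvd_prod_of_mem (fun i => (t i : L)) (Finset.mem_univ i)
    simp only [mul_assoc, ← Finset.mul_sum]
    rw [hw, mul_comm (t i : L) w, mul_assoc, mul_assoc, ht]
  · show am (_ * l i j) = am (_ * (D : L)) * c i j
    rw [map_mul, map_mul, hl, Algebra.smul_def, mul_assoc]

set_option maxHeartbeats 1000000 in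
/-- Resolution through a smooth base carrying the parameters. -/
theorem resolvable_over_base {k A Λ R : Type u} [Field k] [CommRing A] [Algebra k A] [CommRing Λ] [Algebra k Λ]
    [IsNoetherianRing Λ] (φ : A →ₐ[k] Λ) (q : Ideal Λ) [q.IsPrime]
    [CommRing R] [IsNoetherianRing R] [Algebra k R] [Algebra.FormallySmooth k R] [Algebra.FinitePresentation k R]
    [Algebra R Λ] [IsScalarTower k R Λ]
    {r d m : ℕ} (a : Fin r → A) (n M N : ℕ) (hM : 0 < M)
    [Algebra (MvPolynomial (Fin d) k) R] [IsScalarTower k (MvPolynomial (Fin d) k) R]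
    (I : Ideal Λ) (hI : I = Ideal.span (Set.range fun j => φ (a j)))
    (hIdef : I = (_root_.Smoothing.singularIdeal k A).map φ)
    {C : Type u} [CommRing C] [Algebra (MvPolynomial (Fin d) k) C]
    [Algebra.FinitePresentation (MvPolynomial (Fin d) k) C] (g : A →+* C)
    (hgk : ∀ c, g (algebraMap k A c) = algebraMap (MvPolynomial (Fin d) k) C (MvPolynomial.C c))
    (hga : ∀ j, g (a j) ∈ _root_.Smoothing.singularIdeal (MvPolynomial (Fin d) k) C)
    (hstd : ∀ i, _root_.Smoothing.IsStrictlyStandard (MvPolynomial (Fin d) k) C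
      (algebraMap (MvPolynomial (Fin d) k) C (MvPolynomial.X i ^ M)))
    (ρ : C →+* Sep.Model a n d) (hρg : ∀ x, ρ (g x) = algebraMap A (Sep.Model a n d) x)
    (hρf : ∀ f, ρ (algebraMap (MvPolynomial (Fin d) k) C f) = Sep.modelParam a n f)
    (π : Fin d → Λ) (lam : Fin d → Fin r → Λ) (hL : Sep.Model a n d →+* Λ)
    (hLA : ∀ x, hL (algebraMap A (Sep.Model a n d) x) = φ x)
    (hLX : ∀ i, hL (Ideal.Quotient.mk _ (X (Sum.inl i))) = π i)
    (hLZ : ∀ i j, hL (Ideal.Quotient.mk _ (X (Sum.inr (i, j)))) = lam i j)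
    (hπq : ∀ i, π i ∈ q)
    (hsstab : ∀ (i : Fin d) (S : Finset (Fin d)), (∀ j ∈ S, j < i) → ∀ r : Λ,
      π i ^ 2 * r ∈ Ideal.span ((fun j => π j ^ (8 * M)) '' (S : Set (Fin d))) →
      π i * r ∈ Ideal.span ((fun j => π j ^ (8 * M)) '' (S : Set (Fin d))))
    (hRstab : ∀ (i : Fin d) (r : R),
      algebraMap (MvPolynomial (Fin d) k) R (X i) ^ 2 * r ∈
        Ideal.span ((fun j => algebraMap (MvPolynomial (Fin d) k) R (X j) ^ (8 * M)) '' {j | j < i}) →
      algebraMap (MvPolynomial (Fin d) k) R (X i) * r ∈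
        Ideal.span ((fun j => algebraMap (MvPolynomial (Fin d) k) R (X j) ^ (8 * M)) '' {j | j < i}))
    (hπR : ∀ i, algebraMap R Λ (algebraMap (MvPolynomial (Fin d) k) R (X i)) = π i)
    (y : Fin m → Localization.AtPrime q) (P : Fin d → MvPolynomial (Fin m) k)
    (lam0 : Fin d → Fin r → Localization.AtPrime q)
    (hPy : Ideal.span (Set.range fun i => MvPolynomial.aeval y (P i)) = maximalIdeal (Localization.AtPrime q))
    (huniv : ∀ (Rp : Type u) (_ : CommRing Rp) (_ : Algebra k Rp) (ψ : MvPolynomial (Fin m) k →ₐ[k] Rp),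
      (∀ f, IsUnit (MvPolynomial.aeval y f) → IsUnit (ψ f)) → (∀ i, ψ (P i) ^ (8 * M) = 0) →
      ∀ (h : Rp →+* Localization.AtPrime q ⧸ Ideal.span (Set.range fun i => MvPolynomial.aeval y (P i) ^ (8 * M))),
        (∀ f, h (ψ f) = Ideal.Quotient.mk _ (MvPolynomial.aeval y f)) →
        ∃ (B : Type u) (_ : CommRing B) (_ : Algebra Rp B), Algebra.Smooth Rp B ∧
          ∃ (gB : A →+* B) (z : Fin d → Fin r → B)
            (hB : B →+* Localization.AtPrime q ⧸ Ideal.span (Set.range fun i => MvPolynomial.aeval y (P i) ^ (8 * M))),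
            (∀ c, gB (algebraMap k A c) = algebraMap Rp B (algebraMap k Rp c)) ∧
            (∀ x, hB (algebraMap Rp B x) = h x) ∧
            (∀ x, hB (gB x) = Ideal.Quotient.mk _ (algebraMap Λ (Localization.AtPrime q) (φ x))) ∧
            (∀ i, algebraMap Rp B (ψ (P i)) ^ n = ∑ j, z i j * gB (a j)) ∧
            (∀ i j, hB (z i j) = Ideal.Quotient.mk _ (lam0 i j)))
    (β : R) (η : Fin m → R) (hβ : algebraMap R Λ β ∉ q)
    (hη : ∀ j, algebraMap Λ (Localization.AtPrime q) (algebraMap R Λ (η j)) =
      algebraMap Λ (Localization.AtPrime q) (algebraMap R Λ β) * y j)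
    (Pt : Fin d → MvPolynomial (Option (Fin m)) k)
    (hPt : ∀ (B : Type u) [CommRing B] [Algebra k B] (v : Fin m → B) (b : B) (i : Fin d),
      MvPolynomial.aeval (fun o => Option.elim o b fun j => b * v j) (Pt i) = b ^ N * MvPolynomial.aeval v (P i))
    (c0 : Fin d → R) (hc0 : ∀ i, algebraMap R Λ (c0 i) ∉ q)
    (hX : ∀ i, algebraMap (MvPolynomial (Fin d) k) R (X i) =
      c0 i * MvPolynomial.aeval (fun o => Option.elim o β η) (Pt i))
    (hlam : ∀ i j, algebraMap Λ (Localization.AtPrime q) (lam i j) =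
      algebraMap Λ (Localization.AtPrime q) (algebraMap R Λ (c0 i * β ^ N)) ^ n * lam0 i j) :
    _root_.Smoothing.Resolvable k φ q := by
  classical
  let e := 8 * M
  have he : 0 < e := by omega
  let X0 := MvPolynomial (Fin d) k
  letI : Algebra X0 Λ := ((algebraMap R Λ).comp (algebraMap X0 R)).toAlgebra
  haveI : IsScalarTower X0 R Λ := IsScalarTower.of_algebraMap_eq' rfl
  let hC : C →ₐ[X0] Λ :=
    { hL.comp ρ with
      commutes' := fun f => by
        show hL (ρ (algebraMap X0 C f)) = _
        rw [hρf, modelLift_param a n hL φ.toRingHom φ.commutes hLA π hLX f]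
        refine RingHom.congr_fun (MvPolynomial.ringHom_ext
          (f := (MvPolynomial.aeval π : X0 →ₐ[k] Λ).toRingHom) (g := algebraMap X0 Λ) (fun c => ?_) (fun i => ?_)) f
        · show MvPolynomial.aeval π (MvPolynomial.C c) = algebraMap R Λ (algebraMap X0 R (algebraMap k X0 c))
          rw [MvPolynomial.aeval_C, ← IsScalarTower.algebraMap_apply k X0 R, ← IsScalarTower.algebraMap_apply k R Λ]
        · show MvPolynomial.aeval π (X i) = algebraMap R Λ (algebraMap X0 R (X i))
          rw [MvPolynomial.aeval_X, hπR] }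
  let φR : R ⊗[X0] C →ₐ[R] Λ := Algebra.TensorProduct.lift (Algebra.ofId R Λ) hC fun _ _ => Commute.all _ _
  have hφR : ∀ x, φR ((1 : R) ⊗ₜ x) = hL (ρ x) := fun x => by
    rw [Algebra.TensorProduct.lift_tmul, map_one, one_mul]
    rfl
  let π' : Fin d → R := fun i => algebraMap X0 R (X i) ^ M
  have hπ'8 : ∀ i, π' i ^ 8 = algebraMap X0 R (X i) ^ e := fun i => by
    show (algebraMap X0 R (X i) ^ M) ^ 8 = _
    rw [← pow_mul, mul_comm M 8]
  let K : Ideal R := Ideal.span (Set.range fun i => π' i ^ 8)
  let φK : ((R ⊗[X0] C) ⧸ K.map (algebraMap R (R ⊗[X0] C))) →ₐ[R ⧸ K] (Λ ⧸ K.map (algebraMap R Λ)) :=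
    { Ideal.quotientMap (K.map (algebraMap R Λ)) φR.toRingHom (Ideal.map_le_iff_le_comap.mpr fun x hx => by
        show φR (algebraMap R _ x) ∈ K.map (algebraMap R Λ)
        rw [φR.commutes]
        exact Ideal.mem_map_of_mem _ hx) with
      commutes' := fun x => by
        obtain ⟨x, rfl⟩ := Ideal.Quotient.mk_surjective x
        exact congrArg (Ideal.Quotient.mk _) (φR.commutes x) }
  haveI : IsNoetherianRing R := inferInstance
  have hres : _root_.Smoothing.Resolvable R φR q := by
    refine ModPow.resolvable_of_mod_pow φR q π' (fun i => ?_) (fun i x hx => ?_) (fun i x hx => ?_) (fun i => ?_)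
      K rfl φK (fun c => rfl) ?_
    · show algebraMap R Λ (algebraMap X0 R (X i) ^ M) ∈ q
      rw [map_pow, hπR]
      exact Ideal.pow_mem_of_mem _ (hπq i) _ hM
    · obtain ⟨x, rfl⟩ := Ideal.Quotient.mk_surjective x
      rw [← map_pow, ← map_mul, Ideal.Quotient.eq_zero_iff_mem] at hx
      rw [← map_mul, Ideal.Quotient.eq_zero_iff_mem]
      have heq : (Set.range fun j : {j : Fin d // (j : ℕ) < (i : ℕ)} => π' j ^ 8) =
          (fun j => algebraMap X0 R (X j) ^ e) '' {j | j < i} := by
        ext z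
        simp only [Set.mem_range, Set.mem_image, Subtype.exists, Set.mem_ofPred_eq, hπ'8, exists_prop]
        rfl
      rw [heq] at hx ⊢
      exact ann_pow _ _ (fun x hx => hRstab i x hx) M hM x hx
    · have heq : (Set.range fun j : {j : Fin d // (j : ℕ) < (i : ℕ)} => algebraMap R Λ (π' j) ^ 8) =
          (fun j => π j ^ e) '' ((Finset.univ.filter fun j => j < i : Finset (Fin d)) : Set (Fin d)) := by
        ext z
        simp only [Set.mem_range, Set.mem_image, Subtype.exists, Finset.coe_filter, Finset.mem_univ, true_and,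
          Set.mem_setOf_eq, ← map_pow, hπ'8, exists_prop]
        have hπR' : ∀ i, algebraMap R Λ (algebraMap X0 R (X i)) = π i := hπR
        simp only [map_pow, hπR']
        rfl
      revert x
      rw [heq]
      intro x hx
      obtain ⟨x, rfl⟩ := Ideal.Quotient.mk_surjective x
      rw [← map_pow, ← map_mul, Ideal.Quotient.eq_zero_iff_mem] at hx
      rw [← map_mul, Ideal.Quotient.eq_zero_iff_mem]
      have hπ' : algebraMap R Λ (π' i) = π i ^ M := by
        rw [show π' i = algebraMap X0 R (X i) ^ M from rfl, map_pow, hπR]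
      rw [hπ'] at hx ⊢
      exact ann_pow _ _ (fun x hx => hsstab i _ (fun j hj => (Finset.mem_filter.mp hj).2) x hx) M hM x hx
    · have h1 := (Groth.L14.Smoothing.isStandard_baseChange (R := X0) (R' := R) (A := C)
        (algebraMap X0 C (X i ^ M))).2 (hstd i)
      have h2 : (1 : R) ⊗ₜ[X0] algebraMap X0 C (X i ^ M) = algebraMap R (R ⊗[X0] C) (π' i) := by
        rw [Algebra.algebraMap_eq_smul_one, ← TensorProduct.smul_tmul, Algebra.smul_def, mul_one, map_pow]
        rfl
      rwa [h2] at h1
    · refine resolvable_reduced_insep q a n e N he ρ hρf φ π lam hL hLA hLX hLZ y P lam0 hPy huniv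
        β η hβ hη Pt hPt c0 hc0 hX hπR hlam
        K (fun i => ?_) (Ideal.span_le.mpr ?_) φR hφR φK (fun x => rfl)
      · exact Ideal.subset_span ⟨i, hπ'8 i⟩
      · rintro _ ⟨i, rfl⟩
        exact Ideal.subset_span ⟨i, (hπ'8 i).symm⟩
  obtain ⟨B, iB, iRB, hBfp, g2, h2, hgh2, hle, hnot⟩ := hres
  haveI := hBfp
  letI : Algebra k B := ((algebraMap R B).comp (algebraMap k R)).toAlgebra
  haveI : IsScalarTower k R B := IsScalarTower.of_algebraMap_eq' rfl
  haveI : Algebra.FinitePresentation k B := Algebra.FinitePresentation.trans k R B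
  let hB : B →ₐ[k] Λ := h2.restrictScalars k
  have hS : _root_.Smoothing.singRad R h2 ≤ _root_.Smoothing.singRad k hB := by
    refine Ideal.radical_mono ?_
    show (_root_.Smoothing.singularIdeal R B).map h2.toRingHom ≤ (_root_.Smoothing.singularIdeal k B).map h2.toRingHom
    refine Ideal.map_mono fun z hz => ?_
    refine DesingApply.mem_singularIdeal_of_forall fun Q _ hzQ => ?_
    haveI : Algebra.IsSmoothAt R Q := DesingApply.isSmoothAt_of_notMem' hz Q hzQ
    exact Algebra.FormallySmooth.comp k R (Localization.AtPrime Q)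
  let gA : A →ₐ[k] B :=
    { g2.toRingHom.comp ((Algebra.TensorProduct.includeRight : C →ₐ[X0] R ⊗[X0] C).toRingHom.comp g) with
      commutes' := fun c => by
        show g2 ((1 : R) ⊗ₜ g (algebraMap k A c)) = algebraMap R B (algebraMap k R c)
        rw [hgk, show ((1 : R) ⊗ₜ[X0] algebraMap X0 C (MvPolynomial.C c)) =
          algebraMap R (R ⊗[X0] C) (algebraMap X0 R (MvPolynomial.C c)) from by
            rw [Algebra.algebraMap_eq_smul_one, ← TensorProduct.smul_tmul, Algebra.smul_def, mul_one]
            rfl,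
          AlgHom.commutes, show (MvPolynomial.C c : X0) = algebraMap k X0 c from rfl,
          ← IsScalarTower.algebraMap_apply k X0 R] }
  have hgA : ∀ x, h2 (g2 ((1 : R) ⊗ₜ g x)) = φ x := fun x => by
    rw [show h2 (g2 ((1 : R) ⊗ₜ g x)) = φR ((1 : R) ⊗ₜ g x) from AlgHom.congr_fun hgh2 _, hφR, hρg]
    exact hLA x
  refine ⟨B, iB, inferInstance, inferInstance, gA, hB, AlgHom.ext hgA, le_trans ?_ hS, fun hc => hnot (hS.trans hc)⟩
  refine le_trans ?_ hle
  refine Ideal.radical_mono ?_
  show (_root_.Smoothing.singularIdeal k A).map φ ≤ _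
  rw [← hIdef]
  rw [hI, Ideal.span_le]
  rintro _ ⟨j, rfl⟩
  show φ (a j) ∈ _
  have h3 : φR ((1 : R) ⊗ₜ g (a j)) = φ (a j) := by
    rw [hφR, hρg]
    exact hLA _
  rw [← h3]
  exact Ideal.mem_map_of_mem φR (mem_singularIdeal_baseChange (hga j))


set_option maxHeartbeats 1000000 in
/-- Resolution at a prime of a geometrically regular algebra in positive characteristic. -/
theorem resolvable_insep {k A Λ : Type u} [Field k] (p : ℕ) [Fact p.Prime] [CharP k p] [CommRing A] [Algebra k A]
    [Algebra.FinitePresentation k A] [CommRing Λ] [Algebra k Λ] [IsNoetherianRing Λ]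
    (hreg : CAlg.IsGeometricallyRegular k Λ) (φ : A →ₐ[k] Λ) (q : Ideal Λ) [q.IsPrime]
    (hmin : q ∈ (_root_.Smoothing.singRad k φ).minimalPrimes) : _root_.Smoothing.Resolvable k φ q := by
  classical
  haveI : IsRegularRing (k ⊗[k] Λ) := hreg k inferInstance
  haveI : IsRegularRing Λ := IsRegularRing.of_ringEquiv (Algebra.TensorProduct.lid k Λ).toRingEquiv
  let S := Localization.AtPrime q
  let am : Λ →+* S := algebraMap Λ S
  haveI : IsRegularLocalRing S := IsRegularRing.isRegularLocalRing_localization q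
  have hgeoS : CAlg.IsGeometricallyRegular k S :=
    Groth.L06.FormSmooth.isGeometricallyRegular_of_isLocalization hreg q.primeCompl S
  obtain ⟨d, hd⟩ := Groth.L01.exists_dim_eq_nat (R := S)
  haveI : IsNoetherianRing A := Algebra.FiniteType.isNoetherianRing k A
  obtain ⟨r, a, ha⟩ := Submodule.fg_iff_exists_fin_generating_family.mp
    (IsNoetherian.noetherian (_root_.Smoothing.singularIdeal k A))
  let I := (_root_.Smoothing.singularIdeal k A).map φ
  have hI : I = Ideal.span (Set.range fun j => φ (a j)) := by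
    show (_root_.Smoothing.singularIdeal k A).map φ = _
    rw [← ha]
    show (Ideal.span (Set.range a)).map φ = _
    rw [Ideal.map_span, ← Set.range_comp]
    rfl
  obtain ⟨n, hn, hpow⟩ := Sep.map_prime_pow_le I q hmin
  obtain ⟨C, iC, iXC, hfp, g, hgk, hga, M, hM, hstd, ρ, hρg, hρf⟩ := Sep.exists_standard_model' (k := k) a ha n d
  haveI := hfp
  let e := 8 * M
  have he : 0 < e := by omega
  let φS : A →ₐ[k] S := (IsScalarTower.toAlgHom k Λ S).comp φ
  have hnS : maximalIdeal S ^ n ≤ Ideal.span (Set.range fun j => φS (a j)) := by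
    rw [Ideal.map_pow, Localization.AtPrime.map_eq_maximalIdeal, hI, Ideal.map_span, ← Set.range_comp] at hpow
    exact hpow
  obtain ⟨m, y, P, lam0, hPy, hlam0, huniv⟩ := exists_smooth_factor p hgeoS φS a hd n e he hnS
  obtain ⟨b, hb⟩ := IsLocalization.exist_integer_multiples_of_finite q.primeCompl y
  choose η hη using hb
  -- the polynomial ring carrying the parameters
  let A' := MvPolynomial (Option (Fin m)) k
  let ev : A' →ₐ[k] Λ := MvPolynomial.aeval fun o => Option.elim o (b : Λ) η
  obtain ⟨N, Pt, hPt⟩ := exists_homogenization P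
  have hbu : IsUnit (am b) := IsLocalization.map_units S b
  have hval : (fun o => (IsScalarTower.toAlgHom k Λ S) (Option.elim o (b : Λ) η)) =
      fun o => Option.elim o (am b) fun j => am b * y j :=
    funext fun o => by
      cases o with
      | none => rfl
      | some j =>
        show am (η j) = am b * y j
        rw [hη]
        exact Algebra.smul_def _ _
  have hPtS : ∀ i, am (ev (Pt i)) = am b ^ N * MvPolynomial.aeval y (P i) := fun i => by
    rw [← hPt S y (am b) i, ← hval, ← MvPolynomial.comp_aeval_apply]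
    rfl
  let p' : Ideal A' := q.comap ev
  haveI : IsRegularLocalRing (Localization.AtPrime p') := IsRegularRing.isRegularLocalRing_localization p'
  let f : Localization.AtPrime p' →+* S := Localization.localRingHom p' q ev.toRingHom rfl
  haveI : IsLocalHom f := Localization.isLocalHom_localRingHom p' q ev.toRingHom rfl
  have hPtp : ∀ i, Pt i ∈ p' := fun i => by
    show ev (Pt i) ∈ q
    refine (IsLocalization.AtPrime.to_map_mem_maximal_iff S q _).mp ?_
    show am (ev (Pt i)) ∈ maximalIdeal S
    rw [hPtS, ← hPy]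
    exact Ideal.mul_mem_left _ _ (Ideal.subset_span ⟨i, rfl⟩)
  obtain ⟨T, hT, hTstab⟩ := exists_stable_multiples p' Pt hPtp
    (fun c hc => indep_of_map f hd _ hPy _ (fun _ => am b ^ N) (fun _ => hbu.pow N)
      (fun i => (Localization.localRingHom_to_map p' q ev.toRingHom rfl _).trans (hPtS i)) c hc) e he
  let u : Fin d → A' := fun i => T i * Pt i
  let U : Fin d → S := fun i => am (ev (T i)) * am b ^ N
  have hUu : ∀ i, IsUnit (U i) := fun i =>
    (IsLocalization.map_units S (⟨ev (T i), hT i⟩ : q.primeCompl)).mul (hbu.pow N)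
  have huS : ∀ i, am (ev (u i)) = U i * MvPolynomial.aeval y (P i) := fun i => by
    rw [map_mul, map_mul, hPtS, mul_assoc]
  obtain ⟨t, l, ht, htl, hl⟩ := exists_clearing q (fun i => ev (u i) ^ n) (fun j => φ (a j))
    (fun i j => U i ^ n * lam0 i j) fun i => by
      show am (ev (u i) ^ n) = _
      rw [map_pow, huS, mul_pow, hlam0, Finset.mul_sum]
      simp only [← mul_assoc]
      rfl
  have hbΛq : ∀ i, t * ev (u i) ∈ q := fun i => q.mul_mem_left _ (by
    rw [map_mul]
    exact q.mul_mem_left _ (hPtp i))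
  obtain ⟨s, hs, hsstab⟩ := exists_stable_multiples q (fun i => t * ev (u i)) hbΛq
    (fun c hc j => indep_of_map (RingHom.id S) hd _ hPy (fun i => am (t * ev (u i))) (fun i => am t * U i)
      (fun i => ((IsLocalization.map_units S (⟨t, ht⟩ : q.primeCompl))).mul (hUu i))
      (fun i => by
        rw [RingHom.id_apply, map_mul am, huS]
        exact (mul_assoc _ _ _).symm) c hc j) e he
  let π : Fin d → Λ := fun i => s i * (t * ev (u i))
  let lam : Fin d → Fin r → Λ := fun i j => s i ^ n * t ^ (n - 1) * l i j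
  have hrel : ∀ i, π i ^ n = ∑ j, lam i j * φ (a j) := fun i => by
    obtain ⟨n', rfl⟩ : ∃ n', n = n' + 1 := ⟨n - 1, by omega⟩
    show (s i * (t * ev (u i))) ^ (n' + 1) = ∑ j, s i ^ (n' + 1) * t ^ (n' + 1 - 1) * l i j * φ (a j)
    simp only [Nat.add_sub_cancel, mul_assoc, ← Finset.mul_sum]
    rw [← htl, mul_pow, mul_pow, pow_succ t]
    ring
  obtain ⟨hL, hLA, hLX, hLZ⟩ := Sep.exists_modelLift φ.toRingHom a n π lam hrel
  -- the base
  let R := MvPolynomial (Fin d) A'
  let w : Fin d → Λ := fun i => s i * t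
  let evR : R →ₐ[k] Λ := MvPolynomial.aevalTower ev w
  letI : Algebra R Λ := evR.toRingHom.toAlgebra
  haveI : IsScalarTower k R Λ := IsScalarTower.of_algebraMap_eq fun c => (evR.commutes c).symm
  let X0 := MvPolynomial (Fin d) k
  let xR : Fin d → R := fun i => X i * MvPolynomial.C (u i)
  letI : Algebra X0 R := (MvPolynomial.aeval xR : X0 →ₐ[k] R).toRingHom.toAlgebra
  haveI : IsScalarTower k X0 R := IsScalarTower.of_algebraMap_eq fun c =>
    ((MvPolynomial.aeval xR : X0 →ₐ[k] R).commutes c).symm
  have hXR : ∀ i, algebraMap X0 R (X i) = xR i := fun i => MvPolynomial.aeval_X xR i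
  have hπR : ∀ i, algebraMap R Λ (algebraMap X0 R (X i)) = π i := fun i => by
    rw [hXR]
    show evR (X i * MvPolynomial.C (u i)) = _
    rw [map_mul, MvPolynomial.aevalTower_X, MvPolynomial.aevalTower_C]
    exact mul_assoc _ _ _
  haveI : Algebra.FormallySmooth k R := Algebra.FormallySmooth.comp k A' R
  haveI : Algebra.FinitePresentation k R := Algebra.FinitePresentation.trans k A' R
  refine resolvable_over_base φ q a n M N hM I hI rfl g hgk hga hstd ρ hρg hρf π lam hL hLA hLX hLZ
    (fun i => q.mul_mem_left _ (hbΛq i)) hsstab ?_ hπR y P lam0 hPy huniv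
    (MvPolynomial.C (X none)) (fun j => MvPolynomial.C (X (some j))) ?_ (fun j => ?_) Pt hPt
    (fun i => X i * MvPolynomial.C (T i)) (fun i => ?_) (fun i => ?_) (fun i j => ?_)
  · intro i r hr
    have heq : (fun j => algebraMap X0 R (X j) ^ (8 * M)) = fun j => ((X j * MvPolynomial.C (u j)) ^ (8 * M) : R) :=
      funext fun j => by rw [hXR]
    rw [heq, hXR] at hr ⊢
    exact stable_X_mul u e he hTstab i r hr
  · show evR (MvPolynomial.C (X none)) ∉ q
    rw [MvPolynomial.aevalTower_C, MvPolynomial.aeval_X]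
    exact b.2
  · show am (evR (MvPolynomial.C (X (some j)))) = am (evR (MvPolynomial.C (X none))) * y j
    rw [MvPolynomial.aevalTower_C, MvPolynomial.aevalTower_C, MvPolynomial.aeval_X, MvPolynomial.aeval_X]
    exact congrFun hval (some j)
  · show evR (X i * MvPolynomial.C (T i)) ∉ q
    rw [map_mul, MvPolynomial.aevalTower_X, MvPolynomial.aevalTower_C]
    exact fun h => (Ideal.IsPrime.mem_or_mem ‹_› h).elim
      (fun h' => (Ideal.IsPrime.mem_or_mem ‹_› h').elim (hs i) ht) (hT i)
  · rw [hXR]
    show X i * MvPolynomial.C (T i * Pt i) = _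
    rw [map_mul, ← mul_assoc]
    refine congrArg _ ?_
    have h : (MvPolynomial.aeval fun o => Option.elim o (MvPolynomial.C (X none) : R) fun j => MvPolynomial.C (X (some j))) =
        IsScalarTower.toAlgHom k A' R := MvPolynomial.algHom_ext fun o => by
      rw [MvPolynomial.aeval_X]
      cases o <;> rfl
    rw [h]
    rfl
  · show am (s i ^ n * t ^ (n - 1) * l i j) =
      am (evR (X i * MvPolynomial.C (T i) * MvPolynomial.C (X none) ^ N)) ^ n * lam0 i j
    rw [map_mul, map_mul, map_pow, map_pow, hl, map_mul evR, map_mul evR, map_pow evR, MvPolynomial.aevalTower_X,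
      MvPolynomial.aevalTower_C, MvPolynomial.aevalTower_C, MvPolynomial.aeval_X]
    obtain ⟨n', rfl⟩ : ∃ n', n = n' + 1 := ⟨n - 1, by omega⟩
    simp only [Nat.add_sub_cancel, w, U, Option.elim_none, map_mul, map_pow, am]
    ring

end Groth.L14.Smoothing.Insep
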