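import Groth.Prelude.Def_Smoothing
import Groth.Agent.L05.SmoothLift.Main
import Mathlib.RingTheory.Flat.EquationalCriterion
import Mathlib.RingTheory.Flat.Stability
import Mathlib.RingTheory.Ideal.Quotient.Operations
import Mathlib.RingTheory.Smooth.Basic
import Mathlib.RingTheory.TensorProduct.Quotient

/-!
Ind-smoothness of flat algebras lifts along nilpotent ideals.
-/

set_option autoImplicit false
set_option linter.style.haveILetI false

noncomputable section

open TensorProduct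

namespace Groth.L14.Smoothing.Deform

universe u

variable {R Λ : Type u} [CommRing R] [CommRing Λ] [Algebra R Λ]

/-- Factorisation through smooth algebras modulo an ideal of the base. -/
def IndMod (R Λ : Type u) [CommRing R] [CommRing Λ] [Algebra R Λ] (I : Ideal R) : Prop :=
  ∀ (A : Type u) [CommRing A] [Algebra R A], Algebra.FinitePresentation R A →
    ∀ φ : A →ₐ[R] Λ ⧸ I.map (algebraMap R Λ), ∃ (C : Type u) (_ : CommRing C) (_ : Algebra R C),
      Algebra.Smooth R C ∧ ∃ (g : A →ₐ[R] C ⧸ I.map (algebraMap R C))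
        (k : (C ⧸ I.map (algebraMap R C)) →ₐ[R] Λ ⧸ I.map (algebraMap R Λ)), k.comp g = φ

theorem indMod_of_indSmooth (I : Ideal R)
    (h : _root_.Smoothing.IndSmooth (R ⧸ I) (Λ ⧸ I.map (algebraMap R Λ))) : IndMod R Λ I := by
  intro A _ _ hA φ
  have hfp : Algebra.FinitePresentation (R ⧸ I) ((R ⧸ I) ⊗[R] A) := inferInstance
  obtain ⟨B₀, _, _, hB₀, g₀, h₀, hgh⟩ := h _ hfp
    (Algebra.TensorProduct.lift (Algebra.ofId (R ⧸ I) _) φ fun _ _ => Commute.all _ _)
  letI : Algebra R B₀ := ((algebraMap (R ⧸ I) B₀).comp (Ideal.Quotient.mk I)).toAlgebra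
  haveI : IsScalarTower R (R ⧸ I) B₀ := IsScalarTower.of_algebraMap_eq' rfl
  haveI := hB₀
  obtain ⟨C, _, _, θ, hC, hθ, hk⟩ := Groth.L05.SmoothLift.exists_smooth_lift I (A₀ := B₀)
  let e : (C ⧸ I.map (algebraMap R C)) ≃ₐ[R] B₀ :=
    (Ideal.quotientEquivAlgOfEq R hk.symm).trans (Ideal.quotientKerAlgEquivOfSurjective (f := θ) hθ)
  refine ⟨C, inferInstance, inferInstance, hC,
    e.symm.toAlgHom.comp ((g₀.restrictScalars R).comp Algebra.TensorProduct.includeRight),
    (h₀.restrictScalars R).comp e.toAlgHom, AlgHom.ext fun a => ?_⟩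
  have := AlgHom.congr_fun hgh ((1 : R ⧸ I) ⊗ₜ[R] a)
  simpa using this

variable (I : Ideal R)

theorem map_mem {X Y : Type u} [CommRing X] [Algebra R X] [CommRing Y] [Algebra R Y]
    (f : X →ₐ[R] Y) {x : X} (hx : x ∈ I.map (algebraMap R X)) : f x ∈ I.map (algebraMap R Y) := by
  have h := Ideal.mem_map_of_mem f.toRingHom hx
  rwa [Ideal.map_map, show f.toRingHom.comp (algebraMap R X) = algebraMap R Y from f.comp_algebraMap] at h

theorem exists_repr {X : Type u} [CommRing X] [Algebra R X] {x : X}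
    (hx : x ∈ I.map (algebraMap R X)) :
    ∃ (m : ℕ) (r : Fin m → R) (c : Fin m → X), (∀ l, r l ∈ I) ∧
      x = ∑ l, algebraMap R X (r l) * c l := by
  obtain ⟨m, c, g, hg⟩ := Submodule.mem_span_set'.mp hx
  choose r hr hrg using fun l => (g l).2
  exact ⟨m, r, c, hr, by rw [← hg]; exact Finset.sum_congr rfl fun l _ => by rw [hrg, smul_eq_mul, mul_comm]⟩

variable {I}

theorem isNilpotent_ker (hI : I ^ 2 = ⊥) (X : Type u) [CommRing X] [Algebra R X] :
    IsNilpotent (RingHom.ker (Ideal.Quotient.mkₐ R (I.map (algebraMap R X)) : X →+* X ⧸ I.map (algebraMap R X))) := by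
  refine ⟨2, ?_⟩
  change (RingHom.ker (Ideal.Quotient.mk (I.map (algebraMap R X)))) ^ 2 = ⊥
  rw [Ideal.mk_ker, ← Ideal.map_pow, hI, Ideal.map_bot]

theorem mul_eq_zero_of_mem (hI : I ^ 2 = ⊥) {X : Type u} [CommRing X] [Algebra R X] {x y : X}
    (hx : x ∈ I.map (algebraMap R X)) (hy : y ∈ I.map (algebraMap R X)) : x * y = 0 := by
  have h := Ideal.mul_mem_mul hx hy
  rw [← Ideal.map_mul, ← sq, hI, Ideal.map_bot] at h
  simpa using h

theorem congr_on (hI : I ^ 2 = ⊥) {X Y : Type u} [CommRing X] [Algebra R X] [CommRing Y] [Algebra R Y]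
    (f g : X →ₐ[R] Y) (h : ∀ b, f b - g b ∈ I.map (algebraMap R Y)) {x : X}
    (hx : x ∈ I.map (algebraMap R X)) : f x = g x := by
  obtain ⟨m, r, c, hr, rfl⟩ := exists_repr I hx
  simp only [map_sum, map_mul, AlgHom.commutes]
  refine Finset.sum_congr rfl fun l _ => sub_eq_zero.mp ?_
  rw [← mul_sub]
  exact mul_eq_zero_of_mem hI (Ideal.mem_map_of_mem _ (hr l)) (h (c l))

/-- A factorisation modulo `I` with the second map lifted. -/
theorem lift_mod (hI : I ^ 2 = ⊥) (h : IndMod R Λ I) {A : Type u} [CommRing A] [Algebra R A]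
    (hA : Algebra.FinitePresentation R A) (φ : A →ₐ[R] Λ) :
    ∃ (C : Type u) (_ : CommRing C) (_ : Algebra R C), Algebra.Smooth R C ∧
      ∃ (g : A →ₐ[R] C ⧸ I.map (algebraMap R C)) (k : C →ₐ[R] Λ),
        ∀ a c, Ideal.Quotient.mk (I.map (algebraMap R C)) c = g a →
          k c - φ a ∈ I.map (algebraMap R Λ) := by
  obtain ⟨C, _, _, hC, g, k₀, hgk⟩ := h A hA ((Ideal.Quotient.mkₐ R _).comp φ)
  haveI := hC
  let k : C →ₐ[R] Λ := Algebra.FormallySmooth.liftOfSurjective (k₀.comp (Ideal.Quotient.mkₐ R _))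
    (Ideal.Quotient.mkₐ R (I.map (algebraMap R Λ))) Ideal.Quotient.mk_surjective (isNilpotent_ker hI Λ)
  refine ⟨C, inferInstance, inferInstance, hC, g, k, fun a c hc => ?_⟩
  rw [← Ideal.Quotient.eq]
  have h1 : Ideal.Quotient.mk (I.map (algebraMap R Λ)) (k c) = k₀ (Ideal.Quotient.mk _ c) :=
    Algebra.FormallySmooth.liftOfSurjective_apply (k₀.comp (Ideal.Quotient.mkₐ R _))
      (Ideal.Quotient.mkₐ R (I.map (algebraMap R Λ))) Ideal.Quotient.mk_surjective (isNilpotent_ker hI Λ) c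
  rw [h1, hc]
  exact AlgHom.congr_fun hgk a

theorem lift_once (hI : I ^ 2 = ⊥) (h : IndMod R Λ I) {A : Type u} [CommRing A] [Algebra R A]
    [hA : Algebra.FinitePresentation R A] (φ : A →ₐ[R] Λ) :
    ∃ (B : Type u) (_ : CommRing B) (_ : Algebra R B), Algebra.Smooth R B ∧
      ∃ J : Ideal B, J ≤ I.map (algebraMap R B) ∧ J.FG ∧
        ∃ (g : A →ₐ[R] B ⧸ J) (k : (B ⧸ J) →ₐ[R] Λ), k.comp g = φ := by
  classical
  obtain ⟨n, π, hπ, sf, hsf⟩ := Algebra.FinitePresentation.out (R := R) (A := A)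
  obtain ⟨C, _, _, hC, g, k, hgk⟩ := lift_mod hI h hA φ
  haveI := hC
  choose b hb using fun i : Fin n => Ideal.Quotient.mk_surjective (g (π (MvPolynomial.X i)))
  choose m r c hr hc using fun i : Fin n =>
    exists_repr I (hgk (π (MvPolynomial.X i)) (b i) (hb i))
  let C' := MvPolynomial (Σ i, Fin (m i)) C
  haveI : Algebra.Smooth C C' := { }
  haveI : Algebra.Smooth R C' := Algebra.Smooth.comp R C C'
  let k' : C' →ₐ[R] Λ := MvPolynomial.aevalTower k fun p => c p.1 p.2
  let b' : Fin n → C' := fun i =>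
    MvPolynomial.C (b i) - ∑ l, algebraMap R C' (r i l) * MvPolynomial.X ⟨i, l⟩
  have kC : ∀ z, k' (MvPolynomial.C z) = k z := fun z => MvPolynomial.aevalTower_C _ _ z
  have kX : ∀ q, k' (MvPolynomial.X q) = c q.1 q.2 := fun q => MvPolynomial.aevalTower_X _ _ q
  have hkb : k'.comp (MvPolynomial.aeval b') = φ.comp π := by
    refine MvPolynomial.algHom_ext fun i => ?_
    simp only [AlgHom.comp_apply, MvPolynomial.aeval_X, b', map_sub, map_sum, map_mul,
      AlgHom.commutes, kC, kX]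
    linear_combination hc i
  let ι : C →ₐ[R] C' := IsScalarTower.toAlgHom R C C'
  let gI : A →ₐ[R] C' ⧸ I.map (algebraMap R C') :=
    (Ideal.Quotient.liftₐ _ ((Ideal.Quotient.mkₐ R (I.map (algebraMap R C'))).comp ι)
      (fun x hx => Ideal.Quotient.eq_zero_iff_mem.mpr (map_mem I ι hx))).comp g
  have hbI : (Ideal.Quotient.mkₐ R (I.map (algebraMap R C'))).comp (MvPolynomial.aeval b') = gI.comp π := by
    refine MvPolynomial.algHom_ext fun i => ?_
    simp only [AlgHom.comp_apply, MvPolynomial.aeval_X, gI, ← hb i]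
    refine Ideal.Quotient.eq.mpr ?_
    show b' i - MvPolynomial.C (b i) ∈ _
    simp only [b', sub_sub_cancel_left]
    exact neg_mem (Submodule.sum_mem _ fun l _ => Ideal.mul_mem_right _ _ (Ideal.mem_map_of_mem _ (hr i l)))
  let J : Ideal C' := Ideal.span (MvPolynomial.aeval b' '' (sf : Set (MvPolynomial (Fin n) R)))
  have hsub : ∀ f ∈ sf, π f = 0 := fun f hf => by
    have : f ∈ RingHom.ker π.toRingHom := hsf ▸ Ideal.subset_span hf
    exact this
  have hJI : J ≤ I.map (algebraMap R C') := by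
    rw [Ideal.span_le]
    rintro _ ⟨f, hf, rfl⟩
    rw [SetLike.mem_coe, ← Ideal.Quotient.eq_zero_iff_mem]
    exact (AlgHom.congr_fun hbI f).trans (by rw [AlgHom.comp_apply, hsub f hf, map_zero])
  have hker : ∀ x ∈ J, k' x = 0 := by
    intro x hx
    have h1 : J ≤ RingHom.ker k' := by
      rw [Ideal.span_le]
      rintro _ ⟨f, hf, rfl⟩
      exact (AlgHom.congr_fun hkb f).trans (by rw [AlgHom.comp_apply, hsub f hf, map_zero])
    exact h1 hx
  let e : (MvPolynomial (Fin n) R ⧸ RingHom.ker π) ≃ₐ[R] A := Ideal.quotientKerAlgEquivOfSurjective hπ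
  have hz : ∀ f ∈ RingHom.ker π, (Ideal.Quotient.mkₐ R J).comp (MvPolynomial.aeval b') f = 0 := by
    intro f hf
    have hf' : f ∈ Ideal.span (sf : Set (MvPolynomial (Fin n) R)) := hsf.symm ▸ hf
    exact (Ideal.span_le (I := RingHom.ker ((Ideal.Quotient.mkₐ R J).comp (MvPolynomial.aeval b')))).mpr
      (fun x hx => Ideal.Quotient.eq_zero_iff_mem.mpr (Ideal.subset_span ⟨x, hx, rfl⟩)) hf'
  refine ⟨C', inferInstance, inferInstance, inferInstance, J, hJI, ?_,
    (Ideal.Quotient.liftₐ _ _ hz).comp e.symm.toAlgHom, Ideal.Quotient.liftₐ J k' hker, ?_⟩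
  · exact Submodule.fg_span (sf.finite_toSet.image _)
  · refine AlgHom.ext fun a => ?_
    obtain ⟨f, rfl⟩ := hπ a
    have he : e.symm (π f) = Ideal.Quotient.mk _ f := by
      rw [AlgEquiv.symm_apply_eq]; rfl
    simp only [AlgHom.comp_apply, AlgEquiv.coe_toAlgHom, he]
    exact AlgHom.congr_fun hkb f

theorem lift_twice [Module.Flat R Λ] (hI : I ^ 2 = ⊥) (h : IndMod R Λ I) {B : Type u} [CommRing B]
    [Algebra R B] [Algebra.Smooth R B] (φ : B →ₐ[R] Λ) (J : Ideal B)
    (hJ : J ≤ I.map (algebraMap R B)) (hJfg : J.FG) (hφJ : ∀ x ∈ J, φ x = 0) :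
    ∃ (B' : Type u) (_ : CommRing B') (_ : Algebra R B'), Algebra.Smooth R B' ∧
      ∃ (α : B →ₐ[R] B') (β : B' →ₐ[R] Λ), (∀ x ∈ J, α x = 0) ∧
        ∀ b : B, β (α b) - φ b ∈ I.map (algebraMap R Λ) := by
  classical
  obtain ⟨sJ, hsJ⟩ := hJfg
  choose m r b hr hx using fun x : {x // x ∈ sJ} => exists_repr I (hJ (hsJ ▸ Ideal.subset_span x.2))
  have hrel : ∀ x : {x // x ∈ sJ}, ∑ l, r x l • φ (b x l) = 0 := fun x => by
    have h0 := hφJ x (hsJ ▸ Ideal.subset_span x.2)
    rw [hx x, map_sum] at h0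
    simpa [Algebra.smul_def, map_mul] using h0
  choose κ a y hy ha using fun x => Module.Flat.isTrivialRelation_of_sum_smul_eq_zero (hrel x)
  let P := MvPolynomial (Σ x, Fin (κ x)) B
  let rel : (Σ x : {x // x ∈ sJ}, Fin (m x)) → P := fun p =>
    MvPolynomial.C (b p.1 p.2) - ∑ j, algebraMap R P (a p.1 p.2 j) * MvPolynomial.X ⟨p.1, j⟩
  let ψ : P →ₐ[R] Λ := MvPolynomial.aevalTower φ fun p => y p.1 p.2
  have ψC : ∀ z, ψ (MvPolynomial.C z) = φ z := fun z => MvPolynomial.aevalTower_C _ _ z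
  have ψX : ∀ q, ψ (MvPolynomial.X q) = y q.1 q.2 := fun q => MvPolynomial.aevalTower_X _ _ q
  have hψ : ∀ z ∈ Ideal.span (Set.range rel), ψ z = 0 := by
    intro z hz
    refine (Ideal.span_le (I := RingHom.ker ψ)).mpr ?_ hz
    rintro _ ⟨⟨x, l⟩, rfl⟩
    simp only [SetLike.mem_coe, RingHom.mem_ker, rel, map_sub, map_sum, map_mul, AlgHom.commutes, ψC,
      ψX]
    have h2 : φ (b x l) = ∑ j, a x l j • y x j := hy x l
    simp only [Algebra.smul_def] at h2
    rw [h2, sub_self]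
  haveI : Algebra.FinitePresentation R P := Algebra.FinitePresentation.trans R B P
  have hA : Algebra.FinitePresentation R (P ⧸ Ideal.span (Set.range rel)) :=
    Algebra.FinitePresentation.quotient (Submodule.fg_span (Set.finite_range rel))
  obtain ⟨C, _, _, hC, g, k, hgk⟩ := lift_mod hI h hA (Ideal.Quotient.liftₐ _ ψ hψ)
  let ι : B →ₐ[R] P ⧸ Ideal.span (Set.range rel) :=
    (Ideal.Quotient.mkₐ R _).comp (IsScalarTower.toAlgHom R B P)
  let α : B →ₐ[R] C := Algebra.FormallySmooth.liftOfSurjective (g.comp ι)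
    (Ideal.Quotient.mkₐ R (I.map (algebraMap R C))) Ideal.Quotient.mk_surjective (isNilpotent_ker hI C)
  have hα : ∀ z, Ideal.Quotient.mk (I.map (algebraMap R C)) (α z) = g (ι z) :=
    fun z => Algebra.FormallySmooth.liftOfSurjective_apply (g.comp ι)
      (Ideal.Quotient.mkₐ R (I.map (algebraMap R C))) Ideal.Quotient.mk_surjective (isNilpotent_ker hI C) z
  refine ⟨C, inferInstance, inferInstance, hC, α, k, fun z hz => ?_, fun z => ?_⟩
  · rw [← hsJ] at hz
    refine (Ideal.span_le (I := RingHom.ker α)).mpr ?_ hz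
    intro x hxs
    choose c hc using fun p : (Σ x, Fin (κ x)) =>
      Ideal.Quotient.mk_surjective (g (Ideal.Quotient.mk (Ideal.span (Set.range rel)) (MvPolynomial.X p)))
    set x' : {x // x ∈ sJ} := ⟨x, hxs⟩
    have hd : ∀ l, α (b x' l) - ∑ j, algebraMap R C (a x' l j) * c ⟨x', j⟩ ∈ I.map (algebraMap R C) := by
      intro l
      rw [← Ideal.Quotient.eq_zero_iff_mem, map_sub, map_sum, hα]
      have h1 : Ideal.Quotient.mk (Ideal.span (Set.range rel)) (rel ⟨x', l⟩) = 0 :=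
        Ideal.Quotient.eq_zero_iff_mem.mpr (Ideal.subset_span ⟨_, rfl⟩)
      have h2 := congrArg g h1
      simp only [rel, map_sub, map_sum, map_mul, map_zero] at h2
      refine Eq.trans ?_ h2
      refine congrArg₂ (· - ·) rfl (Finset.sum_congr rfl fun j _ => ?_)
      rw [map_mul, hc]
      congr 1
      exact (g.commutes _).symm
    show α x = 0
    rw [show x = ∑ l, algebraMap R B (r x' l) * b x' l from hx x', map_sum]
    simp only [map_mul, AlgHom.commutes]
    calc ∑ l, algebraMap R C (r x' l) * α (b x' l)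
        = ∑ l, algebraMap R C (r x' l) * (∑ j, algebraMap R C (a x' l j) * c ⟨x', j⟩) := by
          refine Finset.sum_congr rfl fun l _ => sub_eq_zero.mp ?_
          rw [← mul_sub]
          exact mul_eq_zero_of_mem hI (Ideal.mem_map_of_mem _ (hr x' l)) (hd l)
      _ = ∑ j, algebraMap R C (∑ l, r x' l * a x' l j) * c ⟨x', j⟩ := by
          simp only [Finset.mul_sum, map_sum, map_mul, Finset.sum_mul]
          rw [Finset.sum_comm]
          exact Finset.sum_congr rfl fun j _ => Finset.sum_congr rfl fun l _ => by ring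
      _ = 0 := by simp [ha x']
  · have h1 := hgk (ι z) (α z) (hα z)
    have h2 : Ideal.Quotient.liftₐ (Ideal.span (Set.range rel)) ψ hψ (ι z) = φ z := by
      show ψ (MvPolynomial.C z) = φ z
      exact MvPolynomial.aevalTower_C _ _ _
    rwa [h2] at h1

theorem exact_of_congr (hI : I ^ 2 = ⊥) {B B' : Type u} [CommRing B] [Algebra R B]
    [Algebra.Smooth R B] [CommRing B'] [Algebra R B'] [Algebra.Smooth R B'] (φ : B →ₐ[R] Λ)
    (α : B →ₐ[R] B') (β : B' →ₐ[R] Λ) (h : ∀ b, β (α b) - φ b ∈ I.map (algebraMap R Λ)) :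
    ∃ (B'' : Type u) (_ : CommRing B'') (_ : Algebra R B''), Algebra.Smooth R B'' ∧
      ∃ (ι : B' →ₐ[R] B'') (α' : B →ₐ[R] B'') (β' : B'' →ₐ[R] Λ), β'.comp α' = φ ∧
        ∀ x ∈ I.map (algebraMap R B), α' x = ι (α x) := by
  classical
  obtain ⟨n, π, hπ, -⟩ := Algebra.FinitePresentation.out (R := R) (A := B)
  choose m r c hr hc using fun i : Fin n => exists_repr I (h (π (MvPolynomial.X i)))
  let B'' := MvPolynomial (Σ i, Fin (m i)) B'
  haveI : Algebra.Smooth B' B'' := { }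
  haveI : Algebra.Smooth R B'' := Algebra.Smooth.comp R B' B''
  let ι : B' →ₐ[R] B'' := IsScalarTower.toAlgHom R B' B''
  let β' : B'' →ₐ[R] Λ := MvPolynomial.aevalTower β fun p => c p.1 p.2
  have βC : ∀ z, β' (MvPolynomial.C z) = β z := fun z => MvPolynomial.aevalTower_C _ _ z
  have βX : ∀ q, β' (MvPolynomial.X q) = c q.1 q.2 := fun q => MvPolynomial.aevalTower_X _ _ q
  let w : Fin n → B'' := fun i =>
    MvPolynomial.C (α (π (MvPolynomial.X i))) - ∑ l, algebraMap R B'' (r i l) * MvPolynomial.X ⟨i, l⟩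
  have hwI : (Ideal.Quotient.mkₐ R (I.map (algebraMap R B''))).comp (MvPolynomial.aeval w) =
      ((Ideal.Quotient.mkₐ R (I.map (algebraMap R B''))).comp (ι.comp α)).comp π := by
    refine MvPolynomial.algHom_ext fun i => ?_
    simp only [AlgHom.comp_apply, MvPolynomial.aeval_X]
    refine Ideal.Quotient.eq.mpr ?_
    show w i - MvPolynomial.C (α (π (MvPolynomial.X i))) ∈ _
    simp only [w, sub_sub_cancel_left]
    exact neg_mem (Submodule.sum_mem _ fun l _ => Ideal.mul_mem_right _ _ (Ideal.mem_map_of_mem _ (hr i l)))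
  have hwφ : β'.comp (MvPolynomial.aeval w) = φ.comp π := by
    refine MvPolynomial.algHom_ext fun i => ?_
    simp only [AlgHom.comp_apply, MvPolynomial.aeval_X, w, map_sub, map_sum, map_mul, AlgHom.commutes,
      βC, βX]
    linear_combination hc i
  let K : Ideal B'' := I.map (algebraMap R B'') ⊓ RingHom.ker β'
  have hz : ∀ f ∈ RingHom.ker π, (Ideal.Quotient.mkₐ R K).comp (MvPolynomial.aeval w) f = 0 := by
    intro f hf
    have hf0 : π f = 0 := hf
    refine Ideal.Quotient.eq_zero_iff_mem.mpr ⟨?_, ?_⟩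
    · refine Ideal.Quotient.eq_zero_iff_mem.mp ((AlgHom.congr_fun hwI f).trans ?_)
      rw [AlgHom.comp_apply, hf0, map_zero]
    · exact (AlgHom.congr_fun hwφ f).trans (by rw [AlgHom.comp_apply, hf0, map_zero])
  let θ : B →ₐ[R] B'' ⧸ K :=
    (Ideal.Quotient.liftₐ _ _ hz).comp (Ideal.quotientKerAlgEquivOfSurjective hπ).symm.toAlgHom
  have hθ : ∀ f, θ (π f) = Ideal.Quotient.mk K (MvPolynomial.aeval w f) := fun f => by
    have he : (Ideal.quotientKerAlgEquivOfSurjective hπ).symm (π f) = Ideal.Quotient.mk _ f := by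
      rw [AlgEquiv.symm_apply_eq]; rfl
    simp only [θ, AlgHom.comp_apply, AlgEquiv.coe_toAlgHom, he]
    rfl
  have hnil : IsNilpotent (RingHom.ker (Ideal.Quotient.mkₐ R K : B'' →+* B'' ⧸ K)) := by
    refine ⟨2, ?_⟩
    change (RingHom.ker (Ideal.Quotient.mk K)) ^ 2 = ⊥
    rw [Ideal.mk_ker, eq_bot_iff]
    refine (Ideal.pow_right_mono (inf_le_left : K ≤ I.map (algebraMap R B'')) 2).trans ?_
    rw [← Ideal.map_pow, hI, Ideal.map_bot]
  let α' : B →ₐ[R] B'' := Algebra.FormallySmooth.liftOfSurjective θ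
    (Ideal.Quotient.mkₐ R K) Ideal.Quotient.mk_surjective hnil
  have hα : ∀ f, α' (π f) - MvPolynomial.aeval w f ∈ K := fun f =>
    Ideal.Quotient.eq.mp ((Algebra.FormallySmooth.liftOfSurjective_apply θ
      (Ideal.Quotient.mkₐ R K) Ideal.Quotient.mk_surjective hnil (π f)).trans (hθ f))
  refine ⟨B'', inferInstance, inferInstance, inferInstance, ι, α', β', ?_, fun x hx => ?_⟩
  · refine AlgHom.ext fun z => ?_
    obtain ⟨f, rfl⟩ := hπ z
    have h1 : β' (α' (π f) - MvPolynomial.aeval w f) = 0 := (hα f).2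
    rw [map_sub, sub_eq_zero] at h1
    exact h1.trans (AlgHom.congr_fun hwφ f)
  · refine congr_on hI α' (ι.comp α) (fun z => ?_) hx
    obtain ⟨f, rfl⟩ := hπ z
    have h2 := Ideal.Quotient.eq.mp (AlgHom.congr_fun hwI f)
    simpa using add_mem (hα f).1 h2

theorem indSmooth_of_sq [Module.Flat R Λ] (hI : I ^ 2 = ⊥) (h : IndMod R Λ I) :
    _root_.Smoothing.IndSmooth R Λ := by
  intro A _ _ hA φ
  haveI := hA
  obtain ⟨B, _, _, hB, J, hJ, hJfg, g, k, hgk⟩ := lift_once hI h φ
  haveI := hB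
  obtain ⟨B', _, _, hB', α, β, hαJ, hαβ⟩ := lift_twice hI h (k.comp (Ideal.Quotient.mkₐ R J)) J hJ hJfg
    (fun x hx => by simp [Ideal.Quotient.eq_zero_iff_mem.mpr hx])
  haveI := hB'
  obtain ⟨B'', _, _, hB'', ι, α', β', hβα, hx⟩ := exact_of_congr hI _ α β hαβ
  refine ⟨B'', inferInstance, inferInstance, hB'',
    (Ideal.Quotient.liftₐ J α' (fun x hxJ => by rw [hx x (hJ hxJ), hαJ x hxJ, map_zero])).comp g, β',
    AlgHom.ext fun a => ?_⟩
  obtain ⟨z, hz⟩ := Ideal.Quotient.mk_surjective (g a)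
  simp only [AlgHom.comp_apply, ← hz]
  show β' (α' z) = φ a
  rw [show β' (α' z) = k (Ideal.Quotient.mk J z) from AlgHom.congr_fun hβα z, hz]
  exact AlgHom.congr_fun hgk a

/-- Ind-smoothness is insensitive to surjective change of base with finitely generated kernel. -/
theorem indSmooth_congr {S S' L L' : Type u} [CommRing S] [CommRing S'] [Algebra S S']
    (hbij : Function.Bijective (algebraMap S S')) [CommRing L] [Algebra S L] [CommRing L'] [Algebra S L']
    [Algebra S' L'] [IsScalarTower S S' L'] (e : L ≃ₐ[S] L') (h : _root_.Smoothing.IndSmooth S L) :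
    _root_.Smoothing.IndSmooth S' L' := by
  intro A _ _ hA f
  letI : Algebra S A := ((algebraMap S' A).comp (algebraMap S S')).toAlgebra
  haveI : IsScalarTower S S' A := IsScalarTower.of_algebraMap_eq' rfl
  haveI : Algebra.FinitePresentation S S' :=
    Algebra.FinitePresentation.equiv (AlgEquiv.ofBijective (Algebra.ofId S S') hbij)
  haveI := hA
  have hA' : Algebra.FinitePresentation S A := Algebra.FinitePresentation.trans S S' A
  obtain ⟨B, _, _, hB, g, k, hgk⟩ := h A hA' (e.symm.toAlgHom.comp (f.restrictScalars S))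
  haveI := hB
  refine ⟨S' ⊗[S] B, inferInstance, inferInstance, inferInstance,
    AlgHom.extendScalarsOfSurjective hbij.2 (Algebra.TensorProduct.includeRight.comp g),
    Algebra.TensorProduct.lift (Algebra.ofId S' L') (e.toAlgHom.comp k) (fun _ _ => Commute.all _ _),
    AlgHom.ext fun a => ?_⟩
  have h2 := congrArg e (AlgHom.congr_fun hgk a)
  simp only [AlgHom.comp_apply, AlgEquiv.coe_toAlgHom, AlgEquiv.apply_symm_apply,
    AlgHom.restrictScalars_apply] at h2
  simp only [AlgHom.comp_apply]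
  show (Algebra.TensorProduct.lift (Algebra.ofId S' L') (e.toAlgHom.comp k) (fun _ _ => Commute.all _ _))
    ((1 : S') ⊗ₜ[S] g a) = f a
  rw [Algebra.TensorProduct.lift_tmul, map_one, one_mul]
  exact h2

theorem indSmooth_quotient {J : Ideal R} (hJ : J ≤ I)
    (h : _root_.Smoothing.IndSmooth (R ⧸ I) (Λ ⧸ I.map (algebraMap R Λ))) :
    _root_.Smoothing.IndSmooth ((R ⧸ J) ⧸ I.map (Ideal.Quotient.mk J))
      ((Λ ⧸ J.map (algebraMap R Λ)) ⧸
        (I.map (Ideal.Quotient.mk J)).map (algebraMap (R ⧸ J) (Λ ⧸ J.map (algebraMap R Λ)))) := by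
  set R' := (R ⧸ J) ⧸ I.map (Ideal.Quotient.mk J)
  set L' := (Λ ⧸ J.map (algebraMap R Λ)) ⧸
    (I.map (Ideal.Quotient.mk J)).map (algebraMap (R ⧸ J) (Λ ⧸ J.map (algebraMap R Λ)))
  let e₀ : R' ≃+* R ⧸ I := DoubleQuot.quotQuotEquivQuotOfLE hJ
  letI : Algebra (R ⧸ I) R' := e₀.symm.toRingHom.toAlgebra
  letI : Algebra (R ⧸ I) L' := ((algebraMap R' L').comp e₀.symm.toRingHom).toAlgebra
  haveI : IsScalarTower (R ⧸ I) R' L' := IsScalarTower.of_algebraMap_eq' rfl
  have heq : (I.map (Ideal.Quotient.mk J)).map (algebraMap (R ⧸ J) (Λ ⧸ J.map (algebraMap R Λ))) =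
      (I.map (algebraMap R Λ)).map (Ideal.Quotient.mk (J.map (algebraMap R Λ))) := by
    rw [Ideal.map_map, Ideal.map_map]
    rfl
  let eL : (Λ ⧸ I.map (algebraMap R Λ)) ≃+* L' :=
    (DoubleQuot.quotQuotEquivQuotOfLE (Ideal.map_mono hJ)).symm.trans (Ideal.quotEquivOfEq heq.symm)
  refine indSmooth_congr (S := R ⧸ I) e₀.symm.bijective (AlgEquiv.ofRingEquiv (f := eL) fun x => ?_) h
  obtain ⟨x, rfl⟩ := Ideal.Quotient.mk_surjective x
  rfl

theorem indSmooth_of_nilpotent : ∀ (n : ℕ) {R Λ : Type u} [CommRing R] [CommRing Λ] [Algebra R Λ]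
    [Module.Flat R Λ] (I : Ideal R), I ^ n = ⊥ →
      _root_.Smoothing.IndSmooth (R ⧸ I) (Λ ⧸ I.map (algebraMap R Λ)) →
      _root_.Smoothing.IndSmooth R Λ := by
  intro n
  induction n using Nat.strong_induction_on with
  | _ n ih =>
    intro R Λ _ _ _ _ I hn h
    by_cases hn2 : n ≤ 2
    · exact indSmooth_of_sq (le_bot_iff.mp ((Ideal.pow_le_pow_right hn2).trans hn.le))
        (indMod_of_indSmooth I h)
    push Not at hn2
    have hle : I ^ 2 ≤ I := Ideal.pow_le_self two_ne_zero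
    have hmid : _root_.Smoothing.IndSmooth (R ⧸ I ^ 2) (Λ ⧸ (I ^ 2).map (algebraMap R Λ)) := by
      haveI : Module.Flat (R ⧸ I ^ 2) (Λ ⧸ (I ^ 2).map (algebraMap R Λ)) :=
        Module.Flat.of_linearEquiv
          (Algebra.TensorProduct.quotIdealMapEquivQuotTensor Λ (I ^ 2)).toLinearEquiv
      refine indSmooth_of_sq (I := I.map (Ideal.Quotient.mk (I ^ 2))) ?_
        (indMod_of_indSmooth _ (indSmooth_quotient hle h))
      rw [← Ideal.map_pow, Ideal.map_quotient_self]
    refine ih ((n + 1) / 2) (by omega) (I ^ 2) ?_ hmid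
    rw [← pow_mul]
    exact le_bot_iff.mp ((Ideal.pow_le_pow_right (by omega)).trans hn.le)

end Groth.L14.Smoothing.Deform
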