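import Groth.Agent.L14.Smoothing.DesingApply

/-!
Resolving after reduction modulo eighth powers.
-/

set_option autoImplicit false
set_option linter.style.haveILetI false

noncomputable section

open TensorProduct

namespace Groth.L14.Smoothing.ModPow

universe u

theorem isStrictlyStandard_map {R A B : Type u} [CommRing R] [CommRing A] [Algebra R A] [CommRing B] [Algebra R B]
    (e : A ≃ₐ[R] B) {a : A} (h : _root_.Smoothing.IsStrictlyStandard R A a) :
    _root_.Smoothing.IsStrictlyStandard R B (e a) := by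
  obtain ⟨P, h1, h2⟩ := h
  refine ⟨{ P with
    hom := e.toAlgHom.comp P.hom
    surj := e.surjective.comp P.surj
    ker_eq := ?_ }, ?_, fun p hp => h2 p (e.injective hp)⟩
  · rw [← P.ker_eq]
    ext x
    simp only [RingHom.mem_ker]
    exact map_eq_zero_iff e e.injective
  · obtain ⟨b, hb⟩ := Ideal.mem_span_range_iff_exists_fun.mp h1
    refine Ideal.mem_span_range_iff_exists_fun.mpr ⟨fun g => e (b g), ?_⟩
    rw [← hb, map_sum]
    exact Finset.sum_congr rfl fun g _ => (map_mul e _ _).symm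

theorem isStrictlyStandard_zero (R A : Type u) [CommRing R] [CommRing A] [Algebra R A]
    [Algebra.FinitePresentation R A] : _root_.Smoothing.IsStrictlyStandard R A 0 := by
  obtain ⟨n, φ, hφ, hfg⟩ := ‹Algebra.FinitePresentation R A›.out
  obtain ⟨m, f, hf⟩ := Submodule.fg_iff_exists_fin_generating_family.mp hfg
  refine ⟨⟨n, m, 0, Nat.zero_le _, Nat.zero_le _, f, φ, hφ, hf.symm⟩, zero_mem _, fun p hp j _ => ?_⟩
  refine Ideal.mem_sup_right ?_
  rw [pow_two]
  refine Ideal.mul_mem_mul ?_ (Ideal.subset_span ⟨j, rfl⟩)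
  exact hf.ge hp

/-- Smoothness of a basic open is inherited by the reduction modulo an ideal of the base. -/
theorem smooth_away_quotient {R R'' A A'' : Type u} [CommRing R] [CommRing R''] [Algebra R R'']
    [CommRing A] [Algebra R A] [CommRing A''] [Algebra R A''] [Algebra R'' A''] [IsScalarTower R R'' A'']
    [Algebra.FinitePresentation R'' A'']
    (hR : Function.Surjective (algebraMap R R'')) (p : A →ₐ[R] A'') (hp : Function.Surjective p)
    (hker : RingHom.ker p ≤ (RingHom.ker (algebraMap R R'')).map (algebraMap R A)) (a : A)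
    [Algebra.Smooth R (Localization.Away a)] : Algebra.Smooth R'' (Localization.Away (p a)) := by
  have hfs : Algebra.FormallySmooth R'' (Localization.Away (p a)) := by
    refine Algebra.FormallySmooth.of_comp_surjective fun B _ _ I hI f => ?_
    letI : Algebra R B := ((algebraMap R'' B).comp (algebraMap R R'')).toAlgebra
    haveI : IsScalarTower R R'' B := IsScalarTower.of_algebraMap_eq' rfl
    let g : Localization.Away a →ₐ[R] B ⧸ I := (f.restrictScalars R).comp
      { (IsLocalization.Away.lift (g := ((algebraMap A'' (Localization.Away (p a))).comp p.toRingHom)) a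
          (IsLocalization.Away.algebraMap_isUnit (p a)) : Localization.Away a →+* Localization.Away (p a)) with
        commutes' := fun r => by
          show IsLocalization.Away.lift (g := ((algebraMap A'' (Localization.Away (p a))).comp p.toRingHom)) a
            (IsLocalization.Away.algebraMap_isUnit (p a)) (algebraMap R (Localization.Away a) r) = _
          rw [IsScalarTower.algebraMap_apply R A (Localization.Away a), IsLocalization.Away.lift_eq]
          show algebraMap A'' _ (p (algebraMap R A r)) = _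
          rw [p.commutes, ← IsScalarTower.algebraMap_apply] }
    obtain ⟨l, hl⟩ := Algebra.FormallySmooth.comp_surjective (R := R) (A := Localization.Away a) I hI g
    let lA : A →ₐ[R] B := l.comp (IsScalarTower.toAlgHom R A _)
    have hkill : ∀ x ∈ RingHom.ker p, lA x = 0 := fun x hx => by
      have h := Ideal.mem_map_of_mem lA (hker hx)
      refine (Ideal.mem_bot).mp ((?_ : Ideal.map lA ((RingHom.ker (algebraMap R R'')).map (algebraMap R A)) ≤ ⊥) h)
      refine Ideal.map_le_iff_le_comap.mpr (Ideal.map_le_iff_le_comap.mpr fun r hr => ?_)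
      show lA (algebraMap R A r) ∈ (⊥ : Ideal B)
      rw [AlgHom.commutes, Ideal.mem_bot, IsScalarTower.algebraMap_apply R R'' B, RingHom.mem_ker.mp hr, map_zero]
    let l₀ : A'' →ₐ[R] B := (Ideal.Quotient.liftₐ _ lA hkill).comp (Ideal.quotientKerAlgEquivOfSurjective hp).symm.toAlgHom
    have hl₀ : ∀ x, l₀ (p x) = lA x := fun x => by
      have he : (Ideal.quotientKerAlgEquivOfSurjective hp).symm (p x) = Ideal.Quotient.mk _ x := by
        rw [AlgEquiv.symm_apply_eq]; rfl
      simp only [l₀, AlgHom.comp_apply, AlgEquiv.coe_toAlgHom, he]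
      rfl
    have hu : IsUnit (l₀ (p a)) := by
      rw [hl₀]
      exact (IsLocalization.Away.algebraMap_isUnit a).map l
    let l₁ : A'' →ₐ[R''] B := { l₀.toRingHom with
      commutes' := fun r'' => by
        obtain ⟨r, rfl⟩ := hR r''
        show l₀ (algebraMap R'' A'' (algebraMap R R'' r)) = _
        rw [← IsScalarTower.algebraMap_apply R R'' A'', AlgHom.commutes, IsScalarTower.algebraMap_apply R R'' B] }
    refine ⟨IsLocalization.liftAlgHom (M := Submonoid.powers (p a)) (f := l₁) (fun ⟨z, n, hn⟩ => ?_), ?_⟩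
    · subst hn
      show IsUnit (l₀ (p a ^ n))
      rw [map_pow]
      exact hu.pow n
    · refine AlgHom.coe_ringHom_injective (IsLocalization.ringHom_ext (Submonoid.powers (p a)) ?_)
      refine RingHom.ext fun x => ?_
      obtain ⟨x, rfl⟩ := hp x
      show Ideal.Quotient.mk I (IsLocalization.liftAlgHom (f := l₁) _ (algebraMap A'' _ (p x))) = f (algebraMap A'' _ (p x))
      rw [IsLocalization.liftAlgHom_apply, IsLocalization.lift_eq]
      show Ideal.Quotient.mk I (l₀ (p x)) = _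
      rw [hl₀]
      refine (AlgHom.congr_fun hl (algebraMap A (Localization.Away a) x)).trans ?_
      show f (IsLocalization.Away.lift (g := ((algebraMap A'' (Localization.Away (p a))).comp p.toRingHom)) a
          (IsLocalization.Away.algebraMap_isUnit (p a)) (algebraMap A _ x)) = _
      rw [IsLocalization.Away.lift_eq]
      rfl
  haveI := hfs
  haveI : Algebra.FinitePresentation A'' (Localization.Away (p a)) := IsLocalization.Away.finitePresentation (p a)
  exact { formallySmooth := hfs, finitePresentation := Algebra.FinitePresentation.trans R'' A'' _ }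

theorem step {R A Λ R'' A'' Λ'' : Type u} [CommRing R] [IsNoetherianRing R] [CommRing A] [Algebra R A]
    [Algebra.FinitePresentation R A] [CommRing Λ] [Algebra R Λ]
    [CommRing R''] [Algebra R R''] [CommRing A''] [Algebra R A''] [Algebra R'' A''] [IsScalarTower R R'' A'']
    [Algebra.FinitePresentation R'' A'']
    [CommRing Λ''] [Algebra R Λ''] [Algebra R'' Λ''] [IsScalarTower R R'' Λ'']
    (π : R) (hR : ∀ r : R, π ^ 2 * r = 0 → π * r = 0) (hΛ : ∀ x : Λ, π ^ 2 • x = 0 → π • x = 0)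
    (φ : A →ₐ[R] Λ) (hπ : _root_.Smoothing.IsStrictlyStandard R A (algebraMap R A π))
    (hsR : Function.Surjective (algebraMap R R'')) (hkR : RingHom.ker (algebraMap R R'') = Ideal.span {π ^ 8})
    (pA : A →ₐ[R] A'') (hpA : Function.Surjective pA)
    (hkA : RingHom.ker pA ≤ (RingHom.ker (algebraMap R R'')).map (algebraMap R A))
    (pΛ : Λ →ₐ[R] Λ'') (hpΛ : Function.Surjective pΛ)
    (hkΛ : RingHom.ker pΛ = Ideal.span {algebraMap R Λ (π ^ 8)})
    (φ'' : A'' →ₐ[R''] Λ'') (hφ : ∀ a, φ'' (pA a) = pΛ (φ a))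
    (q'' : Ideal Λ'') [q''.IsPrime] (hres : _root_.Smoothing.Resolvable R'' φ'' q'') :
    _root_.Smoothing.Resolvable R φ (q''.comap pΛ) := by
  obtain ⟨C, _, _, hC, γ'', g'', hgγ, hsing, hnot⟩ := hres
  haveI := hC
  letI : Algebra R C := ((algebraMap R'' C).comp (algebraMap R R'')).toAlgebra
  haveI : IsScalarTower R R'' C := IsScalarTower.of_algebraMap_eq' rfl
  let eR : (R ⧸ Ideal.span {π ^ 8}) ≃ₐ[R] R'' :=
    (Ideal.quotientEquivAlgOfEq R hkR.symm).trans
      (Ideal.quotientKerAlgEquivOfSurjective (f := Algebra.ofId R R'') hsR)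
  letI : Algebra (R ⧸ Ideal.span {π ^ 8}) R'' := eR.toRingEquiv.toRingHom.toAlgebra
  letI : Algebra (R ⧸ Ideal.span {π ^ 8}) C :=
    ((algebraMap R'' C).comp eR.toRingEquiv.toRingHom).toAlgebra
  haveI : IsScalarTower (R ⧸ Ideal.span {π ^ 8}) R'' C := IsScalarTower.of_algebraMap_eq' rfl
  haveI : IsScalarTower R (R ⧸ Ideal.span {π ^ 8}) C := IsScalarTower.of_algebraMap_eq fun r => by
    show algebraMap R'' C (algebraMap R R'' r) = algebraMap R'' C (eR (algebraMap R _ r))
    rw [eR.commutes]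
  haveI : Algebra.FinitePresentation (R ⧸ Ideal.span {π ^ 8}) R'' :=
    Algebra.FinitePresentation.equiv (AlgEquiv.ofBijective (Algebra.ofId (R ⧸ Ideal.span {π ^ 8}) R'') eR.bijective)
  haveI : Algebra.FinitePresentation (R ⧸ Ideal.span {π ^ 8}) C :=
    Algebra.FinitePresentation.trans _ R'' C
  let eΛ : (Λ ⧸ Ideal.span {algebraMap R Λ (π ^ 8)}) ≃ₐ[R] Λ'' :=
    (Ideal.quotientEquivAlgOfEq R hkΛ.symm).trans (Ideal.quotientKerAlgEquivOfSurjective (f := pΛ) hpΛ)
  have heΛ : ∀ l, eΛ (Ideal.Quotient.mk _ l) = pΛ l := fun l => rfl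
  obtain ⟨B, _, _, hB, α, β, hβα, hsm, hle⟩ := DesingApply.desingularize_lifting π hR hΛ φ hπ
    ((γ''.restrictScalars R).comp pA) (eΛ.symm.toAlgHom.comp (g''.restrictScalars R)) fun a => by
      apply eΛ.injective
      rw [heΛ, ← hφ, ← hgγ]
      simp
  refine ⟨B, inferInstance, inferInstance, hB, α, β, hβα, ?_, ?_⟩
  all_goals
    have hπB : algebraMap R B π ∈ _root_.Smoothing.singularIdeal R B :=
      DesingApply.mem_singularIdeal_of_forall fun Q _ h => hsm Q h
    have h8 : Ideal.span {algebraMap R Λ (π ^ 8)} ≤ _root_.Smoothing.singRad R β := by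
      rw [Ideal.span_singleton_le_iff_mem, ← β.commutes, map_pow (algebraMap R B)]
      exact Ideal.le_radical (Ideal.mem_map_of_mem _ (Ideal.pow_mem_of_mem _ hπB 8 (by norm_num)))
    have hback : ∀ l : Λ, pΛ l ∈ _root_.Smoothing.singRad R'' g'' → l ∈ _root_.Smoothing.singRad R β := by
      intro l hl
      obtain ⟨N, hN⟩ := hl
      rw [← map_pow] at hN
      have hsingC : _root_.Smoothing.singularIdeal R'' C ≤
          _root_.Smoothing.singularIdeal (R ⧸ Ideal.span {π ^ 8}) C := fun c hc =>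
        DesingApply.mem_singularIdeal_of_forall fun Q _ h => by
          have h1 : Algebra.IsSmoothAt R'' Q := DesingApply.isSmoothAt_of_notMem' hc Q h
          haveI : Algebra.FormallySmooth R'' (Localization.AtPrime Q) := h1
          haveI : Algebra.FormallySmooth (R ⧸ Ideal.span {π ^ 8}) R'' :=
            Algebra.FormallySmooth.of_equiv
              (AlgEquiv.ofBijective (Algebra.ofId (R ⧸ Ideal.span {π ^ 8}) R'') eR.bijective)
          haveI : IsScalarTower (R ⧸ Ideal.span {π ^ 8}) R'' (Localization.AtPrime Q) :=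
            IsScalarTower.of_algebraMap_eq fun x => by
              rw [IsScalarTower.algebraMap_apply (R ⧸ Ideal.span {π ^ 8}) C (Localization.AtPrime Q),
                IsScalarTower.algebraMap_apply R'' C (Localization.AtPrime Q)]
              rfl
          exact Algebra.FormallySmooth.comp _ R'' _
      have h2 : eΛ.symm (pΛ (l ^ N)) ∈ Ideal.map (Ideal.Quotient.mk (Ideal.span {algebraMap R Λ (π ^ 8)}))
          (_root_.Smoothing.singRad R β) := by
        refine hle ?_
        have h3 := Ideal.mem_map_of_mem eΛ.symm hN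
        refine SetLike.le_def.mp (Ideal.map_le_iff_le_comap.mpr (Ideal.map_le_iff_le_comap.mpr fun c hc => ?_)) h3
        exact Ideal.mem_map_of_mem _ (hsingC hc)
      rw [← heΛ, AlgEquiv.symm_apply_apply, ← Ideal.mem_comap,
        Ideal.comap_map_of_surjective _ Ideal.Quotient.mk_surjective, ← RingHom.ker_eq_comap_bot, Ideal.mk_ker,
        sup_eq_left.mpr h8] at h2
      exact (Ideal.radical_isRadical _) ⟨N, h2⟩
  · refine (Ideal.radical_isRadical _).radical_le_iff.mpr (Ideal.map_le_iff_le_comap.mpr fun a ha => ?_)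
    refine hback _ (hsing (Ideal.le_radical ?_))
    rw [← hφ]
    haveI := Desing.smooth_away_of_mem_singularIdeal ha
    exact Ideal.mem_map_of_mem _ (Desing.mem_singularIdeal_of_smooth (smooth_away_quotient hsR pA hpA hkA a))
  · intro hq
    obtain ⟨z, hz, hzq⟩ := SetLike.not_le_iff_exists.mp hnot
    obtain ⟨l, rfl⟩ := hpΛ z
    exact hzq (hq (hback l hz))

variable {R A Λ : Type u} [CommRing R] [CommRing A] [Algebra R A] [CommRing Λ] [Algebra R Λ]

theorem factor_algebraMap (A : Type u) [CommRing A] [Algebra R A] {K K' : Ideal R} (h : K ≤ K') (r : R) :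
    Ideal.Quotient.factor (Ideal.map_mono h : K.map (algebraMap R A) ≤ K'.map (algebraMap R A))
      (Ideal.Quotient.mk _ (algebraMap R A r)) = Ideal.Quotient.mk _ (algebraMap R A r) := rfl

/-- Descending one step along a chain of ideals. -/
theorem descend [IsNoetherianRing R] [Algebra.FinitePresentation R A] (φ : A →ₐ[R] Λ) (q : Ideal Λ) [q.IsPrime]
    (π : R) (K K' : Ideal R) (hK : K' = K ⊔ Ideal.span {π ^ 8}) (hq : K'.map (algebraMap R Λ) ≤ q)
    (hπ : _root_.Smoothing.IsStrictlyStandard R A (algebraMap R A π))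
    (hR : ∀ x : R ⧸ K, Ideal.Quotient.mk K π ^ 2 * x = 0 → Ideal.Quotient.mk K π * x = 0)
    (hΛ : ∀ x : Λ ⧸ K.map (algebraMap R Λ), Ideal.Quotient.mk _ (algebraMap R Λ π) ^ 2 * x = 0 →
      Ideal.Quotient.mk _ (algebraMap R Λ π) * x = 0)
    (φK : (A ⧸ K.map (algebraMap R A)) →ₐ[R ⧸ K] (Λ ⧸ K.map (algebraMap R Λ)))
    (hφK : ∀ a : A, φK (Ideal.Quotient.mk _ a) = Ideal.Quotient.mk _ (φ a))
    (φK' : (A ⧸ K'.map (algebraMap R A)) →ₐ[R ⧸ K'] (Λ ⧸ K'.map (algebraMap R Λ)))
    (hφK' : ∀ a : A, φK' (Ideal.Quotient.mk _ a) = Ideal.Quotient.mk _ (φ a))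
    (hres : _root_.Smoothing.Resolvable (R ⧸ K') φK' (q.map (Ideal.Quotient.mk _))) :
    _root_.Smoothing.Resolvable (R ⧸ K) φK (q.map (Ideal.Quotient.mk _)) := by
  have hle : K ≤ K' := hK ▸ le_sup_left
  let eA : (R ⧸ K) ⊗[R] A ≃ₐ[R ⧸ K] A ⧸ K.map (algebraMap R A) :=
    (Algebra.TensorProduct.quotIdealMapEquivQuotTensor A K).symm
  haveI : Algebra.FinitePresentation (R ⧸ K) (A ⧸ K.map (algebraMap R A)) := Algebra.FinitePresentation.equiv eA
  haveI : Algebra.FinitePresentation (R ⧸ K') (A ⧸ K'.map (algebraMap R A)) :=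
    Algebra.FinitePresentation.equiv (Algebra.TensorProduct.quotIdealMapEquivQuotTensor A K').symm
  letI : Algebra (R ⧸ K) (R ⧸ K') := (Ideal.Quotient.factor hle).toAlgebra
  letI : Algebra (R ⧸ K) (A ⧸ K'.map (algebraMap R A)) :=
    ((algebraMap (R ⧸ K') (A ⧸ K'.map (algebraMap R A))).comp (Ideal.Quotient.factor hle)).toAlgebra
  haveI : IsScalarTower (R ⧸ K) (R ⧸ K') (A ⧸ K'.map (algebraMap R A)) := IsScalarTower.of_algebraMap_eq' rfl
  letI : Algebra (R ⧸ K) (Λ ⧸ K'.map (algebraMap R Λ)) :=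
    ((algebraMap (R ⧸ K') (Λ ⧸ K'.map (algebraMap R Λ))).comp (Ideal.Quotient.factor hle)).toAlgebra
  haveI : IsScalarTower (R ⧸ K) (R ⧸ K') (Λ ⧸ K'.map (algebraMap R Λ)) := IsScalarTower.of_algebraMap_eq' rfl
  let pA : (A ⧸ K.map (algebraMap R A)) →ₐ[R ⧸ K] A ⧸ K'.map (algebraMap R A) :=
    { Ideal.Quotient.factor (Ideal.map_mono hle) with
      commutes' := fun r => by obtain ⟨r, rfl⟩ := Ideal.Quotient.mk_surjective r; rfl }
  let pΛ : (Λ ⧸ K.map (algebraMap R Λ)) →ₐ[R ⧸ K] Λ ⧸ K'.map (algebraMap R Λ) :=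
    { Ideal.Quotient.factor (Ideal.map_mono hle) with
      commutes' := fun r => by obtain ⟨r, rfl⟩ := Ideal.Quotient.mk_surjective r; rfl }
  have hkR : RingHom.ker (algebraMap (R ⧸ K) (R ⧸ K')) = Ideal.span {Ideal.Quotient.mk K π ^ 8} := by
    show RingHom.ker (Ideal.Quotient.factor hle) = _
    rw [Ideal.Quotient.factor_ker, hK, Ideal.map_sup, Ideal.map_quotient_self, bot_sup_eq, Ideal.map_span,
      Set.image_singleton, map_pow]
  have hkΛ : RingHom.ker pΛ = Ideal.span {algebraMap (R ⧸ K) (Λ ⧸ K.map (algebraMap R Λ)) (Ideal.Quotient.mk K π ^ 8)} := by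
    show RingHom.ker (Ideal.Quotient.factor (Ideal.map_mono hle)) = _
    rw [Ideal.Quotient.factor_ker, hK, Ideal.map_sup, Ideal.map_sup, Ideal.map_quotient_self, bot_sup_eq,
      Ideal.map_span, Ideal.map_span, Set.image_singleton, Set.image_singleton]
    rfl
  have hkA : RingHom.ker pA ≤ (RingHom.ker (algebraMap (R ⧸ K) (R ⧸ K'))).map
      (algebraMap (R ⧸ K) (A ⧸ K.map (algebraMap R A))) := by
    rw [hkR, Ideal.map_span, Set.image_singleton]
    show RingHom.ker (Ideal.Quotient.factor (Ideal.map_mono hle)) ≤ _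
    rw [Ideal.Quotient.factor_ker, hK, Ideal.map_sup, Ideal.map_sup, Ideal.map_quotient_self, bot_sup_eq,
      Ideal.map_span, Ideal.map_span, Set.image_singleton, Set.image_singleton]
    rfl
  haveI : (q.map (Ideal.Quotient.mk (K'.map (algebraMap R Λ)))).IsPrime :=
    Ideal.map_isPrime_of_surjective Ideal.Quotient.mk_surjective (by rwa [Ideal.mk_ker])
  have hπ' : _root_.Smoothing.IsStrictlyStandard (R ⧸ K) (A ⧸ K.map (algebraMap R A))
      (algebraMap (R ⧸ K) _ (Ideal.Quotient.mk K π)) := by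
    have h := isStrictlyStandard_map eA ((Groth.L14.Smoothing.isStandard_baseChange (R' := R ⧸ K)
      (algebraMap R A π)).2 hπ)
    rwa [show (1 : R ⧸ K) ⊗ₜ[R] algebraMap R A π = algebraMap (R ⧸ K) ((R ⧸ K) ⊗[R] A) (Ideal.Quotient.mk K π) by
      rw [Algebra.TensorProduct.algebraMap_apply, Algebra.algebraMap_self, RingHom.id_apply,
        ← Ideal.Quotient.algebraMap_eq, Algebra.algebraMap_eq_smul_one (A := R ⧸ K), smul_tmul,
        ← Algebra.algebraMap_eq_smul_one], eA.commutes] at h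
  have h := step (Ideal.Quotient.mk K π) hR (fun x hx => by
      rw [Algebra.smul_def, map_pow] at hx
      rw [Algebra.smul_def]
      exact hΛ x hx) φK hπ'
    (Ideal.Quotient.factor_surjective hle) hkR pA (Ideal.Quotient.factor_surjective (Ideal.map_mono hle)) hkA
    pΛ (Ideal.Quotient.factor_surjective (Ideal.map_mono hle)) hkΛ φK' (fun a => by
      obtain ⟨a, rfl⟩ := Ideal.Quotient.mk_surjective a
      show φK' (Ideal.Quotient.mk _ a) = pΛ (φK (Ideal.Quotient.mk _ a))
      rw [hφK, hφK']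
      rfl) _ hres
  convert h using 1
  ext x
  obtain ⟨x, rfl⟩ := Ideal.Quotient.mk_surjective x
  show _ ↔ Ideal.Quotient.mk _ x ∈ q.map (Ideal.Quotient.mk (K'.map (algebraMap R Λ)))
  rw [← Ideal.mem_comap, Ideal.comap_map_of_surjective _ Ideal.Quotient.mk_surjective, ← Ideal.mem_comap,
    Ideal.comap_map_of_surjective _ Ideal.Quotient.mk_surjective, ← RingHom.ker_eq_comap_bot,
    ← RingHom.ker_eq_comap_bot, Ideal.mk_ker, Ideal.mk_ker, sup_eq_left.mpr hq,
    sup_eq_left.mpr ((Ideal.map_mono hle).trans hq)]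

theorem resolvable_of_mod_pow [IsNoetherianRing R] [Algebra.FinitePresentation R A]
    (φ : A →ₐ[R] Λ) (𝔮 : Ideal Λ) [𝔮.IsPrime] {r : ℕ} (π : Fin r → R)
    (hπ𝔮 : ∀ i, algebraMap R Λ (π i) ∈ 𝔮)
    (hR : ∀ i : Fin r, ∀ x : R ⧸ Ideal.span (Set.range fun j : {j : Fin r // (j : ℕ) < (i : ℕ)} => π j ^ 8),
      Ideal.Quotient.mk _ (π i) ^ 2 * x = 0 → Ideal.Quotient.mk _ (π i) * x = 0)
    (hΛ : ∀ i : Fin r, ∀ x : Λ ⧸ Ideal.span (Set.range fun j : {j : Fin r // (j : ℕ) < (i : ℕ)} =>
        algebraMap R Λ (π j) ^ 8),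
      Ideal.Quotient.mk _ (algebraMap R Λ (π i)) ^ 2 * x = 0 → Ideal.Quotient.mk _ (algebraMap R Λ (π i)) * x = 0)
    (hstd : ∀ i, _root_.Smoothing.IsStrictlyStandard R A (algebraMap R A (π i)))
    (K : Ideal R) (hK : K = Ideal.span (Set.range fun i => π i ^ 8))
    (φK : (A ⧸ K.map (algebraMap R A)) →ₐ[R ⧸ K] (Λ ⧸ K.map (algebraMap R Λ)))
    (hφK : ∀ a : A, φK (Ideal.Quotient.mk _ a) = Ideal.Quotient.mk _ (φ a))
    (hres : _root_.Smoothing.Resolvable (R ⧸ K) φK (𝔮.map (Ideal.Quotient.mk (K.map (algebraMap R Λ))))) :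
    _root_.Smoothing.Resolvable R φ 𝔮 := by
  classical
  let Kj : ℕ → Ideal R := fun j => Ideal.span (Set.range fun i : {i : Fin r // (i : ℕ) < j} => π i ^ 8)
  have hmk : ∀ L : Ideal R, ∃ φL : (A ⧸ L.map (algebraMap R A)) →ₐ[R ⧸ L] (Λ ⧸ L.map (algebraMap R Λ)),
      ∀ a : A, φL (Ideal.Quotient.mk _ a) = Ideal.Quotient.mk _ (φ a) := by
    intro L
    let f : A ⧸ L.map (algebraMap R A) →+* Λ ⧸ L.map (algebraMap R Λ) :=
      Ideal.quotientMap _ φ.toRingHom (Ideal.map_le_iff_le_comap.mpr fun r hr => by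
        show φ (algebraMap R A r) ∈ L.map (algebraMap R Λ)
        rw [φ.commutes]
        exact Ideal.mem_map_of_mem _ hr)
    let fa : (A ⧸ L.map (algebraMap R A)) →ₐ[R ⧸ L] (Λ ⧸ L.map (algebraMap R Λ)) :=
      { f with
        commutes' := fun r => by
          obtain ⟨r, rfl⟩ := Ideal.Quotient.mk_surjective r
          show f (Ideal.Quotient.mk _ (algebraMap R A r)) = _
          exact congrArg (Ideal.Quotient.mk _) (φ.commutes r) }
    exact ⟨fa, fun a => rfl⟩
  have hKq : ∀ j, (Kj j).map (algebraMap R Λ) ≤ 𝔮 := fun j => by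
    rw [Ideal.map_span, Ideal.span_le]
    rintro _ ⟨_, ⟨i, rfl⟩, rfl⟩
    show algebraMap R Λ (π i ^ 8) ∈ 𝔮
    rw [map_pow]
    exact Ideal.pow_mem_of_mem _ (hπ𝔮 i) 8 (by norm_num)
  have hKr : Kj r = K := by
    rw [hK]
    refine congrArg Ideal.span (Set.ext fun x => ⟨?_, ?_⟩)
    · rintro ⟨i, rfl⟩; exact ⟨i.1, rfl⟩
    · rintro ⟨i, rfl⟩; exact ⟨⟨i, i.2⟩, rfl⟩
  have key : ∀ d, d ≤ r → ∀ φL : (A ⧸ (Kj (r - d)).map (algebraMap R A)) →ₐ[R ⧸ Kj (r - d)]
      (Λ ⧸ (Kj (r - d)).map (algebraMap R Λ)),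
      (∀ a : A, φL (Ideal.Quotient.mk _ a) = Ideal.Quotient.mk _ (φ a)) →
      _root_.Smoothing.Resolvable (R ⧸ Kj (r - d)) φL (𝔮.map (Ideal.Quotient.mk _)) := by
    intro d
    induction d with
    | zero =>
      intro _
      rw [Nat.sub_zero]
      subst hKr
      intro φL hφL
      have : φL = φK := AlgHom.ext fun z => by
        obtain ⟨a, rfl⟩ := Ideal.Quotient.mk_surjective z
        rw [hφL, hφK]
      rw [this]
      exact hres
    | succ d ih =>
      intro hd φL hφL
      let i : Fin r := ⟨r - (d + 1), by omega⟩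
      obtain ⟨φ', hφ'⟩ := hmk (Kj (r - d))
      have hset : Kj (r - d) = Kj (r - (d + 1)) ⊔ Ideal.span {π i ^ 8} := by
        rw [← Ideal.span_union]
        refine congrArg Ideal.span (Set.ext fun x => ⟨?_, ?_⟩)
        · rintro ⟨⟨j, hj⟩, rfl⟩
          rcases lt_or_ge (j : ℕ) (r - (d + 1)) with h | h
          · exact Or.inl ⟨⟨j, h⟩, rfl⟩
          · exact Or.inr (congrArg (fun j => π j ^ 8) (show j = i from Fin.ext (by show (j : ℕ) = r - (d + 1); omega)))
        · rintro (⟨⟨j, hj⟩, rfl⟩ | hx)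
          · exact ⟨⟨j, by omega⟩, rfl⟩
          · exact ⟨⟨i, by show r - (d + 1) < r - d; omega⟩, hx.symm⟩
      have hmap : Ideal.span (Set.range fun j : {j : Fin r // (j : ℕ) < (i : ℕ)} => algebraMap R Λ (π j) ^ 8) =
          (Kj (r - (d + 1))).map (algebraMap R Λ) := by
        rw [Ideal.map_span, ← Set.range_comp]
        simp only [Function.comp_def, map_pow]
        rfl
      refine descend φ 𝔮 (π i) (Kj (r - (d + 1))) (Kj (r - d)) hset (hKq _) (hstd i) (hR i) ?_ φL hφL φ' hφ'
        (ih (by omega) φ' hφ')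
      have h := hΛ i
      rw [hmap] at h
      exact h
  obtain ⟨φ₀, hφ₀⟩ := hmk (Kj (r - r))
  have h0 := key r le_rfl φ₀ hφ₀
  have hbot : Kj (r - r) = ⊥ := by
    rw [Nat.sub_self, Ideal.span_eq_bot]
    rintro _ ⟨⟨i, hi⟩, rfl⟩
    exact absurd hi (Nat.not_lt_zero _)
  haveI : Algebra.FinitePresentation (R ⧸ Kj (r - r)) (A ⧸ (Kj (r - r)).map (algebraMap R A)) :=
    Algebra.FinitePresentation.equiv (Algebra.TensorProduct.quotIdealMapEquivQuotTensor A _).symm
  haveI : (𝔮.map (Ideal.Quotient.mk ((Kj (r - r)).map (algebraMap R Λ)))).IsPrime :=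
    Ideal.map_isPrime_of_surjective Ideal.Quotient.mk_surjective (by rw [Ideal.mk_ker]; exact hKq _)
  have hzero : RingHom.ker (algebraMap R (R ⧸ Kj (r - r))) = Ideal.span {(0 : R) ^ 8} := by
    rw [Ideal.Quotient.algebraMap_eq, Ideal.mk_ker, hbot]
    simp
  have h := step (R'' := R ⧸ Kj (r - r)) (0 : R) (fun x _ => zero_mul x) (fun x _ => zero_smul R x) φ
    (by rw [map_zero]; exact isStrictlyStandard_zero R A)
    (by rw [Ideal.Quotient.algebraMap_eq]; exact Ideal.Quotient.mk_surjective) hzero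
    (Ideal.Quotient.mkₐ R _) Ideal.Quotient.mk_surjective
    (by rw [show RingHom.ker (algebraMap R (R ⧸ Kj (r - r))) = Kj (r - r) from Ideal.mk_ker]; exact le_of_eq Ideal.mk_ker)
    (Ideal.Quotient.mkₐ R _) Ideal.Quotient.mk_surjective
    (by
      show RingHom.ker (Ideal.Quotient.mk _) = _
      rw [Ideal.mk_ker, hbot]
      simp)
    φ₀ hφ₀ _ h0
  convert h using 1
  show 𝔮 = Ideal.comap (Ideal.Quotient.mk _) _
  rw [Ideal.comap_map_of_surjective _ Ideal.Quotient.mk_surjective, ← RingHom.ker_eq_comap_bot, Ideal.mk_ker,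
    sup_eq_left.mpr (hKq _)]

end Groth.L14.Smoothing.ModPow
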