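import Groth.Agent.L14.Smoothing.DesingStd
import Groth.Agent.L14.Smoothing.Lifting

/-!
Desingularisation combined with lifting.
-/

set_option autoImplicit false
set_option linter.style.haveILetI false

noncomputable section

namespace Groth.L14.Smoothing.DesingApply

universe u

theorem isSmoothAt_of_notMem {R D : Type u} [CommRing R] [CommRing D] [Algebra R D]
    [Algebra.FinitePresentation R D] {d : D} (hd : d ∈ _root_.Smoothing.singularIdeal R D) (Q : Ideal D)
    [Q.IsPrime] (hdQ : d ∉ Q) : Algebra.IsSmoothAt R Q :=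
  Algebra.basicOpen_subset_smoothLocus_iff_smooth.mpr (Desing.smooth_away_of_mem_singularIdeal hd)
    (show (⟨Q, inferInstance⟩ : PrimeSpectrum D) ∈ PrimeSpectrum.basicOpen d from hdQ)

theorem mem_singularIdeal_of_forall {R D : Type u} [CommRing R] [CommRing D] [Algebra R D] {d : D}
    (h : ∀ (Q : Ideal D) [Q.IsPrime], d ∉ Q → Algebra.IsSmoothAt R Q) :
    d ∈ _root_.Smoothing.singularIdeal R D := by
  rw [_root_.Smoothing.singularIdeal, PrimeSpectrum.mem_vanishingIdeal]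
  intro p hp
  by_contra hd
  exact hp (h p.asIdeal hd)

theorem isSmoothAt_of_notMem' {R C : Type u} [CommRing R] [CommRing C] [Algebra R C] {c : C}
    (hc : c ∈ _root_.Smoothing.singularIdeal R C) (Q : Ideal C) [Q.IsPrime] (hcQ : c ∉ Q) :
    Algebra.IsSmoothAt R Q := by
  rw [_root_.Smoothing.singularIdeal, PrimeSpectrum.mem_vanishingIdeal] at hc
  by_contra h
  exact hcQ (hc ⟨Q, inferInstance⟩ h)

theorem pow_ann {R M : Type u} [CommRing R] [AddCommGroup M] [Module R M] (π : R)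
    (h : ∀ x : M, π ^ 2 • x = 0 → π • x = 0) : ∀ (k : ℕ) (x : M), π ^ (k + 1) • x = 0 → π • x = 0 := by
  intro k
  induction k with
  | zero => intro x hx; simpa using hx
  | succ k ih =>
    intro x hx
    refine h x ?_
    rw [pow_two, mul_smul]
    refine ih _ ?_
    rwa [smul_smul, ← pow_succ]

theorem desingularize_lifting {R Λ A C : Type u} [CommRing R] [IsNoetherianRing R] [CommRing Λ]
    [Algebra R Λ] (π : R) (hR : ∀ r : R, π ^ 2 * r = 0 → π * r = 0)
    (hΛ : ∀ x : Λ, π ^ 2 • x = 0 → π • x = 0) [CommRing A] [Algebra R A]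
    [Algebra.FinitePresentation R A] (φ : A →ₐ[R] Λ)
    (hπ : _root_.Smoothing.IsStrictlyStandard R A (algebraMap R A π))
    [CommRing C] [Algebra R C] [Algebra (R ⧸ Ideal.span {π ^ 8}) C] [IsScalarTower R (R ⧸ Ideal.span {π ^ 8}) C]
    [Algebra.FinitePresentation (R ⧸ Ideal.span {π ^ 8}) C]
    (γ : A →ₐ[R] C) (g : C →ₐ[R] Λ ⧸ Ideal.span {algebraMap R Λ (π ^ 8)})
    (hfac : ∀ a : A, g (γ a) = Ideal.Quotient.mk (Ideal.span {algebraMap R Λ (π ^ 8)}) (φ a)) :
    ∃ (B : Type u) (_ : CommRing B) (_ : Algebra R B), Algebra.FinitePresentation R B ∧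
      ∃ (α : A →ₐ[R] B) (β : B →ₐ[R] Λ), β.comp α = φ ∧
        (∀ (Q : Ideal B) [Q.IsPrime], algebraMap R B π ∉ Q → Algebra.IsSmoothAt R Q) ∧
        (_root_.Smoothing.singularIdeal (R ⧸ Ideal.span {π ^ 8}) C).map g ≤
          ((_root_.Smoothing.singularIdeal R B).map β).radical.map
            (Ideal.Quotient.mk (Ideal.span {algebraMap R Λ (π ^ 8)})) := by
  have h8 : π ^ 8 = (π ^ 4) ^ 2 := by ring
  let eR : (R ⧸ Ideal.span {(π ^ 4) ^ 2}) ≃ₐ[R] (R ⧸ Ideal.span {π ^ 8}) :=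
    Ideal.quotientEquivAlgOfEq R (by rw [h8])
  letI : Algebra (R ⧸ Ideal.span {(π ^ 4) ^ 2}) C :=
    ((algebraMap (R ⧸ Ideal.span {π ^ 8}) C).comp eR.toRingEquiv.toRingHom).toAlgebra
  haveI : IsScalarTower R (R ⧸ Ideal.span {(π ^ 4) ^ 2}) C := IsScalarTower.of_algebraMap_eq fun r => by
    show algebraMap R C r = algebraMap (R ⧸ Ideal.span {π ^ 8}) C (eR (algebraMap R _ r))
    rw [eR.commutes, ← IsScalarTower.algebraMap_apply]
  letI : Algebra (R ⧸ Ideal.span {(π ^ 4) ^ 2}) (R ⧸ Ideal.span {π ^ 8}) := eR.toRingEquiv.toRingHom.toAlgebra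
  haveI : IsScalarTower (R ⧸ Ideal.span {(π ^ 4) ^ 2}) (R ⧸ Ideal.span {π ^ 8}) C :=
    IsScalarTower.of_algebraMap_eq' rfl
  haveI : Algebra.FinitePresentation (R ⧸ Ideal.span {(π ^ 4) ^ 2}) (R ⧸ Ideal.span {π ^ 8}) :=
    Algebra.FinitePresentation.equiv
      (AlgEquiv.ofBijective (Algebra.ofId (R ⧸ Ideal.span {(π ^ 4) ^ 2}) _) eR.bijective)
  haveI : Algebra.FinitePresentation (R ⧸ Ideal.span {(π ^ 4) ^ 2}) C :=
    Algebra.FinitePresentation.trans _ (R ⧸ Ideal.span {π ^ 8}) C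
  let eΛ : (Λ ⧸ Ideal.span {algebraMap R Λ (π ^ 8)}) ≃ₐ[R] Λ ⧸ Ideal.span {algebraMap R Λ ((π ^ 4) ^ 2)} :=
    Ideal.quotientEquivAlgOfEq R (by rw [h8])
  have hR4 : ∀ r : R, (π ^ 4) ^ 2 * r = 0 → π ^ 4 * r = 0 := fun r hr => by
    have h1 := pow_ann (M := R) π (fun x hx => hR x hx) 7 r (by rw [smul_eq_mul, ← hr]; ring)
    rw [smul_eq_mul] at h1
    rw [pow_succ, mul_assoc, h1, mul_zero]
  have hΛ4 : ∀ x : Λ, (π ^ 4) ^ 2 • x = 0 → π ^ 4 • x = 0 := fun x hx => by
    have h1 := pow_ann π hΛ 7 x (by rw [← hx, ← pow_mul])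
    rw [pow_succ, mul_smul, h1, smul_zero]
  obtain ⟨D, _, _, hD, δ, ψ, hc, hs1, hs2⟩ :=
    Lift.exists_lifting (π ^ 4) hR4 hΛ4 (eΛ.toAlgHom.comp g)
  haveI := hD
  have hcompat : ∀ (c : C) (d : D) (l : Λ), Ideal.Quotient.mk (Ideal.span {algebraMap R D (π ^ 4)}) d = ψ c →
      Ideal.Quotient.mk (Ideal.span {algebraMap R Λ (π ^ 8)}) l = g c →
        δ d - l ∈ Ideal.span {algebraMap R Λ (π ^ 4)} := fun c d l hd hl => hc c d l hd (by
    rw [AlgHom.comp_apply, ← hl]
    rfl)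
  obtain ⟨B, _, _, _, _, hB, α, β, hβα, hβδ, -, hsB⟩ :=
    Desing.exists_desingularization_relative π hR hΛ φ δ hπ (ψ.comp γ) fun a d hd =>
      hcompat (γ a) d (φ a) hd (hfac a).symm
  haveI := hB
  have hπD : algebraMap R D π ∈ _root_.Smoothing.singularIdeal R D :=
    mem_singularIdeal_of_forall fun Q _ h => hs1 Q fun h' => h (by
      rw [map_pow] at h'
      exact (inferInstance : Q.IsPrime).mem_of_pow_mem _ h')
  have hπB : algebraMap R B π ∈ _root_.Smoothing.singularIdeal R B := by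
    have h := hsB (Ideal.mem_map_of_mem _ hπD)
    rwa [← IsScalarTower.algebraMap_apply] at h
  refine ⟨B, inferInstance, inferInstance, hB, α, β, hβα, fun Q _ h => isSmoothAt_of_notMem hπB Q h,
    Ideal.map_le_iff_le_comap.mpr fun c hcs => ?_⟩
  obtain ⟨d, hd⟩ := Ideal.Quotient.mk_surjective (ψ c)
  obtain ⟨l, hl⟩ := Ideal.Quotient.mk_surjective (g c)
  have hdD : d ∈ _root_.Smoothing.singularIdeal R D := mem_singularIdeal_of_forall fun Q _ hdQ => by
    by_cases hq : algebraMap R D (π ^ 4) ∈ Q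
    · let Q' : Ideal (D ⧸ Ideal.span {algebraMap R D (π ^ 4)}) := Q.map (Ideal.Quotient.mk _)
      have hker : RingHom.ker (Ideal.Quotient.mk (Ideal.span {algebraMap R D (π ^ 4)})) ≤ Q := by
        rw [Ideal.mk_ker, Ideal.span_singleton_le_iff_mem]; exact hq
      haveI : Q'.IsPrime := Ideal.map_isPrime_of_surjective Ideal.Quotient.mk_surjective hker
      have hQ : Q'.comap (Ideal.Quotient.mk _) = Q := by
        rw [Ideal.comap_map_of_surjective _ Ideal.Quotient.mk_surjective]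
        exact sup_eq_left.mpr (by rwa [← RingHom.ker_eq_comap_bot])
      have h := hs2 Q' (by
        have hcQ : c ∉ Q'.comap ψ := fun h => hdQ (by
          have h' : d ∈ Q'.comap (Ideal.Quotient.mk _) := by
            show Ideal.Quotient.mk _ d ∈ Q'
            rw [hd]; exact h
          rwa [hQ] at h')
        have h1 : Algebra.IsSmoothAt (R ⧸ Ideal.span {π ^ 8}) (Q'.comap ψ) := isSmoothAt_of_notMem' hcs _ hcQ
        haveI : Algebra.FormallySmooth (R ⧸ Ideal.span {π ^ 8}) (Localization.AtPrime (Q'.comap ψ)) := h1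
        haveI : Algebra.FormallySmooth (R ⧸ Ideal.span {(π ^ 4) ^ 2}) (R ⧸ Ideal.span {π ^ 8}) :=
          Algebra.FormallySmooth.of_equiv
            (AlgEquiv.ofBijective (Algebra.ofId (R ⧸ Ideal.span {(π ^ 4) ^ 2}) _) eR.bijective)
        haveI : IsScalarTower (R ⧸ Ideal.span {(π ^ 4) ^ 2}) (R ⧸ Ideal.span {π ^ 8})
            (Localization.AtPrime (Q'.comap ψ)) := IsScalarTower.of_algebraMap_eq fun x => by
          rw [IsScalarTower.algebraMap_apply (R ⧸ Ideal.span {(π ^ 4) ^ 2}) C (Localization.AtPrime (Q'.comap ψ)),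
            IsScalarTower.algebraMap_apply (R ⧸ Ideal.span {π ^ 8}) C (Localization.AtPrime (Q'.comap ψ))]
          rfl
        exact Algebra.FormallySmooth.comp _ (R ⧸ Ideal.span {π ^ 8}) _)
      convert h using 1
      exact hQ.symm
    · exact hs1 Q hq
  have hdB := hsB (Ideal.mem_map_of_mem _ hdD)
  have h2 := hcompat c d l hd hl
  obtain ⟨v, hv⟩ := Ideal.mem_span_singleton'.mp h2
  rw [Ideal.mem_comap, ← hl]
  refine Ideal.mem_map_of_mem _ (Ideal.le_radical ?_)
  rw [show l = δ d - v * algebraMap R Λ (π ^ 4) by linear_combination hv, ← hβδ, AlgHom.comp_apply,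
    ← AlgHom.commutes β, map_pow (algebraMap R B)]
  refine sub_mem (Ideal.mem_map_of_mem _ hdB) (Ideal.mul_mem_left _ _ ?_)
  exact Ideal.mem_map_of_mem _ (Ideal.pow_mem_of_mem _ hπB 4 (by norm_num))

end Groth.L14.Smoothing.DesingApply
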