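import Groth.Prelude.Def_Smoothing
import Mathlib.RingTheory.Smooth.StandardSmooth
import Mathlib.RingTheory.Ideal.IdempotentFG
import Mathlib.RingTheory.Localization.Away.Basic

/-!
Localisation at an elementary standard element is standard smooth.
-/

open MvPolynomial

namespace Groth.L14.Smoothing

universe u

theorem isStandardSmooth_away_of_unit {R : Type u} [CommRing R] {n c : ℕ}
    (F : Fin c → MvPolynomial (Fin n) R) (a : Fin c → Fin n) (ha : Function.Injective a)
    (b : MvPolynomial (Fin n) R ⧸ Ideal.span (Set.range F))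
    (L : Type u) [CommRing L] [Algebra (MvPolynomial (Fin n) R ⧸ Ideal.span (Set.range F)) L] [Algebra R L]
    [IsScalarTower R (MvPolynomial (Fin n) R ⧸ Ideal.span (Set.range F)) L]
    [IsLocalization.Away b L]
    (hb : IsUnit (algebraMap _ L (Ideal.Quotient.mk (Ideal.span (Set.range F))
      (_root_.Smoothing.jacobianMinor F id a)))) :
    Algebra.IsStandardSmooth R L := by
  classical
  let Q := Algebra.PreSubmersivePresentation.naive (v := F) a ha
  have hQ : Q.jacobian = Ideal.Quotient.mk _ (_root_.Smoothing.jacobianMinor F id a) := by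
    rw [Algebra.PreSubmersivePresentation.jacobian_eq_jacobiMatrix_det]
    have : Q.jacobiMatrix = (Matrix.of fun j k : Fin c => pderiv (a k) (F (id j))).transpose := by
      ext i j
      simp only [Q, Algebra.PreSubmersivePresentation.jacobiMatrix_naive, Matrix.transpose_apply, Matrix.of_apply,
        id_eq]
    rw [this, Matrix.det_transpose]
    simp only [Q, _root_.Smoothing.jacobianMinor]
    rfl
  have hbu : IsUnit (algebraMap _ L b) := IsLocalization.Away.algebraMap_isUnit b
  let P : Algebra.SubmersivePresentation R L _ _ :=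
    { toPreSubmersivePresentation := .comp (.localizationAway L b) Q
      jacobian_isUnit := by
        rw [Algebra.PreSubmersivePresentation.comp_jacobian_eq_jacobian_smul_jacobian,
          Algebra.PreSubmersivePresentation.localizationAway_jacobian, Algebra.smul_def, hQ]
        exact hb.mul hbu }
  exact P.isStandardSmooth

theorem isStandardSmooth_of_elementary {R A : Type u} [CommRing R] [CommRing A] [Algebra R A] (a : A)
    (ha : _root_.Smoothing.IsElementaryStandard R A a) : Algebra.IsStandardSmooth R (Localization.Away a) := by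
  classical
  obtain ⟨P, ⟨a', ha'⟩, hkill⟩ := ha
  let Poly := MvPolynomial (Fin P.n) R
  let F : Fin P.c → Poly := P.rel ∘ Fin.castLE P.hcm
  let Δ : Poly := _root_.Smoothing.jacobianMinor P.rel (Fin.castLE P.hcm) (Fin.castLE P.hcn)
  obtain ⟨p', hp'⟩ := P.surj a'
  let pa : Poly := p' * Δ
  have hpa : P.hom pa = a := by rw [map_mul, hp', ha']
  let B := Poly ⧸ Ideal.span (Set.range F)
  have hFker : Ideal.span (Set.range F) ≤ RingHom.ker P.hom.toRingHom := by
    rw [P.ker_eq]
    exact Ideal.span_mono (Set.range_comp_subset_range _ _)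
  let g : B →ₐ[R] A := Ideal.Quotient.liftₐ _ P.hom fun x hx => RingHom.mem_ker.mp (hFker hx)
  have hg : ∀ p, g (Ideal.Quotient.mk _ p) = P.hom p := fun p => rfl
  let b : B := Ideal.Quotient.mk _ pa
  let L := Localization.Away b
  have hgb : g b = a := hpa
  have hbu : IsUnit (algebraMap B L b) := IsLocalization.Away.algebraMap_isUnit b
  have hΔu : IsUnit (algebraMap B L (Ideal.Quotient.mk _
      (_root_.Smoothing.jacobianMinor F id (Fin.castLE P.hcn)))) := by
    have e1 : algebraMap B L b = algebraMap B L (Ideal.Quotient.mk _ p') *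
        algebraMap B L (Ideal.Quotient.mk (Ideal.span (Set.range F)) Δ) := by
      rw [← map_mul, ← map_mul]
    rw [e1] at hbu
    exact (IsUnit.mul_iff.mp hbu).2
  haveI hL : Algebra.IsStandardSmooth R L :=
    isStandardSmooth_away_of_unit F (Fin.castLE P.hcn) (Fin.castLE_injective _) b L hΔu
  let Aa := Localization.Away a
  have hau : IsUnit ((IsScalarTower.toAlgHom R A Aa).comp g b) := by
    rw [AlgHom.comp_apply, hgb]; exact IsLocalization.Away.algebraMap_isUnit a
  let f : L →ₐ[R] Aa := IsLocalization.Away.liftAlgHom (S := L) b hau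
  have hf : ∀ r, f (algebraMap B L r) = algebraMap A Aa (g r) := fun r =>
    IsLocalization.Away.lift_eq b (g := ((IsScalarTower.toAlgHom R A Aa).comp g).toRingHom) hau r
  let I : Ideal L := (Ideal.span (Set.range P.rel)).map ((algebraMap B L).comp (Ideal.Quotient.mk _))
  have hker : RingHom.ker f = I := by
    refine le_antisymm ?_ ?_
    · intro x hx
      obtain ⟨k, r, hr⟩ := IsLocalization.Away.surj b x
      have h0 : algebraMap A Aa (g r) = 0 := by
        rw [← hf, ← hr, map_mul, RingHom.mem_ker.mp hx, zero_mul]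
      obtain ⟨⟨c, j, rfl⟩, hj⟩ := (IsLocalization.map_eq_zero_iff (Submonoid.powers a) Aa _).mp h0
      obtain ⟨p, rfl⟩ := Ideal.Quotient.mk_surjective r
      have hmem : pa ^ j * p ∈ Ideal.span (Set.range P.rel) := by
        rw [← P.ker_eq, RingHom.mem_ker]
        show P.hom (pa ^ j * p) = 0
        rw [map_mul, map_pow, hpa, ← hg]
        exact hj
      have := Ideal.mem_map_of_mem ((algebraMap B L).comp (Ideal.Quotient.mk _)) hmem
      rw [RingHom.comp_apply, map_mul, map_mul, map_pow, map_pow, ← hr] at this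
      exact ((Ideal.unit_mul_mem_iff_mem I (hbu.pow k)).mp
        (by rw [mul_comm]; exact (Ideal.unit_mul_mem_iff_mem I (hbu.pow j)).mp this))
    · refine Ideal.map_le_iff_le_comap.mpr fun p hp => ?_
      show f (algebraMap B L (Ideal.Quotient.mk _ p)) = 0
      rw [hf, hg, show P.hom p = 0 from RingHom.mem_ker.mp (P.ker_eq ▸ hp : p ∈ RingHom.ker P.hom.toRingHom),
        map_zero]
  have hsurj : Function.Surjective f := by
    intro y
    obtain ⟨k, r, hr⟩ := IsLocalization.Away.surj a y
    obtain ⟨p, rfl⟩ := P.surj r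
    obtain ⟨u, hu⟩ := hbu.pow k
    refine ⟨algebraMap B L (Ideal.Quotient.mk _ p) * ↑u⁻¹, ?_⟩
    have h1 : f ↑u = algebraMap A Aa a ^ k := by rw [hu, map_pow, hf, hgb]
    have h2 : IsUnit (f ↑u) := u.isUnit.map f
    apply h2.mul_right_cancel
    rw [← map_mul, mul_assoc, Units.inv_mul, mul_one, hf, hg, ← hr, h1]
  have hidem : IsIdempotentElem I := by
    refine le_antisymm Ideal.mul_le_left (Ideal.map_le_iff_le_comap.mpr (Ideal.span_le.mpr ?_))
    rintro _ ⟨j, rfl⟩
    show algebraMap B L (Ideal.Quotient.mk _ (P.rel j)) ∈ I * I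
    by_cases hj : (j : ℕ) < P.c
    · have : Ideal.Quotient.mk (Ideal.span (Set.range F)) (P.rel j) = 0 :=
        Ideal.Quotient.eq_zero_iff_mem.mpr (Ideal.subset_span ⟨⟨j, hj⟩, rfl⟩)
      rw [this, map_zero]; exact zero_mem _
    · have := Ideal.mem_map_of_mem ((algebraMap B L).comp (Ideal.Quotient.mk (Ideal.span (Set.range F))))
        (hkill pa hpa j (not_lt.mp hj))
      rw [Ideal.map_sup, Ideal.map_pow, RingHom.comp_apply, map_mul, map_mul] at this
      have hz : (Ideal.span (P.rel '' {j' : Fin P.m | (j' : ℕ) < P.c})).map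
          ((algebraMap B L).comp (Ideal.Quotient.mk (Ideal.span (Set.range F)))) = ⊥ := by
        rw [← le_bot_iff, Ideal.map_le_iff_le_comap, Ideal.span_le]
        rintro _ ⟨i, hi, rfl⟩
        show algebraMap B L (Ideal.Quotient.mk _ (P.rel i)) ∈ (⊥ : Ideal L)
        rw [Ideal.mem_bot, show Ideal.Quotient.mk (Ideal.span (Set.range F)) (P.rel i) = 0 from
          Ideal.Quotient.eq_zero_iff_mem.mpr (Ideal.subset_span ⟨⟨i, hi⟩, rfl⟩), map_zero]
      rw [hz, bot_sup_eq] at this
      rw [← pow_two]
      exact (Ideal.unit_mul_mem_iff_mem _ hbu).mp this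
  have hfg : I.FG := by
    refine Ideal.FG.map ⟨Finset.univ.image P.rel, ?_⟩ _
    rw [Finset.coe_image, Finset.coe_univ, Set.image_univ]
  obtain ⟨e, he, hIe⟩ := (Ideal.isIdempotentElem_iff_of_fg I hfg).mp hidem
  letI : Algebra L Aa := f.toAlgebra
  haveI : IsScalarTower R L Aa := IsScalarTower.of_algebraMap_eq fun r => (f.commutes r).symm
  haveI : IsLocalization.Away (1 - e) Aa := by
    refine IsLocalization.away_of_isIdempotentElem he.one_sub ?_ hsurj
    rw [sub_sub_cancel]
    show RingHom.ker f = Ideal.span {e}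
    rw [hker, hIe]
  haveI : Algebra.IsStandardSmooth L Aa := Algebra.IsStandardSmooth.localization_away (1 - e)
  exact Algebra.IsStandardSmooth.trans R L Aa

end Groth.L14.Smoothing
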