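import Groth.Agent.L14.Smoothing.Delocalize
import Groth.Agent.L14.Smoothing.DesingApply
import Groth.Agent.L14.Smoothing.Elementary
import Mathlib.RingTheory.Polynomial.Basic
import Mathlib.RingTheory.KrullDimension.Zero
import Mathlib.RingTheory.Localization.Away.Basic

/-!
Weak delocalisation and resolution at a minimal prime.
-/

set_option autoImplicit false
set_option linter.style.haveILetI false

noncomputable section

open TensorProduct

namespace Groth.L14.Smoothing.DelocWeak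

universe u

/-- A map that becomes bijective after inverting an element transfers smoothness. -/
theorem smooth_away_of_hom {R C D : Type u} [CommRing R] [CommRing C] [Algebra R C]
    [CommRing D] [Algebra R D] (f : C →ₐ[R] D) (e : C) (hsur : ∀ d, ∃ (k : ℕ) (c : C), f c = f e ^ k * d)
    (hker : ∀ c, f c = 0 → ∃ k : ℕ, e ^ k * c = 0) [Algebra.Smooth R (Localization.Away (f e))] :
    Algebra.Smooth R (Localization.Away e) := by
  let L := Localization.Away (f e)
  have hu : IsUnit ((algebraMap D L) (f e)) := IsLocalization.Away.algebraMap_isUnit (f e)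
  have hpow : ∀ y : Submonoid.powers e, IsUnit (((IsScalarTower.toAlgHom R D L).comp f) y) := by
    rintro ⟨_, k, rfl⟩
    show IsUnit (algebraMap D L (f (e ^ k)))
    rw [map_pow, map_pow]
    exact hu.pow k
  let F : Localization.Away e →ₐ[R] L := IsLocalization.liftAlgHom (M := Submonoid.powers e) hpow
  have hF : ∀ c, F (algebraMap C _ c) = algebraMap D L (f c) := fun c => by
    show IsLocalization.liftAlgHom hpow (algebraMap C _ c) = _
    rw [IsLocalization.liftAlgHom_apply, IsLocalization.lift_eq]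
    rfl
  have hbij : Function.Bijective F := by
    refine ⟨(injective_iff_map_eq_zero _).mpr fun x hx => ?_, fun y => ?_⟩
    · obtain ⟨⟨c, s⟩, hc⟩ := IsLocalization.surj (Submonoid.powers e) x
      have h0 : algebraMap D L (f c) = 0 := by rw [← hF, ← hc, map_mul, hx, zero_mul]
      obtain ⟨⟨_, k, rfl⟩, hk⟩ := (IsLocalization.map_eq_zero_iff (Submonoid.powers (f e)) L _).mp h0
      obtain ⟨j, hj⟩ := hker (e ^ k * c) (by rw [map_mul, map_pow]; exact hk)
      have h1 : algebraMap C (Localization.Away e) c = 0 := by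
        refine (IsLocalization.map_eq_zero_iff (Submonoid.powers e) _ _).mpr ⟨⟨e ^ (j + k), j + k, rfl⟩, ?_⟩
        show e ^ (j + k) * c = 0
        rw [pow_add, mul_assoc, hj]
      exact (IsLocalization.map_units (Localization.Away e) s).mul_left_eq_zero.mp (hc.trans h1)
    · obtain ⟨n, d, hd⟩ := IsLocalization.Away.surj (f e) y
      obtain ⟨k, c, hc⟩ := hsur d
      refine ⟨algebraMap C _ c * IsLocalization.Away.invSelf e ^ (k + n), ?_⟩
      have hi : algebraMap D L (f e) * F (IsLocalization.Away.invSelf e) = 1 := by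
        rw [← hF, ← map_mul, IsLocalization.Away.mul_invSelf, map_one]
      rw [map_mul, hF, map_pow, hc, map_mul, map_pow, ← hd,
        show algebraMap D L (f e) ^ k * (y * algebraMap D L (f e) ^ n) * F (IsLocalization.Away.invSelf e) ^ (k + n) =
          y * (algebraMap D L (f e) * F (IsLocalization.Away.invSelf e)) ^ (k + n) by ring, hi, one_pow, mul_one]
  exact Algebra.Smooth.of_equiv (AlgEquiv.ofBijective F hbij).symm

/-- Smoothness of a basic open of a smooth algebra over a smooth basic open. -/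
theorem smooth_away_comp {R C D : Type u} [CommRing R] [CommRing C] [Algebra R C] [CommRing D] [Algebra R D]
    [Algebra C D] [IsScalarTower R C D] [Algebra.Smooth C D] [Algebra.FinitePresentation R C] (c : C) (d : D)
    [Algebra.Smooth R (Localization.Away c)] :
    Algebra.Smooth R (Localization.Away (algebraMap C D c * d)) := by
  let Cc := Localization.Away c
  let L := Localization.Away (algebraMap C D c * d)
  haveI : Algebra.FinitePresentation D L := IsLocalization.Away.finitePresentation (algebraMap C D c * d)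
  haveI : Algebra.FormallySmooth D L :=
    Algebra.FormallySmooth.of_isLocalization (Submonoid.powers (algebraMap C D c * d))
  haveI : Algebra.FormallySmooth C L := Algebra.FormallySmooth.comp C D L
  letI : Algebra Cc L := (IsLocalization.Away.lift (g := algebraMap C L) c (by
    have h := IsLocalization.Away.algebraMap_isUnit (S := L) (algebraMap C D c * d)
    rw [map_mul, ← IsScalarTower.algebraMap_apply] at h
    exact isUnit_of_mul_isUnit_left h) : Cc →+* L).toAlgebra
  haveI : IsScalarTower C Cc L := IsScalarTower.of_algebraMap_eq fun x => by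
    rw [RingHom.algebraMap_toAlgebra, IsLocalization.Away.lift_eq]
  haveI : IsScalarTower R Cc L := IsScalarTower.of_algebraMap_eq fun r => by
    rw [IsScalarTower.algebraMap_apply R C Cc, ← IsScalarTower.algebraMap_apply C Cc L,
      ← IsScalarTower.algebraMap_apply R C L]
  haveI : Algebra.FormallySmooth Cc L := Algebra.FormallySmooth.localization_base (R := C) (Submonoid.powers c)
  haveI : Algebra.FormallySmooth R L := Algebra.FormallySmooth.comp R Cc L
  haveI : Algebra.FinitePresentation R D := Algebra.FinitePresentation.trans R C D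
  exact { formallySmooth := inferInstance, finitePresentation := Algebra.FinitePresentation.trans R D L }

variable {R A Λ : Type u} [CommRing R] [CommRing A] [Algebra R A] [CommRing Λ] [Algebra R Λ]

theorem factor_of_resolvable [IsNoetherianRing R] [Algebra.FinitePresentation R A] (φ : A →ₐ[R] Λ)
    (𝔮 : Ideal Λ) [𝔮.IsPrime] {Rₚ Λq : Type u} [CommRing Rₚ] [Algebra R Rₚ]
    [IsLocalization.AtPrime Rₚ (𝔮.comap (algebraMap R Λ))]
    [CommRing Λq] [Algebra Λ Λq] [IsLocalization.AtPrime Λq 𝔮] [Algebra R Λq] [IsScalarTower R Λ Λq]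
    [Algebra Rₚ Λq] [IsScalarTower R Rₚ Λq]
    (hres : _root_.Smoothing.Resolvable Rₚ
      (Algebra.TensorProduct.lift (Algebra.ofId Rₚ Λq) ((IsScalarTower.toAlgHom R Λ Λq).comp φ)
        (fun _ _ => Commute.all _ _) : Rₚ ⊗[R] A →ₐ[Rₚ] Λq) (𝔮.map (algebraMap Λ Λq))) :
    ∃ (B : Type u) (_ : CommRing B) (_ : Algebra R B) (s : Λ) (α : A →ₐ[R] B)
      (β : B →ₐ[R] Localization.Away s), s ∉ 𝔮 ∧ β.comp α = (IsScalarTower.toAlgHom R Λ _).comp φ ∧
        ∃ t : R, algebraMap R Λ t ∉ 𝔮 ∧ Algebra.FinitePresentation R B ∧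
          Algebra.IsStandardSmooth R (Localization.Away (algebraMap R B t)) := by
  classical
  obtain ⟨C, _, _, hC, g', h', hgh, -, hnot⟩ := hres
  haveI := hC
  haveI : IsLocalRing Λq := IsLocalization.AtPrime.isLocalRing Λq 𝔮
  have hm : 𝔮.map (algebraMap Λ Λq) = IsLocalRing.maximalIdeal Λq := IsLocalization.AtPrime.map_eq_maximalIdeal 𝔮 Λq
  haveI : (𝔮.map (algebraMap Λ Λq)).IsPrime := by rw [hm]; infer_instance
  obtain ⟨c, hc, hcu⟩ : ∃ c ∈ _root_.Smoothing.singularIdeal Rₚ C, IsUnit (h' c) := by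
    by_contra hno
    refine hnot ((Ideal.IsPrime.radical_le_iff inferInstance).mpr (Ideal.map_le_iff_le_comap.mpr fun c hc => ?_))
    rw [Ideal.mem_comap, hm, IsLocalRing.mem_maximalIdeal]
    exact fun hu => hno ⟨c, hc, hu⟩
  haveI := Desing.smooth_away_of_mem_singularIdeal hc
  let S' := Localization.Away c
  let h₁ : S' →ₐ[Rₚ] Λq := IsLocalization.liftAlgHom (M := Submonoid.powers c) (f := h') fun ⟨_, k, hk⟩ => by
    subst hk
    show IsUnit (h' (c ^ k))
    rw [map_pow]
    exact hcu.pow k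
  have hh₁ : ∀ x, h₁ (algebraMap C S' x) = h' x := fun x => by
    show IsLocalization.liftAlgHom _ (algebraMap C S' x) = _
    rw [IsLocalization.liftAlgHom_apply, IsLocalization.lift_eq]
    rfl
  let g₁ : Rₚ ⊗[R] A →ₐ[Rₚ] S' := (IsScalarTower.toAlgHom Rₚ C S').comp g'
  have hg₁ : ∀ a : A, h₁ (g₁ (1 ⊗ₜ[R] a)) = algebraMap Λ Λq (φ a) := fun a => by
    show h₁ (algebraMap C S' (g' (1 ⊗ₜ[R] a))) = _
    rw [hh₁, show h' (g' (1 ⊗ₜ[R] a)) = _ from AlgHom.congr_fun hgh (1 ⊗ₜ[R] a), Algebra.TensorProduct.lift_tmul,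
      map_one, one_mul]
    rfl
  obtain ⟨n, θ, hθ, sf, hsf⟩ := (inferInstance : Algebra.FinitePresentation Rₚ S').out
  obtain ⟨m, ψ, hψ, -⟩ := ‹Algebra.FinitePresentation R A›.out
  choose l d hld using fun i : Fin n => IsLocalization.exists_mk'_eq 𝔮.primeCompl (h₁ (θ (MvPolynomial.X i)))
  let s₁ : Λ := ∏ i, (d i : Λ)
  have hs₁ : s₁ ∉ 𝔮 := fun h => by
    obtain ⟨i, -, hi⟩ := (Ideal.IsPrime.prod_mem_iff (p := 𝔮)).mp h
    exact (d i).2 hi
  let Λ₁ := Localization.Away s₁
  let κ₁ : Λ₁ →ₐ[R] Λq := IsLocalization.liftAlgHom (M := Submonoid.powers s₁) (f := IsScalarTower.toAlgHom R Λ Λq)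
    fun ⟨_, k, hk⟩ => by
      subst hk
      show IsUnit (algebraMap Λ Λq (s₁ ^ k))
      rw [map_pow]
      exact (IsLocalization.map_units Λq (⟨s₁, hs₁⟩ : 𝔮.primeCompl)).pow k
  have hκ₁ : ∀ x, κ₁ (algebraMap Λ Λ₁ x) = algebraMap Λ Λq x := fun x => by
    show IsLocalization.liftAlgHom _ (algebraMap Λ Λ₁ x) = _
    rw [IsLocalization.liftAlgHom_apply, IsLocalization.lift_eq]
    rfl
  let μ₁ : Rₚ ⊗[R] Λ₁ →ₐ[Rₚ] Λq := Algebra.TensorProduct.lift (Algebra.ofId Rₚ Λq) κ₁ fun _ _ => Commute.all _ _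
  have hex : ∀ i, ∃ z : Rₚ ⊗[R] Λ₁, μ₁ z = h₁ (θ (MvPolynomial.X i)) := fun i => by
    obtain ⟨e, he⟩ : (d i : Λ) ∣ s₁ := Finset.dvd_prod_of_mem (fun i => (d i : Λ)) (Finset.mem_univ i)
    refine ⟨(1 : Rₚ) ⊗ₜ[R] (algebraMap Λ Λ₁ (l i * e) * IsLocalization.Away.invSelf s₁), ?_⟩
    have hi : algebraMap Λ Λq (s₁) * κ₁ (IsLocalization.Away.invSelf s₁) = 1 := by
      rw [← hκ₁, ← map_mul, IsLocalization.Away.mul_invSelf, map_one]
    have hμ : μ₁ ((1 : Rₚ) ⊗ₜ[R] (algebraMap Λ Λ₁ (l i * e) * IsLocalization.Away.invSelf s₁)) =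
        algebraMap Λ Λq (l i * e) * κ₁ (IsLocalization.Away.invSelf s₁) := by
      rw [Algebra.TensorProduct.lift_tmul, map_one, one_mul, map_mul, hκ₁]
    rw [hμ, ← hld i, map_mul]
    refine (IsLocalization.map_units Λq (d i)).mul_left_cancel ?_
    rw [mul_comm (algebraMap Λ Λq (d i : Λ)) (IsLocalization.mk' Λq (l i) (d i)), IsLocalization.mk'_spec]
    have he2 : algebraMap Λ Λq s₁ = algebraMap Λ Λq (d i : Λ) * algebraMap Λ Λq e := by
      rw [← map_mul]; exact congrArg _ he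
    rw [he2] at hi
    linear_combination (algebraMap Λ Λq (l i)) * hi
  choose z hz using hex
  let σ : MvPolynomial (Fin n) Rₚ →ₐ[Rₚ] Rₚ ⊗[R] Λ₁ := MvPolynomial.aeval z
  have hσ : ∀ p, μ₁ (σ p) = h₁ (θ p) := fun p =>
    AlgHom.congr_fun (MvPolynomial.algHom_ext (f := μ₁.comp σ) (g := h₁.comp θ) fun i => by simp [σ, hz]) p
  have hkill : ∀ w : Rₚ ⊗[R] Λ₁, μ₁ w = 0 → ∃ s' ∉ 𝔮, ((1 : Rₚ) ⊗ₜ[R] algebraMap Λ Λ₁ s') * w = 0 := by
    intro w hw
    obtain ⟨u, hu, x, hx⟩ := Delocalize.exists_smul_eq_one_tmul (𝔮.comap (algebraMap R Λ)).primeCompl w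
    obtain ⟨k, x₀, hx₀⟩ := IsLocalization.Away.surj s₁ x
    have h0 : algebraMap Λ Λq x₀ = 0 := by
      have h1 : κ₁ x = 0 := by
        have h2 := congrArg μ₁ hx
        rw [map_smul, hw, smul_zero, Algebra.TensorProduct.lift_tmul, map_one, one_mul] at h2
        exact h2.symm
      rw [← hκ₁, ← hx₀, map_mul, h1, zero_mul]
    obtain ⟨⟨s', hs'⟩, h3⟩ := (IsLocalization.map_eq_zero_iff 𝔮.primeCompl Λq x₀).mp h0
    refine ⟨s', hs', ?_⟩
    have h4 : algebraMap Λ Λ₁ s' * x = 0 := by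
      refine ((IsLocalization.Away.algebraMap_isUnit s₁).pow k).mul_left_eq_zero.mp ?_
      rw [mul_assoc, hx₀, ← map_mul]
      exact (congrArg (algebraMap Λ Λ₁) h3).trans (map_zero _)
    have h5 : algebraMap R Rₚ u • (((1 : Rₚ) ⊗ₜ[R] algebraMap Λ Λ₁ s') * w) = 0 := by
      rw [← mul_smul_comm, hx, Algebra.TensorProduct.tmul_mul_tmul, one_mul, h4, tmul_zero]
    exact ((IsLocalization.map_units Rₚ (⟨u, hu⟩ : (𝔮.comap (algebraMap R Λ)).primeCompl)).smul_eq_zero).mp h5
  have hrel : ∀ f ∈ sf, μ₁ (σ f) = 0 := fun f hf => by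
    have : f ∈ RingHom.ker θ.toRingHom := hsf ▸ Ideal.subset_span hf
    rw [hσ, show θ f = 0 from this, map_zero]
  choose p hp using fun j : Fin m => hθ (g₁ (1 ⊗ₜ[R] ψ (MvPolynomial.X j)))
  let wA : Fin m → Rₚ ⊗[R] Λ₁ := fun j => σ (p j) - (1 : Rₚ) ⊗ₜ[R] algebraMap Λ Λ₁ (φ (ψ (MvPolynomial.X j)))
  have hwA : ∀ j, μ₁ (wA j) = 0 := fun j => by
    rw [map_sub, hσ, hp, hg₁, Algebra.TensorProduct.lift_tmul, map_one, one_mul, hκ₁, sub_self]
  choose k₁ hk₁ hk₁' using fun f : sf => hkill (σ f) (hrel f f.2)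
  choose k₂ hk₂ hk₂' using fun j : Fin m => hkill (wA j) (hwA j)
  let s₂ : Λ := (∏ f, k₁ f) * ∏ j, k₂ j
  have hs₂ : s₂ ∉ 𝔮 := fun h => by
    rcases (inferInstance : 𝔮.IsPrime).mem_or_mem h with h | h
    · obtain ⟨f, -, hf⟩ := (Ideal.IsPrime.prod_mem_iff (p := 𝔮)).mp h
      exact hk₁ f hf
    · obtain ⟨j, -, hj⟩ := (Ideal.IsPrime.prod_mem_iff (p := 𝔮)).mp h
      exact hk₂ j hj
  let Λ₂ := Localization.Away (s₁ * s₂)
  have hu₁ : IsUnit (algebraMap Λ Λ₂ s₁) ∧ IsUnit (algebraMap Λ Λ₂ s₂) := by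
    have h := IsLocalization.Away.algebraMap_isUnit (S := Λ₂) (s₁ * s₂)
    rw [map_mul] at h
    exact ⟨isUnit_of_mul_isUnit_left h, isUnit_of_mul_isUnit_right h⟩
  let a₁₂ : Λ₁ →ₐ[R] Λ₂ := IsLocalization.liftAlgHom (M := Submonoid.powers s₁) (f := IsScalarTower.toAlgHom R Λ Λ₂)
    fun ⟨_, k, hk⟩ => by
      subst hk
      show IsUnit (algebraMap Λ Λ₂ (s₁ ^ k))
      rw [map_pow]
      exact hu₁.1.pow k
  have ha₁₂ : ∀ x, a₁₂ (algebraMap Λ Λ₁ x) = algebraMap Λ Λ₂ x := fun x => by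
    show IsLocalization.liftAlgHom _ (algebraMap Λ Λ₁ x) = _
    rw [IsLocalization.liftAlgHom_apply, IsLocalization.lift_eq]
    rfl
  let τ : Rₚ ⊗[R] Λ₁ →ₐ[Rₚ] Rₚ ⊗[R] Λ₂ := Algebra.TensorProduct.map (AlgHom.id Rₚ Rₚ) a₁₂
  have hτ : ∀ (w : Rₚ ⊗[R] Λ₁) (k : Λ), IsUnit (algebraMap Λ Λ₂ k) →
      ((1 : Rₚ) ⊗ₜ[R] algebraMap Λ Λ₁ k) * w = 0 → τ w = 0 := fun w k hk hw => by
    have h1 := congrArg τ hw
    rw [map_mul, map_zero, show τ ((1 : Rₚ) ⊗ₜ[R] algebraMap Λ Λ₁ k) =
      Algebra.TensorProduct.includeRight (algebraMap Λ Λ₂ k) by simp [τ, ha₁₂]] at h1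
    exact (hk.map (Algebra.TensorProduct.includeRight (R := R) (A := Rₚ))).mul_right_eq_zero.mp h1
  have hdvd₁ : ∀ f, IsUnit (algebraMap Λ Λ₂ (k₁ f)) := fun f => isUnit_of_dvd_unit
    ((algebraMap Λ Λ₂).map_dvd (Dvd.dvd.mul_right (Finset.dvd_prod_of_mem k₁ (Finset.mem_univ f)) _)) hu₁.2
  have hdvd₂ : ∀ j, IsUnit (algebraMap Λ Λ₂ (k₂ j)) := fun j => isUnit_of_dvd_unit
    ((algebraMap Λ Λ₂).map_dvd (Dvd.dvd.mul_left (Finset.dvd_prod_of_mem k₂ (Finset.mem_univ j)) _)) hu₁.2
  have hker : ∀ x ∈ RingHom.ker θ, (τ.comp σ) x = 0 := fun x hx => by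
    have hx' : x ∈ Ideal.span (sf : Set (MvPolynomial (Fin n) Rₚ)) := hsf.symm ▸ hx
    exact (Ideal.span_le (I := RingHom.ker (τ.comp σ))).mpr
      (fun f hf => hτ _ _ (hdvd₁ ⟨f, hf⟩) (hk₁' ⟨f, hf⟩)) hx'
  let h₂ : S' →ₐ[Rₚ] Rₚ ⊗[R] Λ₂ :=
    (Ideal.Quotient.liftₐ _ (τ.comp σ) hker).comp (Ideal.quotientKerAlgEquivOfSurjective hθ).symm.toAlgHom
  have hh₂ : ∀ x, h₂ (θ x) = τ (σ x) := fun x => by
    have he : (Ideal.quotientKerAlgEquivOfSurjective hθ).symm (θ x) = Ideal.Quotient.mk _ x := by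
      rw [AlgEquiv.symm_apply_eq]; rfl
    simp only [h₂, AlgHom.comp_apply, AlgEquiv.coe_toAlgHom, he]
    rfl
  have hgh₂ : h₂.comp g₁ =
      Algebra.TensorProduct.map (AlgHom.id Rₚ Rₚ) ((IsScalarTower.toAlgHom R Λ Λ₂).comp φ) := by
    refine Algebra.TensorProduct.ext (Subsingleton.elim _ _) ?_
    refine AlgHom.ext fun a => ?_
    obtain ⟨q, rfl⟩ := hψ a
    have : (((h₂.comp g₁).restrictScalars R).comp Algebra.TensorProduct.includeRight).comp ψ =
        (((Algebra.TensorProduct.map (AlgHom.id Rₚ Rₚ) ((IsScalarTower.toAlgHom R Λ Λ₂).comp φ)).restrictScalars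
          R).comp Algebra.TensorProduct.includeRight).comp ψ := by
      refine MvPolynomial.algHom_ext fun j => ?_
      show h₂ (g₁ (1 ⊗ₜ[R] ψ (MvPolynomial.X j))) = _
      rw [← hp, hh₂]
      have h := hτ _ _ (hdvd₂ j) (hk₂' j)
      rw [map_sub, sub_eq_zero] at h
      rw [h]
      show τ ((1 : Rₚ) ⊗ₜ[R] algebraMap Λ Λ₁ (φ (ψ (MvPolynomial.X j)))) = _
      simp [τ, ha₁₂]
    exact AlgHom.congr_fun this q
  letI : Algebra R S' := ((algebraMap Rₚ S').comp (algebraMap R Rₚ)).toAlgebra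
  haveI : IsScalarTower R Rₚ S' := IsScalarTower.of_algebraMap_eq' rfl
  obtain ⟨B, _, _, α, β, hβα, t, ht, hel⟩ := Delocalize.delocalize (Λ := Λ₂) (B' := S')
    (𝔮.comap (algebraMap R Λ)).primeCompl ((IsScalarTower.toAlgHom R Λ Λ₂).comp φ) g₁ h₂ hgh₂
  refine ⟨B, inferInstance, inferInstance, s₁ * s₂, α, β,
    fun h => ((inferInstance : 𝔮.IsPrime).mem_or_mem h).elim hs₁ hs₂, hβα, t, ht, ?_,
    isStandardSmooth_of_elementary _ hel⟩
  obtain ⟨P, -, -⟩ := hel
  exact finitePresentation_of_marked P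

theorem exists_not_le [IsNoetherianRing R] [Algebra.FinitePresentation R A] (φ : A →ₐ[R] Λ)
    (𝔮 : Ideal Λ) [𝔮.IsPrime] {Rₚ Λq : Type u} [CommRing Rₚ] [Algebra R Rₚ]
    [IsLocalization.AtPrime Rₚ (𝔮.comap (algebraMap R Λ))]
    [CommRing Λq] [Algebra Λ Λq] [IsLocalization.AtPrime Λq 𝔮] [Algebra R Λq] [IsScalarTower R Λ Λq]
    [Algebra Rₚ Λq] [IsScalarTower R Rₚ Λq]
    (hres : _root_.Smoothing.Resolvable Rₚ
      (Algebra.TensorProduct.lift (Algebra.ofId Rₚ Λq) ((IsScalarTower.toAlgHom R Λ Λq).comp φ)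
        (fun _ _ => Commute.all _ _) : Rₚ ⊗[R] A →ₐ[Rₚ] Λq) (𝔮.map (algebraMap Λ Λq))) :
    ∃ (C : Type u) (_ : CommRing C) (_ : Algebra R C), Algebra.FinitePresentation R C ∧
      ∃ (g : A →ₐ[R] C) (h : C →ₐ[R] Λ), h.comp g = φ ∧
        ¬ (_root_.Smoothing.singularIdeal R C).map h ≤ 𝔮 := by
  classical
  obtain ⟨B, _, _, s, α, β, hs, hβα, t, ht, hB, hst⟩ := factor_of_resolvable φ 𝔮 hres
  haveI := hB
  haveI := hst
  haveI : Algebra.Smooth R (Localization.Away (algebraMap R B t)) := inferInstance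
  haveI : IsNoetherianRing A := Algebra.FiniteType.isNoetherianRing R A
  obtain ⟨n, ξ, hξ, -⟩ := ‹Algebra.FinitePresentation R B›.out
  choose e l hl using fun i : Fin n => IsLocalization.Away.surj s (β (ξ (MvPolynomial.X i)))
  let N := Finset.univ.sum e
  let l' : Fin n → Λ := fun i => l i * s ^ (N - e i)
  have hl' : ∀ i, algebraMap Λ (Localization.Away s) (l' i) =
      β (ξ (MvPolynomial.X i)) * algebraMap Λ (Localization.Away s) s ^ N := fun i => by
    rw [map_mul, map_pow, ← hl, mul_assoc, ← pow_add,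
      Nat.add_sub_cancel' (Finset.single_le_sum (fun j _ => Nat.zero_le (e j)) (Finset.mem_univ i))]
  let BY := Localization.Away (Polynomial.X : Polynomial B)
  haveI : Algebra.Smooth B (Polynomial B) := { }
  haveI : Algebra.Smooth B BY :=
    haveI : Algebra.Smooth (Polynomial B) BY := Algebra.Smooth.of_isLocalization_Away Polynomial.X
    Algebra.Smooth.comp B (Polynomial B) BY
  let Y : BY := algebraMap (Polynomial B) BY Polynomial.X
  have hYu : IsUnit Y := IsLocalization.Away.algebraMap_isUnit (S := BY) (Polynomial.X : Polynomial B)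
  let P := MvPolynomial (Option (Fin n)) A
  let Θ : P →ₐ[R] BY := MvPolynomial.aevalTower ((IsScalarTower.toAlgHom R B BY).comp α)
    fun o => o.elim Y fun i => Y ^ N * algebraMap B BY (ξ (MvPolynomial.X i))
  let ev : P →ₐ[R] Λ := MvPolynomial.aevalTower φ fun o => o.elim s l'
  let κ : BY →+* Localization.Away s := IsLocalization.Away.lift
    (g := Polynomial.eval₂RingHom β.toRingHom (algebraMap Λ (Localization.Away s) s)) (Polynomial.X : Polynomial B) (by
      rw [Polynomial.coe_eval₂RingHom, Polynomial.eval₂_X]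
      exact IsLocalization.Away.algebraMap_isUnit s)
  have hκY : κ Y = algebraMap Λ _ s := by
    show IsLocalization.Away.lift _ _ (algebraMap (Polynomial B) BY Polynomial.X) = _
    rw [IsLocalization.Away.lift_eq, Polynomial.coe_eval₂RingHom, Polynomial.eval₂_X]
  have hκB : ∀ b, κ (algebraMap B BY b) = β b := fun b => by
    rw [IsScalarTower.algebraMap_apply B (Polynomial B) BY, Polynomial.algebraMap_eq]
    show IsLocalization.Away.lift _ _ (algebraMap (Polynomial B) BY (Polynomial.C b)) = _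
    rw [IsLocalization.Away.lift_eq, Polynomial.coe_eval₂RingHom, Polynomial.eval₂_C]
    rfl
  have hκΘ : ∀ p, κ (Θ p) = algebraMap Λ _ (ev p) := by
    intro p
    induction p using MvPolynomial.induction_on with
    | C a =>
      rw [show Θ (MvPolynomial.C a) = algebraMap B BY (α a) from MvPolynomial.aevalTower_C _ _ _,
        show ev (MvPolynomial.C a) = φ a from MvPolynomial.aevalTower_C _ _ _, hκB]
      exact AlgHom.congr_fun hβα a
    | add p q hp hq => simp only [map_add, hp, hq]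
    | mul_X p o hp =>
      rw [map_mul, map_mul, map_mul, map_mul, hp]
      refine congrArg (_ * ·) ?_
      rw [show Θ (MvPolynomial.X o) = _ from MvPolynomial.aevalTower_X _ _ _,
        show ev (MvPolynomial.X o) = _ from MvPolynomial.aevalTower_X _ _ _]
      rcases o with _ | i
      · exact hκY
      · show κ (Y ^ N * algebraMap B BY (ξ (MvPolynomial.X i))) = algebraMap Λ _ (l' i)
        rw [map_mul, map_pow, hκY, hκB, hl', mul_comm]
  obtain ⟨G, hG⟩ := IsNoetherian.noetherian (RingHom.ker Θ : Ideal P)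
  have hev : ∀ p ∈ RingHom.ker Θ, ∃ k : ℕ, s ^ k * ev p = 0 := fun p hp => by
    have h0 : algebraMap Λ (Localization.Away s) (ev p) = 0 := by
      rw [← hκΘ, RingHom.mem_ker.mp hp, map_zero]
    obtain ⟨⟨_, k, rfl⟩, hk⟩ := (IsLocalization.map_eq_zero_iff (Submonoid.powers s) _ _).mp h0
    exact ⟨k, hk⟩
  choose! k hk using hev
  let Yv : P := MvPolynomial.X none
  let J : Ideal P := Ideal.span ((fun p => Yv ^ k p * p) '' (G : Set P))
  have hGker : ∀ p ∈ G, p ∈ RingHom.ker Θ := fun p hp => hG ▸ Submodule.subset_span hp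
  have hJev : ∀ p ∈ J, ev p = 0 := fun p hp => by
    refine (Ideal.span_le (I := RingHom.ker ev)).mpr ?_ hp
    rintro _ ⟨p, hp, rfl⟩
    show ev (Yv ^ k p * p) = 0
    rw [map_mul, map_pow, show ev Yv = s from MvPolynomial.aevalTower_X _ _ _]
    exact hk p (hGker p hp)
  have hJΘ : ∀ p ∈ J, Θ p = 0 := fun p hp => by
    refine (Ideal.span_le (I := RingHom.ker Θ)).mpr ?_ hp
    rintro _ ⟨p, hp, rfl⟩
    exact Ideal.mul_mem_left _ _ (hGker p hp)
  let C := P ⧸ J
  haveI : Algebra.FinitePresentation R P := Algebra.FinitePresentation.trans R A P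
  haveI hCfp : Algebra.FinitePresentation R C :=
    Algebra.FinitePresentation.quotient (Submodule.fg_span (Set.Finite.image _ G.finite_toSet))
  let f : C →ₐ[R] BY := Ideal.Quotient.liftₐ J Θ hJΘ
  let h : C →ₐ[R] Λ := Ideal.Quotient.liftₐ J ev hJev
  let cY : C := Ideal.Quotient.mk J Yv * algebraMap R C t
  have hfY : f cY = algebraMap B BY (algebraMap R B t) * Y := by
    rw [map_mul, AlgHom.commutes, show f (Ideal.Quotient.mk J Yv) = Y from MvPolynomial.aevalTower_X _ _ _,
      ← IsScalarTower.algebraMap_apply, mul_comm]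
  haveI : Algebra.Smooth R (Localization.Away (f cY)) := by
    rw [hfY]
    exact smooth_away_comp (algebraMap R B t) Y
  have hsmooth : Algebra.Smooth R (Localization.Away cY) := by
    refine smooth_away_of_hom f cY (fun d => ?_) fun c hc => ?_
    · have hgen : ∀ b : B, ∃ (j : ℕ) (p : P), Θ p = Y ^ j * algebraMap B BY b := by
        intro b
        obtain ⟨q, rfl⟩ := hξ b
        induction q using MvPolynomial.induction_on with
        | C r =>
          refine ⟨0, algebraMap R P r, ?_⟩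
          rw [AlgHom.commutes, pow_zero, one_mul, show ξ (MvPolynomial.C r) = algebraMap R B r from ξ.commutes r,
            ← IsScalarTower.algebraMap_apply]
        | add a b ha hb =>
          obtain ⟨i, p, hp⟩ := ha
          obtain ⟨j, q, hq⟩ := hb
          refine ⟨i + j, Yv ^ j * p + Yv ^ i * q, ?_⟩
          simp only [map_add, map_mul, map_pow, hp, hq, show Θ Yv = Y from MvPolynomial.aevalTower_X _ _ _]
          ring
        | mul_X a i ha =>
          obtain ⟨j, p, hp⟩ := ha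
          refine ⟨j + N, p * MvPolynomial.X (some i), ?_⟩
          rw [map_mul, hp, map_mul, map_mul, show Θ (MvPolynomial.X (some i)) = _ from MvPolynomial.aevalTower_X _ _ _]
          show Y ^ j * _ * (Y ^ N * algebraMap B BY (ξ (MvPolynomial.X i))) = _
          ring
      obtain ⟨i, q, hq⟩ := IsLocalization.Away.surj (Polynomial.X : Polynomial B) d
      have hq' : ∃ (j : ℕ) (p : P), Θ p = Y ^ j * algebraMap (Polynomial B) BY q := by
        clear hq
        induction q using Polynomial.induction_on' with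
        | add a b ha hb =>
          obtain ⟨i, p, hp⟩ := ha
          obtain ⟨j, p', hp'⟩ := hb
          refine ⟨i + j, Yv ^ j * p + Yv ^ i * p', ?_⟩
          simp only [map_add, map_mul, map_pow, hp, hp', show Θ Yv = Y from MvPolynomial.aevalTower_X _ _ _]
          ring
        | monomial e b =>
          obtain ⟨j, p, hp⟩ := hgen b
          refine ⟨j, p * Yv ^ e, ?_⟩
          rw [← Polynomial.C_mul_X_pow_eq_monomial, map_mul, map_mul, map_pow, map_pow, hp,
            show Θ Yv = Y from MvPolynomial.aevalTower_X _ _ _, ← Polynomial.algebraMap_eq,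
            ← IsScalarTower.algebraMap_apply]
          ring
      obtain ⟨j, p, hp⟩ := hq'
      refine ⟨j + i, Ideal.Quotient.mk J (p * algebraMap R P t ^ (j + i)), ?_⟩
      show Θ (p * algebraMap R P t ^ (j + i)) = _
      rw [map_mul, map_pow, AlgHom.commutes, hp, ← hq, hfY, ← IsScalarTower.algebraMap_apply R B BY]
      show Y ^ j * (d * Y ^ i) * _ = _
      ring
    · obtain ⟨p, rfl⟩ := Ideal.Quotient.mk_surjective c
      have hp : p ∈ RingHom.ker Θ := hc
      refine ⟨G.sum k, ?_⟩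
      have h1 : Yv ^ G.sum k * p ∈ J := by
        rw [← hG] at hp
        refine (Submodule.span_le (p := Submodule.comap (LinearMap.mulLeft P (Yv ^ G.sum k)) J)).mpr ?_ hp
        intro q hq
        show Yv ^ G.sum k * q ∈ J
        rw [show G.sum k = (G.sum k - k q) + k q from
          (Nat.sub_add_cancel (Finset.single_le_sum (fun i _ => Nat.zero_le (k i)) hq)).symm, pow_add, mul_assoc]
        exact J.mul_mem_left _ (Ideal.subset_span ⟨q, hq, rfl⟩)
      have h2 := Ideal.Quotient.eq_zero_iff_mem.mpr h1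
      rw [map_mul, map_pow] at h2
      rw [mul_pow, mul_right_comm, h2, zero_mul]
  refine ⟨C, inferInstance, inferInstance, hCfp,
    (Ideal.Quotient.mkₐ R J).comp (IsScalarTower.toAlgHom R A P), h,
    AlgHom.ext fun a => MvPolynomial.aevalTower_C φ _ a, fun hle => ?_⟩
  have h1 := hle (Ideal.mem_map_of_mem h (Desing.mem_singularIdeal_of_smooth hsmooth))
  rw [map_mul, AlgHom.commutes, show h (Ideal.Quotient.mk J Yv) = s from MvPolynomial.aevalTower_X _ _ _] at h1
  exact ((inferInstance : 𝔮.IsPrime).mem_or_mem h1).elim hs ht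

/-- Smoothness where the deformation parameter is invertible. -/
theorem smooth_param {R A₀ C : Type u} [CommRing R] [CommRing A₀] [Algebra R A₀] [CommRing C] [Algebra R C]
    [Algebra.FinitePresentation R C] (Θ₀ : A₀ →ₐ[R] C) (hΘ₀ : Function.Surjective Θ₀) (cx : A₀)
    [Algebra.Smooth R (Localization.Away (Θ₀ cx))] :
    Algebra.Smooth R (Localization.Away (Ideal.Quotient.mk
      (Ideal.span {Polynomial.X} * (RingHom.ker Θ₀).map (Polynomial.C : A₀ →+* Polynomial A₀))
      (Polynomial.X * Polynomial.C cx))) := by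
  set J : Ideal (Polynomial A₀) :=
    Ideal.span {Polynomial.X} * (RingHom.ker Θ₀).map (Polynomial.C : A₀ →+* Polynomial A₀)
  let eY : Polynomial A₀ ⧸ J := Ideal.Quotient.mk J (Polynomial.X * Polynomial.C cx)
  let fP : Polynomial A₀ →ₐ[R] Polynomial C := Polynomial.mapAlgHom Θ₀
  have hfP : ∀ p ∈ J, fP p = 0 := fun p hp => by
    refine (Ideal.mul_le (K := (RingHom.ker fP : Ideal (Polynomial A₀)))).mpr (fun a _ b hb => ?_) hp
    refine Ideal.mul_mem_left _ a ((?_ : (RingHom.ker Θ₀).map (Polynomial.C : A₀ →+* Polynomial A₀) ≤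
      (RingHom.ker fP : Ideal (Polynomial A₀))) hb)
    refine Ideal.map_le_iff_le_comap.mpr fun x hx => ?_
    show fP (Polynomial.C x) = 0
    simp [fP, RingHom.mem_ker.mp hx]
  let f : (Polynomial A₀ ⧸ J) →ₐ[R] Polynomial C := Ideal.Quotient.liftₐ J fP hfP
  have hfe : f eY = algebraMap C (Polynomial C) (Θ₀ cx) * Polynomial.X := by
    show fP (Polynomial.X * Polynomial.C cx) = _
    rw [map_mul, mul_comm]
    exact congrArg₂ (· * ·) (Polynomial.map_C _) (Polynomial.map_X _)
  haveI : Algebra.Smooth C (Polynomial C) := { }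
  haveI : Algebra.Smooth R (Localization.Away (f eY)) := by
    rw [hfe]
    exact smooth_away_comp (Θ₀ cx) Polynomial.X
  refine smooth_away_of_hom f eY (fun d => ?_) fun b hb => ?_
  · obtain ⟨p, hp⟩ := Polynomial.map_surjective Θ₀.toRingHom hΘ₀ d
    exact ⟨0, Ideal.Quotient.mk J p, by rw [pow_zero, one_mul]; exact hp⟩
  · obtain ⟨p, rfl⟩ := Ideal.Quotient.mk_surjective b
    refine ⟨1, ?_⟩
    have hp : p ∈ (RingHom.ker Θ₀).map (Polynomial.C : A₀ →+* Polynomial A₀) := by
      refine Ideal.mem_map_C_iff.mpr fun i => ?_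
      have h0 : Polynomial.map Θ₀.toRingHom p = 0 := hb
      have h1 := congrArg (fun q => Polynomial.coeff q i) h0
      simpa [Polynomial.coeff_map] using h1
    rw [pow_one, ← map_mul, Ideal.Quotient.eq_zero_iff_mem, mul_right_comm]
    exact Ideal.mul_mem_right _ _ (Ideal.mul_mem_mul (Ideal.mem_span_singleton_self _) hp)

/-- Smoothness where an element killed by the deformation parameter is invertible. -/
theorem smooth_killed {R A₀ : Type u} [CommRing R] [CommRing A₀] [Algebra R A₀] (K : Ideal A₀) (w : A₀)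
    (hw : w ∈ K) [Algebra.Smooth R (Localization.Away w)] :
    Algebra.Smooth R (Localization.Away (Ideal.Quotient.mk
      (Ideal.span {Polynomial.X} * K.map (Polynomial.C : A₀ →+* Polynomial A₀)) (Polynomial.C w))) := by
  set J : Ideal (Polynomial A₀) := Ideal.span {Polynomial.X} * K.map (Polynomial.C : A₀ →+* Polynomial A₀)
  let f₀ : Polynomial A₀ →ₐ[R] A₀ := { Polynomial.eval₂RingHom (RingHom.id A₀) 0 with
    commutes' := fun r => by
      show Polynomial.eval₂ (RingHom.id A₀) 0 (algebraMap R (Polynomial A₀) r) = _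
      rw [IsScalarTower.algebraMap_apply R A₀ (Polynomial A₀), Polynomial.algebraMap_eq, Polynomial.eval₂_C]
      rfl }
  have hf₀ : ∀ p ∈ J, f₀ p = 0 := fun p hp => by
    refine (Ideal.mul_le (K := (RingHom.ker f₀ : Ideal (Polynomial A₀)))).mpr (fun a ha b _ => ?_) hp
    refine Ideal.mul_mem_right b _ ((Ideal.span_singleton_le_iff_mem (RingHom.ker f₀ : Ideal (Polynomial A₀))).mpr ?_ ha)
    show Polynomial.eval₂ (RingHom.id A₀) 0 Polynomial.X = 0
    rw [Polynomial.eval₂_X]
  let f : (Polynomial A₀ ⧸ J) →ₐ[R] A₀ := Ideal.Quotient.liftₐ J f₀ hf₀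
  have hfe : f (Ideal.Quotient.mk J (Polynomial.C w)) = w := Polynomial.eval₂_C _ _
  haveI : Algebra.Smooth R (Localization.Away (f (Ideal.Quotient.mk J (Polynomial.C w)))) := by
    rw [hfe]
    infer_instance
  refine smooth_away_of_hom f _ (fun d => ⟨0, Ideal.Quotient.mk J (Polynomial.C d), ?_⟩) fun b hb => ?_
  · rw [pow_zero, one_mul]
    exact Polynomial.eval₂_C _ _
  · obtain ⟨p, rfl⟩ := Ideal.Quotient.mk_surjective b
    refine ⟨1, ?_⟩
    have h0 : Polynomial.eval₂ (RingHom.id A₀) 0 p = 0 := hb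
    rw [Polynomial.eval₂_at_zero] at h0
    obtain ⟨q, hq⟩ := Polynomial.X_dvd_iff.mpr h0
    rw [pow_one, ← map_mul, Ideal.Quotient.eq_zero_iff_mem, hq, mul_left_comm, ← mul_assoc]
    exact Ideal.mul_mem_right _ _ (Ideal.mul_mem_mul (Ideal.mem_span_singleton_self _) (Ideal.mem_map_of_mem _ hw))

theorem resolvable_of_dim_zero [IsNoetherianRing R] [Algebra.FinitePresentation R A] (φ : A →ₐ[R] Λ)
    (𝔮 : Ideal Λ) [𝔮.IsPrime] (hmin : 𝔮 ∈ (_root_.Smoothing.singRad R φ).minimalPrimes)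
    {Rₚ Λq : Type u} [CommRing Rₚ] [Algebra R Rₚ]
    [IsLocalization.AtPrime Rₚ (𝔮.comap (algebraMap R Λ))]
    [CommRing Λq] [Algebra Λ Λq] [IsLocalization.AtPrime Λq 𝔮] [Algebra R Λq] [IsScalarTower R Λ Λq]
    [Algebra Rₚ Λq] [IsScalarTower R Rₚ Λq] (hdim : ringKrullDim Λq = 0)
    (hres : _root_.Smoothing.Resolvable Rₚ
      (Algebra.TensorProduct.lift (Algebra.ofId Rₚ Λq) ((IsScalarTower.toAlgHom R Λ Λq).comp φ)
        (fun _ _ => Commute.all _ _) : Rₚ ⊗[R] A →ₐ[Rₚ] Λq) (𝔮.map (algebraMap Λ Λq))) :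
    _root_.Smoothing.Resolvable R φ 𝔮 := by
  classical
  obtain ⟨C, _, _, hC, g, h, hgh, hnot⟩ := exists_not_le φ 𝔮 hres
  haveI := hC
  obtain ⟨c, hc, hcq⟩ : ∃ c ∈ _root_.Smoothing.singularIdeal R C, h c ∉ 𝔮 := by
    by_contra hno
    refine hnot (Ideal.map_le_iff_le_comap.mpr fun c hc => ?_)
    by_contra hcq
    exact hno ⟨c, hc, hcq⟩
  haveI : IsNoetherianRing A := Algebra.FiniteType.isNoetherianRing R A
  obtain ⟨m, a, ha⟩ := Submodule.fg_iff_exists_fin_generating_family.mp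
    (IsNoetherian.noetherian (_root_.Smoothing.singularIdeal R A))
  have haH : ∀ i, a i ∈ _root_.Smoothing.singularIdeal R A := fun i => ha ▸ Submodule.subset_span ⟨i, rfl⟩
  haveI : IsLocalRing Λq := IsLocalization.AtPrime.isLocalRing Λq 𝔮
  haveI : Ring.KrullDimLE 0 Λq := Ring.krullDimLE_iff.mpr (by rw [hdim]; exact le_rfl)
  have hnil : ∀ i, ∃ (N : ℕ) (lam : Λ), lam ∉ 𝔮 ∧ lam * φ (a i) ^ N = 0 := fun i => by
    have hq : φ (a i) ∈ 𝔮 := hmin.1.2 (Ideal.le_radical (Ideal.mem_map_of_mem φ (haH i)))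
    have h1 : algebraMap Λ Λq (φ (a i)) ∈ IsLocalRing.maximalIdeal Λq := by
      rw [← IsLocalization.AtPrime.map_eq_maximalIdeal 𝔮 Λq]
      exact Ideal.mem_map_of_mem _ hq
    rw [← Ring.KrullDimLE.isNilpotent_iff_mem_maximalIdeal] at h1
    obtain ⟨N, hN⟩ := h1
    rw [← map_pow] at hN
    obtain ⟨⟨lam, hlam⟩, h2⟩ := (IsLocalization.map_eq_zero_iff 𝔮.primeCompl Λq _).mp hN
    exact ⟨N, lam, hlam, h2⟩
  choose N lam hlam hlamN using hnil
  let L := ∏ i, lam i
  have hL : L ∉ 𝔮 := fun h => by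
    obtain ⟨i, -, hi⟩ := (Ideal.IsPrime.prod_mem_iff (p := 𝔮)).mp h
    exact hlam i hi
  have hLN : ∀ i, L * φ (a i) ^ N i = 0 := fun i => by
    obtain ⟨d, hd⟩ := Finset.dvd_prod_of_mem lam (Finset.mem_univ i)
    rw [show L = lam i * d from hd, mul_comm (lam i), mul_assoc, hlamN, mul_zero]
  obtain ⟨n, ξ, hξ, -⟩ := hC.out
  let A₀ := MvPolynomial (Fin n ⊕ Fin m) A
  let val : Fin n ⊕ Fin m → C := Sum.elim (fun i => ξ (MvPolynomial.X i)) fun i => -g (a i) ^ N i
  let Θ₀ : A₀ →ₐ[R] C := MvPolynomial.aevalTower g val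
  let ev₀ : A₀ →ₐ[R] Λ := MvPolynomial.aevalTower φ (Sum.elim (fun i => h (ξ (MvPolynomial.X i))) 0)
  have hΘ₀ : Function.Surjective Θ₀ := fun x => by
    obtain ⟨q, rfl⟩ := hξ x
    induction q using MvPolynomial.induction_on with
    | C r => exact ⟨algebraMap R A₀ r, by rw [AlgHom.commutes]; exact (ξ.commutes r).symm⟩
    | add p q hp hq =>
      obtain ⟨x, hx⟩ := hp; obtain ⟨y, hy⟩ := hq
      exact ⟨x + y, by rw [map_add, map_add, hx, hy]⟩
    | mul_X p i hp =>
      obtain ⟨x, hx⟩ := hp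
      exact ⟨x * MvPolynomial.X (Sum.inl i), by
        rw [map_mul, hx, map_mul, show Θ₀ (MvPolynomial.X (Sum.inl i)) = _ from MvPolynomial.aevalTower_X _ _ _]
        rfl⟩
  have hcong : ∀ p, L * ev₀ p = L * h (Θ₀ p) := by
    intro p
    induction p using MvPolynomial.induction_on with
    | C x =>
      rw [show ev₀ (MvPolynomial.C x) = φ x from MvPolynomial.aevalTower_C _ _ _,
        show Θ₀ (MvPolynomial.C x) = g x from MvPolynomial.aevalTower_C _ _ _]
      exact congrArg (L * ·) (AlgHom.congr_fun hgh x).symm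
    | add p q hp hq => simp only [map_add, mul_add, hp, hq]
    | mul_X p v hp =>
      rw [map_mul, map_mul, map_mul, ← mul_assoc, hp, mul_assoc, mul_left_comm, mul_left_comm L]
      refine congrArg (h (Θ₀ p) * ·) ?_
      rw [show ev₀ (MvPolynomial.X v) = _ from MvPolynomial.aevalTower_X _ _ _,
        show Θ₀ (MvPolynomial.X v) = _ from MvPolynomial.aevalTower_X _ _ _]
      rcases v with i | i
      · rfl
      · simp only [val, Sum.elim_inr, Pi.zero_apply, map_neg, map_pow, mul_zero, mul_neg,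
          show h (g (a i)) = φ (a i) from AlgHom.congr_fun hgh (a i)]
        rw [hLN, neg_zero]
  haveI : IsNoetherianRing A₀ := inferInstance
  let K : Ideal A₀ := RingHom.ker Θ₀
  let P := Polynomial A₀
  let J : Ideal P := Ideal.span {Polynomial.X} * K.map Polynomial.C
  have hJfg : J.FG := (Submodule.fg_span_singleton _).mul (Ideal.FG.map (IsNoetherian.noetherian K) _)
  haveI : Algebra.FinitePresentation R A₀ := Algebra.FinitePresentation.trans R A A₀
  haveI : Algebra.FinitePresentation R P := Algebra.FinitePresentation.trans R A₀ P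
  let B := P ⧸ J
  haveI hBfp : Algebra.FinitePresentation R B := Algebra.FinitePresentation.quotient hJfg
  let evP : P →ₐ[R] Λ := { Polynomial.eval₂RingHom ev₀.toRingHom L with
    commutes' := fun r => by
      show Polynomial.eval₂ ev₀.toRingHom L (algebraMap R P r) = _
      rw [IsScalarTower.algebraMap_apply R A₀ P, Polynomial.algebraMap_eq, Polynomial.eval₂_C]
      exact ev₀.commutes r }
  have hevC : ∀ x, evP (Polynomial.C x) = ev₀ x := fun x => Polynomial.eval₂_C _ _
  have hevX : evP Polynomial.X = L := Polynomial.eval₂_X _ _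
  have hJev : ∀ p ∈ J, evP p = 0 := fun p hp => by
    refine (?_ : J ≤ RingHom.ker evP) hp
    rw [Ideal.span_singleton_mul_le_iff]
    intro q hq
    refine (?_ : K.map Polynomial.C ≤ Submodule.comap (LinearMap.mulLeft P Polynomial.X) (RingHom.ker evP)) hq
    refine Ideal.map_le_iff_le_comap.mpr fun x hx => ?_
    show evP (Polynomial.X * Polynomial.C x) = 0
    rw [map_mul, hevC, hevX, hcong, RingHom.mem_ker.mp hx, map_zero, mul_zero]
  let hB : B →ₐ[R] Λ := Ideal.Quotient.liftₐ J evP hJev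
  let gB : A →ₐ[R] B := (Ideal.Quotient.mkₐ R J).comp (IsScalarTower.toAlgHom R A P)
  have hgB : hB.comp gB = φ := AlgHom.ext fun x => by
    show evP (algebraMap A P x) = φ x
    rw [IsScalarTower.algebraMap_apply A A₀ P, Polynomial.algebraMap_eq, hevC]
    exact MvPolynomial.aevalTower_C _ _ _
  have hBC : ∀ x : A₀, hB (Ideal.Quotient.mk J (Polynomial.C x)) = ev₀ x := hevC
  obtain ⟨cx, hcx⟩ := hΘ₀ c
  let eY : B := Ideal.Quotient.mk J (Polynomial.X * Polynomial.C cx)
  have heY : eY ∈ _root_.Smoothing.singularIdeal R B := by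
    haveI : Algebra.Smooth R (Localization.Away (Θ₀ cx)) := by
      rw [hcx]; exact Desing.smooth_away_of_mem_singularIdeal hc
    exact Desing.mem_singularIdeal_of_smooth (smooth_param Θ₀ hΘ₀ cx)
  let w : Fin m → A₀ := fun i =>
    MvPolynomial.C (a i) * (MvPolynomial.C (a i) ^ N i + MvPolynomial.X (Sum.inr i))
  have hew : ∀ i, Ideal.Quotient.mk J (Polynomial.C (w i)) ∈ _root_.Smoothing.singularIdeal R B := by
    intro i
    refine Desing.mem_singularIdeal_of_smooth ?_
    have hwK : w i ∈ K := by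
      refine Ideal.mul_mem_left _ _ ?_
      show Θ₀ (MvPolynomial.C (a i) ^ N i + MvPolynomial.X (Sum.inr i)) = 0
      rw [map_add, map_pow, show Θ₀ (MvPolynomial.C (a i)) = g (a i) from MvPolynomial.aevalTower_C _ _ _,
        show Θ₀ (MvPolynomial.X (Sum.inr i)) = _ from MvPolynomial.aevalTower_X _ _ _]
      exact add_neg_cancel _
    haveI := Desing.smooth_away_of_mem_singularIdeal (haH i)
    haveI : Algebra.Smooth A A₀ := { }
    haveI : Algebra.Smooth R (Localization.Away (w i)) :=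
      smooth_away_comp (a i) (MvPolynomial.C (a i) ^ N i + MvPolynomial.X (Sum.inr i))
    exact smooth_killed K (w i) hwK
  refine ⟨B, inferInstance, inferInstance, hBfp, gB, hB, hgB, ?_, fun hle => ?_⟩
  · refine (Ideal.radical_isRadical _).radical_le_iff.mpr (Ideal.map_le_iff_le_comap.mpr ?_)
    rw [← ha, Submodule.span_le]
    rintro _ ⟨i, rfl⟩
    refine Ideal.radical_isRadical _ ⟨N i + 1, ?_⟩
    refine Ideal.le_radical ?_
    have h1 := Ideal.mem_map_of_mem hB (hew i)
    rw [hBC] at h1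
    convert h1 using 1
    show φ (a i) ^ (N i + 1) = ev₀ (w i)
    rw [map_mul, map_add, map_pow, show ev₀ (MvPolynomial.C (a i)) = φ (a i) from MvPolynomial.aevalTower_C _ _ _,
      show ev₀ (MvPolynomial.X (Sum.inr i)) = _ from MvPolynomial.aevalTower_X _ _ _]
    simp [pow_succ, mul_comm]
  · have h1 : evP (Polynomial.X * Polynomial.C cx) ∈ 𝔮 := hle (Ideal.le_radical (Ideal.mem_map_of_mem hB heY))
    rw [map_mul, hevX, hevC, hcong, hcx] at h1
    exact ((inferInstance : 𝔮.IsPrime).mem_or_mem h1).elim hL hcq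

end Groth.L14.Smoothing.DelocWeak
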