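import Groth.Agent.L07.RegularQuotient
import Mathlib.RingTheory.Localization.AtPrime.Basic
import Mathlib.RingTheory.Ideal.KrullsHeightTheorem

/-!
Parameters of a regular localization with stable annihilators on successive quotients.
-/

set_option autoImplicit false
set_option linter.style.haveILetI false

noncomputable section

open IsLocalRing RingTheory.Sequence

namespace Groth.L14.Smoothing.Params

universe u

/-- If powers of all members of a list generate up to radical the maximal ideal, and the list has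
`dim R` members, then each member is a non-zero-divisor modulo the preceding ones. -/
theorem mem_of_mul_mem {R : Type u} [CommRing R] [IsRegularLocalRing R] {d : ℕ}
    (hd : ringKrullDim R = d) (x : Fin d → R) (hx : Ideal.span (Set.range x) = maximalIdeal R)
    (e : ℕ) (he : 0 < e) (i : Fin d) (y : R)
    (hy : x i * y ∈ Ideal.span (Set.range fun j : {j : Fin d // (j : ℕ) < (i : ℕ)} => x j ^ e)) :
    y ∈ Ideal.span (Set.range fun j : {j : Fin d // (j : ℕ) < (i : ℕ)} => x j ^ e) := by
  classical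
  have hxm : ∀ j, x j ∈ maximalIdeal R := fun j => hx ▸ Ideal.subset_span ⟨j, rfl⟩
  let ex : Fin d → ℕ := fun j => if j < i then e else 1
  let L : List R := List.ofFn fun j => x j ^ ex j
  have hex : ∀ j, 0 < ex j := fun j => by
    show 0 < if j < i then e else 1
    split_ifs <;> omega
  have hLm : ∀ r ∈ L, r ∈ maximalIdeal R := by
    intro r hr
    obtain ⟨j, rfl⟩ := List.mem_ofFn.mp hr
    exact Ideal.pow_mem_of_mem _ (hxm j) _ (hex j)
  have hdim : ringKrullDim (R ⧸ Ideal.ofList L) + L.length ≤ ringKrullDim R := by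
    have h0 : ringKrullDim (R ⧸ Ideal.ofList L) ≤ 0 := by
      have hmin : ∀ P : Ideal R, P.IsPrime → Ideal.ofList L ≤ P → P = maximalIdeal R := by
        intro P hP hle
        refine le_antisymm (IsLocalRing.le_maximalIdeal hP.ne_top) ?_
        rw [← hx, Ideal.span_le]
        rintro _ ⟨j, rfl⟩
        exact hP.mem_of_pow_mem _ (hle (Ideal.subset_span (List.mem_ofFn.mpr ⟨j, rfl⟩)))
      haveI : Ring.KrullDimLE 0 (R ⧸ Ideal.ofList L) := by
        refine Ring.KrullDimLE.mk₀ fun P hP => ?_
        haveI := hP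
        have h1 := hmin (P.comap (Ideal.Quotient.mk _)) inferInstance
          (fun r hr => by
            show Ideal.Quotient.mk (Ideal.ofList L) r ∈ P
            rw [Ideal.Quotient.eq_zero_iff_mem.mpr hr]; exact P.zero_mem)
        have h3 : (P.comap (Ideal.Quotient.mk (Ideal.ofList L))).IsMaximal := h1 ▸ maximalIdeal.isMaximal R
        rw [← Ideal.map_comap_of_surjective _ Ideal.Quotient.mk_surjective P]
        refine Ideal.IsMaximal.map_of_surjective_of_ker_le Ideal.Quotient.mk_surjective ?_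
        exact fun r hr => by
          show Ideal.Quotient.mk _ r ∈ P
          rw [RingHom.mem_ker.mp hr]; exact P.zero_mem
      exact Ring.krullDimLE_iff.mp inferInstance
    have hlen : L.length = d := by simp [L]
    rw [hlen, hd]
    exact (add_le_add_left h0 _).trans (le_of_eq (zero_add _))
  have hreg := Groth.L07.RegQuot.isWeaklyRegular_of_dim L hLm hdim
  have hi : (i : ℕ) < L.length := by simp [L]
  have h2 := hreg.regular_mod_prev (i : ℕ) hi
  have hget : L[(i : ℕ)] = x i := by simp [L, ex]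
  have hexlt : ∀ j : Fin d, (j : ℕ) < (i : ℕ) → ex j = e := fun j h => if_pos h
  have htake : Ideal.ofList (L.take (i : ℕ)) =
      Ideal.span (Set.range fun j : {j : Fin d // (j : ℕ) < (i : ℕ)} => x j ^ e) := by
    refine congrArg Ideal.span ?_
    ext r
    simp only [Set.mem_ofPred_eq, Set.mem_range, Subtype.exists, exists_prop]
    rw [List.mem_take_iff_getElem]
    constructor
    · rintro ⟨k, hk, rfl⟩
      have hk' : k < (i : ℕ) := (lt_min_iff.mp hk).1
      exact ⟨⟨k, hk'.trans i.2⟩, hk', by simp [L, hexlt ⟨k, hk'.trans i.2⟩ hk']⟩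
    · rintro ⟨j, hj, rfl⟩
      exact ⟨j, by simpa [L] using hj, by simp [L, hexlt j hj]⟩
  have hsub : (Ideal.ofList (L.take (i : ℕ)) • (⊤ : Submodule R R)) =
      (Ideal.span (Set.range fun j : {j : Fin d // (j : ℕ) < (i : ℕ)} => x j ^ e) : Submodule R R) := by
    rw [htake, smul_eq_mul, Ideal.mul_top]
  rw [hget] at h2
  rw [← hsub] at hy ⊢
  rw [← Submodule.Quotient.mk_eq_zero] at hy ⊢
  refine h2.right_eq_zero_of_smul ?_
  rw [← Submodule.Quotient.mk_smul, smul_eq_mul]
  exact hy

variable {Λ : Type u} [CommRing Λ] [IsNoetherianRing Λ]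

/-- Multiplying a parameter by an element outside the prime stabilizes its annihilators. -/
theorem exists_stable (q : Ideal Λ) [q.IsPrime] (K : Ideal Λ) (p : Λ)
    (hp : ∀ r : Λ, algebraMap Λ (Localization.AtPrime q) (p * r) ∈ K.map (algebraMap Λ (Localization.AtPrime q)) →
      algebraMap Λ (Localization.AtPrime q) r ∈ K.map (algebraMap Λ (Localization.AtPrime q))) :
    ∃ s : Λ, s ∉ q ∧ ∀ r : Λ, (s * p) ^ 2 * r ∈ K → s * p * r ∈ K := by
  classical
  let T : ℕ →o Ideal Λ := ⟨fun j => Submodule.comap (LinearMap.mulLeft Λ (p ^ j)) K, fun a b hab r hr => by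
    obtain ⟨c, rfl⟩ := Nat.exists_eq_add_of_le hab
    simp only [Submodule.mem_comap, LinearMap.mulLeft_apply] at hr ⊢
    rw [pow_add, mul_comm (p ^ a), mul_assoc]
    exact K.mul_mem_left _ hr⟩
  obtain ⟨k, hk⟩ := monotone_stabilizes_iff_noetherian.mpr inferInstance T
  have hloc : ∀ (j : ℕ) (r : Λ), p ^ j * r ∈ K →
      algebraMap Λ (Localization.AtPrime q) r ∈ K.map (algebraMap Λ (Localization.AtPrime q)) := by
    intro j
    induction j with
    | zero => intro r hr; exact Ideal.mem_map_of_mem _ (by simpa using hr)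
    | succ j ih => intro r hr; exact hp r (ih (p * r) (by rwa [← mul_assoc, ← pow_succ]))
  obtain ⟨g, hg⟩ := IsNoetherian.noetherian (T k)
  have hex : ∀ r ∈ g, ∃ t : Λ, t ∉ q ∧ t * r ∈ K := by
    intro r hr
    have hrk : r ∈ T k := hg ▸ Submodule.subset_span hr
    obtain ⟨t, ht, htr⟩ := (IsLocalization.algebraMap_mem_map_algebraMap_iff q.primeCompl
      (Localization.AtPrime q) K r).mp (hloc k r hrk)
    exact ⟨t, ht, htr⟩
  choose! t ht htr using hex
  let t₀ := ∏ r ∈ g, t r
  have ht₀ : t₀ ∉ q := fun h => by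
    obtain ⟨r, hr, hrq⟩ := (Ideal.IsPrime.prod_mem_iff (p := q)).mp h
    exact ht r hr hrq
  have hkill : ∀ r ∈ T k, t₀ * r ∈ K := by
    intro r hr
    rw [← hg] at hr
    refine (Submodule.span_le (p := Submodule.comap (LinearMap.mulLeft Λ t₀) K)).mpr ?_ hr
    intro r hr
    show t₀ * r ∈ K
    obtain ⟨c, hc⟩ := Finset.dvd_prod_of_mem t hr
    rw [show t₀ = t r * c from hc, mul_comm (t r), mul_assoc]
    exact K.mul_mem_left _ (htr r hr)
  let U : ℕ →o Ideal Λ := ⟨fun j => Submodule.comap (LinearMap.mulLeft Λ (t₀ ^ j)) K, fun a b hab r hr => by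
    obtain ⟨c, rfl⟩ := Nat.exists_eq_add_of_le hab
    simp only [Submodule.mem_comap, LinearMap.mulLeft_apply] at hr ⊢
    rw [pow_add, mul_comm (t₀ ^ a), mul_assoc]
    exact K.mul_mem_left _ hr⟩
  obtain ⟨a, ha⟩ := monotone_stabilizes_iff_noetherian.mpr inferInstance U
  refine ⟨t₀ ^ a, fun h => ht₀ (Ideal.IsPrime.mem_of_pow_mem inferInstance _ h), fun r hr => ?_⟩
  have h1 : t₀ ^ (2 * a) * r ∈ T (max k 2) := T.monotone (le_max_right k 2) (by
    show p ^ 2 * (t₀ ^ (2 * a) * r) ∈ K
    rwa [← mul_assoc, show p ^ 2 * t₀ ^ (2 * a) = (t₀ ^ a * p) ^ 2 by ring])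
  rw [← hk _ (le_max_left k 2)] at h1
  have h2 : r ∈ U (2 * a + 1) := by
    show t₀ ^ (2 * a + 1) * r ∈ K
    rw [pow_succ, mul_comm _ t₀, mul_assoc]
    exact hkill _ h1
  rw [← ha _ (by omega)] at h2
  rw [mul_comm (t₀ ^ a) p, mul_assoc]
  exact K.mul_mem_left _ h2

theorem exists_parameters_pow (I q : Ideal Λ) [q.IsPrime] (n e d : ℕ) (hn : 0 < n) (he : 0 < e)
    (hpow : (q ^ n).map (algebraMap Λ (Localization.AtPrime q)) ≤ I.map (algebraMap Λ (Localization.AtPrime q)))
    [IsRegularLocalRing (Localization.AtPrime q)] (hd : ringKrullDim (Localization.AtPrime q) = d) :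
    ∃ π : Fin d → Λ,
      Ideal.span (Set.range fun i => algebraMap Λ (Localization.AtPrime q) (π i)) =
        q.map (algebraMap Λ (Localization.AtPrime q)) ∧
      (∀ i, π i ^ n ∈ I) ∧
      ∀ i : Fin d, ∀ x : Λ ⧸ Ideal.span (Set.range fun j : {j : Fin d // (j : ℕ) < (i : ℕ)} => π j ^ e),
        Ideal.Quotient.mk _ (π i) ^ 2 * x = 0 → Ideal.Quotient.mk _ (π i) * x = 0 := by
  classical
  let Rq := Localization.AtPrime q
  let am := algebraMap Λ Rq
  have hm : q.map am = maximalIdeal Rq := Localization.AtPrime.map_eq_maximalIdeal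
  have hu : ∀ s : Λ, s ∉ q → IsUnit (am s) := fun s hs => IsLocalization.map_units Rq (⟨s, hs⟩ : q.primeCompl)
  obtain ⟨g, hgc, hg⟩ := Submodule.FG.exists_span_finset_card_eq_spanFinrank
    (IsNoetherian.noetherian (maximalIdeal Rq))
  have hcard : g.card = d := by
    have h := (isRegularLocalRing_iff Rq).mp inferInstance
    rw [hd, ← hgc] at h
    exact_mod_cast h
  let ι : Fin d ≃ g := (finCongr hcard.symm).trans g.equivFin.symm
  choose a ha using fun i : Fin d => IsLocalization.exists_mk'_eq q.primeCompl ((ι i : Rq))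
  have hex : ∃ s : Λ, s ∉ q ∧ ∀ x ∈ q ^ n, s * x ∈ I := by
    obtain ⟨G, hG⟩ := IsNoetherian.noetherian (q ^ n)
    have h : ∀ x ∈ G, ∃ t : Λ, t ∉ q ∧ t * x ∈ I := by
      intro x hx
      obtain ⟨t, ht, htx⟩ := (IsLocalization.algebraMap_mem_map_algebraMap_iff q.primeCompl Rq I x).mp
        (hpow (Ideal.mem_map_of_mem _ (hG ▸ Submodule.subset_span hx)))
      exact ⟨t, ht, htx⟩
    choose! t ht htx using h
    refine ⟨∏ x ∈ G, t x, fun h => ?_, fun x hx => ?_⟩
    · obtain ⟨r, hr, hrq⟩ := (Ideal.IsPrime.prod_mem_iff (p := q)).mp h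
      exact ht r hr hrq
    · rw [← hG] at hx
      refine (Submodule.span_le (p := Submodule.comap (LinearMap.mulLeft Λ (∏ x ∈ G, t x)) I)).mpr ?_ hx
      intro r hr
      show (∏ x ∈ G, t x) * r ∈ I
      obtain ⟨c, hc⟩ := Finset.dvd_prod_of_mem t hr
      rw [hc, mul_comm (t r), mul_assoc]
      exact I.mul_mem_left _ (htx r hr)
  obtain ⟨s, hs, hsI⟩ := hex
  have key : ∀ k ≤ d, ∃ π : Fin d → Λ,
      Ideal.span (Set.range fun i => am (π i)) = maximalIdeal Rq ∧ (∀ i, π i ^ n ∈ I) ∧
      ∀ i : Fin d, (i : ℕ) < k → ∀ r : Λ,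
        π i ^ 2 * r ∈ Ideal.span (Set.range fun j : {j : Fin d // (j : ℕ) < (i : ℕ)} => π j ^ e) →
        π i * r ∈ Ideal.span (Set.range fun j : {j : Fin d // (j : ℕ) < (i : ℕ)} => π j ^ e) := by
    intro k hk
    induction k with
    | zero =>
      obtain ⟨b, hb⟩ : ∃ b : Fin d → Λ, ∀ i, Associated (ι i : Rq) (am (b i)) ∧ b i ∈ q := by
        refine ⟨fun i => (a i), fun i => ?_⟩
        obtain ⟨c, hc⟩ := ha i
        have h1 : (ι i : Rq) * am c = am (a i) := by rw [← hc]; exact IsLocalization.mk'_spec _ _ _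
        refine ⟨⟨(hu c c.2).unit, h1⟩, ?_⟩
        have h2 : am (a i) ∈ maximalIdeal Rq := h1 ▸ Ideal.mul_mem_right _ _
          (hg ▸ Submodule.subset_span (ι i).2)
        exact (IsLocalization.AtPrime.to_map_mem_maximal_iff Rq q (a i)).mp h2
      refine ⟨fun i => s * b i, ?_, fun i => ?_, fun i hi => absurd hi (Nat.not_lt_zero _)⟩
      · refine le_antisymm ?_ ?_
        · rw [Ideal.span_le]
          rintro _ ⟨i, rfl⟩
          rw [SetLike.mem_coe, ← hm]
          exact Ideal.mem_map_of_mem _ (q.mul_mem_left _ (hb i).2)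
        · rw [← hg]
          refine Submodule.span_le.mpr fun z hz => ?_
          obtain ⟨u, hu'⟩ := (hb (ι.symm ⟨z, hz⟩)).1
          simp only [Equiv.apply_symm_apply] at hu'
          have hz' : z = am (s * b (ι.symm ⟨z, hz⟩)) * (↑(hu s hs).unit⁻¹ * ↑u⁻¹) := by
            rw [map_mul, ← hu', mul_mul_mul_comm, IsUnit.mul_val_inv, one_mul, mul_assoc, Units.mul_inv,
              mul_one]
          rw [SetLike.mem_coe, hz']
          exact Ideal.mul_mem_right _ _ (Ideal.subset_span ⟨_, rfl⟩)
      · obtain ⟨m, rfl⟩ : ∃ m, n = m + 1 := ⟨n - 1, by omega⟩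
        rw [mul_pow, pow_succ s, mul_assoc]
        exact I.mul_mem_left _ (hsI _ (Ideal.pow_mem_pow (hb i).2 _))
    | succ k ih =>
      obtain ⟨π, hπ, hπI, hπk⟩ := ih (by omega)
      let i₀ : Fin d := ⟨k, by omega⟩
      let K : Ideal Λ := Ideal.span (Set.range fun j : {j : Fin d // (j : ℕ) < k} => π j ^ e)
      have hK : K.map am = Ideal.span (Set.range fun j : {j : Fin d // (j : ℕ) < k} => am (π j) ^ e) := by
        rw [Ideal.map_span, ← Set.range_comp]
        simp only [Function.comp_def, map_pow]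
      obtain ⟨t, ht, hts⟩ := exists_stable q K (π i₀) fun r hr => by
        rw [map_mul, hK] at hr
        rw [hK]
        exact mem_of_mul_mem hd (fun i => am (π i)) hπ e he i₀ _ hr
      have hupd : ∀ j : Fin d, (j : ℕ) < k → Function.update π i₀ (t * π i₀) j = π j := fun j hj =>
        Function.update_of_ne (fun h => by simp [h, i₀] at hj) _ _
      refine ⟨Function.update π i₀ (t * π i₀), ?_, fun i => ?_, fun i hi r => ?_⟩
      · rw [← hπ]
        refine le_antisymm (Ideal.span_le.mpr ?_) (Ideal.span_le.mpr ?_) <;> rintro _ ⟨j, rfl⟩ <;>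
          by_cases h : j = i₀
        · subst h
          simp only [Function.update_self, map_mul]
          exact Ideal.mul_mem_left _ _ (Ideal.subset_span ⟨_, rfl⟩)
        · simp only [Function.update_of_ne h]
          exact Ideal.subset_span ⟨_, rfl⟩
        · subst h
          have h1 : am (t * π i₀) * ↑(hu t ht).unit⁻¹ = am (π i₀) := by
            rw [map_mul, mul_comm (am t), mul_assoc, IsUnit.mul_val_inv, mul_one]
          show am (π i₀) ∈ _
          rw [← h1]
          exact Ideal.mul_mem_right _ _ (Ideal.subset_span ⟨i₀, by simp⟩)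
        · exact Ideal.subset_span ⟨j, by simp [h]⟩
      · by_cases h : i = i₀
        · subst h
          rw [Function.update_self, mul_pow]
          exact I.mul_mem_left _ (hπI _)
        · rw [Function.update_of_ne h]; exact hπI _
      · have hspan : (fun j : {j : Fin d // (j : ℕ) < (i : ℕ)} => Function.update π i₀ (t * π i₀) j ^ e) =
            fun j : {j : Fin d // (j : ℕ) < (i : ℕ)} => π j ^ e :=
          funext fun j => by rw [hupd j (lt_of_lt_of_le j.2 (Nat.lt_succ_iff.mp hi))]
        rw [hspan]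
        rcases Nat.lt_succ_iff_lt_or_eq.mp hi with hik | hik
        · rw [hupd i hik]; exact hπk i hik r
        · have hii : i = i₀ := Fin.ext hik
          subst hii
          rw [Function.update_self]
          exact hts r
  obtain ⟨π, hπ, hπI, hπd⟩ := key d le_rfl
  refine ⟨π, hπ.trans hm.symm, hπI, fun i x hx => ?_⟩
  obtain ⟨r, rfl⟩ := Ideal.Quotient.mk_surjective x
  rw [← map_pow, ← map_mul, Ideal.Quotient.eq_zero_iff_mem] at hx
  rw [← map_mul, Ideal.Quotient.eq_zero_iff_mem]
  exact hπd i i.2 r hx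

theorem exists_parameters (I q : Ideal Λ) [q.IsPrime] (n e d : ℕ) (hn : 0 < n) (he : 0 < e)
    (hpow : (q ^ n).map (algebraMap Λ (Localization.AtPrime q)) ≤ I.map (algebraMap Λ (Localization.AtPrime q)))
    [IsRegularLocalRing (Localization.AtPrime q)] (hd : ringKrullDim (Localization.AtPrime q) = d) :
    ∃ (N : ℕ) (π : Fin d → Λ), 0 < N ∧
      Ideal.span (Set.range fun i => algebraMap Λ (Localization.AtPrime q) (π i)) =
        q.map (algebraMap Λ (Localization.AtPrime q)) ∧
      (∀ i, π i ^ N ∈ I) ∧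
      ∀ i : Fin d, ∀ x : Λ ⧸ Ideal.span (Set.range fun j : {j : Fin d // (j : ℕ) < (i : ℕ)} => π j ^ e),
        Ideal.Quotient.mk _ (π i) ^ 2 * x = 0 → Ideal.Quotient.mk _ (π i) * x = 0 := by
  obtain ⟨π, h1, h2, h3⟩ := exists_parameters_pow I q n e d hn he hpow hd
  exact ⟨n, π, hn, h1, h2, h3⟩

end Groth.L14.Smoothing.Params
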