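import Groth.Agent.L14.Smoothing.RegFlat
import Groth.Agent.L14.Smoothing.NilpotentDeform
import Groth.Agent.L06.FormSmoothField2
import Groth.Agent.L06.DiffCotBase
import Groth.Prelude.Def_Smoothing
import Mathlib.RingTheory.Smooth.Locus
import Mathlib.RingTheory.Localization.AtPrime.Basic
import Mathlib.RingTheory.RegularLocalRing.Polynomial

/-!
Regular parameters with separable residue field: flatness and ind-smoothness over `k[X]/(X^e)`.
-/

set_option autoImplicit false
set_option linter.style.haveILetI false

noncomputable section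

open MvPolynomial IsLocalRing TensorProduct

namespace Groth.L14.Smoothing.Sep

universe u

/-- A separable field extension is ind-smooth. -/
theorem indSmooth_field (k K : Type u) [Field k] [Field K] [Algebra k K] [Algebra.IsGeometricallyReduced k K] :
    _root_.Smoothing.IndSmooth k K := by
  intro A _ _ hA f
  haveI := hA
  let A₁ := f.range
  haveI : Algebra.FiniteType k A₁ := Algebra.FiniteType.of_surjective f.rangeRestrict f.rangeRestrict_surjective
  haveI : Algebra.FinitePresentation k A₁ := Algebra.FinitePresentation.of_finiteType.mp inferInstance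
  let q : Ideal A₁ := ⊥
  haveI : q.IsPrime := Ideal.isPrime_bot
  let F := FractionRing A₁
  let toK : F →+* K := IsFractionRing.lift (g := A₁.val.toRingHom) Subtype.val_injective
  let toKA : F →ₐ[k] K := { toK with
    commutes' := fun c => by
      show toK (algebraMap k F c) = algebraMap k K c
      rw [IsScalarTower.algebraMap_apply k A₁ F]
      exact IsFractionRing.lift_algebraMap Subtype.val_injective _ }
  haveI : Algebra.IsGeometricallyReduced k F := Algebra.IsGeometricallyReduced.of_injective toKA toK.injective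
  haveI : Algebra.FormallySmooth k F := Groth.L06.FormSmooth.formallySmooth_of_geometricallyReduced k F
  haveI : Algebra.IsSmoothAt k q := by
    have hM : q.primeCompl = nonZeroDivisors A₁ := by
      ext a
      rw [mem_nonZeroDivisors_iff_ne_zero]
      exact not_congr (Submodule.mem_bot A₁)
    haveI : IsLocalization q.primeCompl F := by rw [hM]; infer_instance
    let e : F ≃ₐ[k] Localization.AtPrime q :=
      ((IsLocalization.algEquiv q.primeCompl F (Localization.AtPrime q)).restrictScalars k)
    exact Algebra.FormallySmooth.of_equiv (A := F) e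
  obtain ⟨t, ht, hsm⟩ := Algebra.IsSmoothAt.exists_notMem_smooth k q
  have hu : IsUnit (A₁.val t) := isUnit_iff_ne_zero.mpr fun h => ht (Subtype.ext h)
  let h : Localization.Away t →ₐ[k] K := IsLocalization.liftAlgHom (M := Submonoid.powers t) (f := A₁.val)
    (show ∀ y : Submonoid.powers t, IsUnit (A₁.val y) by
      rintro ⟨_, n, rfl⟩
      rw [map_pow]
      exact hu.pow n)
  exact ⟨Localization.Away t, inferInstance, inferInstance, hsm,
    (IsScalarTower.toAlgHom k A₁ _).comp f.rangeRestrict, h,
    AlgHom.ext fun a => IsLocalization.lift_eq _ (f.rangeRestrict a)⟩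

/-- Regular parameters define a flat map from the polynomial ring. -/
theorem flat_of_parameters {k S : Type u} [Field k] [CommRing S] [IsRegularLocalRing S] [Algebra k S]
    {d : ℕ} [Algebra (MvPolynomial (Fin d) k) S] [IsScalarTower k (MvPolynomial (Fin d) k) S]
    (hd : ringKrullDim S = d)
    (hm : Ideal.span (Set.range fun i => algebraMap (MvPolynomial (Fin d) k) S (X i)) = maximalIdeal S) :
    Module.Flat (MvPolynomial (Fin d) k) S := by
  let R := MvPolynomial (Fin d) k
  let p : Ideal R := (maximalIdeal S).comap (algebraMap R S)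
  have hXp : ∀ i, (X i : R) ∈ p := fun i => by
    show algebraMap R S (X i) ∈ maximalIdeal S
    rw [← hm]
    exact Ideal.subset_span ⟨i, rfl⟩
  have hCp : ∀ c : k, (C c : R) ∈ p → c = 0 := fun c hc => by
    by_contra hne
    exact (Ideal.IsMaximal.ne_top (maximalIdeal.isMaximal S))
      (Ideal.eq_top_of_isUnit_mem _ hc (((isUnit_iff_ne_zero.mpr hne).map C).map _))
  have hdec : ∀ f : R, f - C (constantCoeff f) ∈ Ideal.span (Set.range fun i => (X i : R)) := by
    intro f
    induction f using MvPolynomial.induction_on with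
    | C c => simp
    | add a b ha hb =>
      convert Ideal.add_mem _ ha hb using 1
      simp only [map_add]
      ring
    | mul_X a i ha =>
      simp only [map_mul, constantCoeff_X, mul_zero, map_zero, sub_zero]
      exact Ideal.mul_mem_left _ _ (Ideal.subset_span ⟨i, rfl⟩)
  have hp : p = Ideal.span (Set.range fun i => (X i : R)) := by
    refine le_antisymm (fun f hf => ?_) (Ideal.span_le.mpr (by rintro _ ⟨i, rfl⟩; exact hXp i))
    have h1 : f - C (constantCoeff f) ∈ p :=
      (Ideal.span_le.mpr (by rintro _ ⟨i, rfl⟩; exact hXp i) :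
        Ideal.span (Set.range fun i => (X i : R)) ≤ p) (hdec f)
    have h2 := Ideal.sub_mem _ hf h1
    rw [sub_sub_cancel] at h2
    have h3 := hdec f
    rw [hCp _ h2, map_zero, sub_zero] at h3
    exact h3
  haveI hmax : p.IsMaximal := Ideal.isMaximal_iff.mpr ⟨fun h => by
    exact (Ideal.IsMaximal.ne_top (maximalIdeal.isMaximal S))
      (Ideal.eq_top_of_isUnit_mem _ h (by rw [map_one]; exact isUnit_one)),
    fun J f hpJ hf hfJ => by
      have h1 : C (constantCoeff f) ∈ J := by
        have := Ideal.sub_mem _ hfJ (hpJ (hp ▸ hdec f))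
        rwa [sub_sub_cancel] at this
      have hne : constantCoeff f ≠ 0 := fun h0 => hf (by
        have := hdec f
        rw [h0, map_zero, sub_zero] at this
        rw [hp]; exact this)
      rw [Ideal.eq_top_of_isUnit_mem _ h1 ((isUnit_iff_ne_zero.mpr hne).map C)]
      trivial⟩
  let Rl := Localization.AtPrime p
  haveI : IsRegularLocalRing Rl := IsRegularRing.isRegularLocalRing_localization p
  letI : Algebra Rl S := (IsLocalization.lift (M := p.primeCompl) (g := algebraMap R S)
    (fun y => not_not.mp fun h => y.2 h) : Rl →+* S).toAlgebra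
  haveI : IsScalarTower R Rl S := IsScalarTower.of_algebraMap_eq fun x => by
    rw [RingHom.algebraMap_toAlgebra, IsLocalization.lift_eq]
  have hmap : (maximalIdeal Rl).map (algebraMap Rl S) = maximalIdeal S := by
    rw [← Localization.AtPrime.map_eq_maximalIdeal, Ideal.map_map, ← IsScalarTower.algebraMap_eq, hp,
      Ideal.map_span, ← Set.range_comp]
    exact hm
  haveI : IsLocalHom (algebraMap Rl S) :=
    ((IsLocalRing.local_hom_TFAE (algebraMap Rl S)).out 0 2).mpr hmap.le
  have hRl : ringKrullDim Rl = (d : ℕ) := by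
    rw [IsLocalization.AtPrime.ringKrullDim_eq_height p Rl, Groth.L06.DiffCot.height_mvPolynomial k d p]
    rfl
  haveI := RegFlat.flat_of_regular d Rl S hRl hd hmap
  haveI : Module.Flat R Rl := IsLocalization.flat Rl p.primeCompl
  exact Module.Flat.trans R Rl S

/-- Ind-smoothness over the truncated parameter ring. -/
theorem indSmooth_truncated {k S : Type u} [Field k] [CommRing S] [IsRegularLocalRing S] [Algebra k S]
    [Algebra.IsGeometricallyReduced k (ResidueField S)]
    {d : ℕ} [Algebra (MvPolynomial (Fin d) k) S] [IsScalarTower k (MvPolynomial (Fin d) k) S]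
    (hd : ringKrullDim S = d)
    (hm : Ideal.span (Set.range fun i => algebraMap (MvPolynomial (Fin d) k) S (X i)) = maximalIdeal S)
    (K : Ideal (MvPolynomial (Fin d) k)) (e : ℕ) (hXK : ∀ i, (X i : MvPolynomial (Fin d) k) ^ e ∈ K)
    (hKX : K ≤ Ideal.span (Set.range fun i => (X i : MvPolynomial (Fin d) k))) :
    _root_.Smoothing.IndSmooth (MvPolynomial (Fin d) k ⧸ K) (S ⧸ K.map (algebraMap (MvPolynomial (Fin d) k) S)) := by
  let R := MvPolynomial (Fin d) k
  let R' := R ⧸ K
  let KS := K.map (algebraMap R S)
  let S' := S ⧸ KS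
  let XI : Ideal R := Ideal.span (Set.range fun i => (X i : R))
  let I : Ideal R' := XI.map (Ideal.Quotient.mk K)
  haveI := flat_of_parameters (k := k) (S := S) hd hm
  have hnil : IsNilpotent I := by
    refine (Ideal.FG.isNilpotent_iff_le_nilradical (Ideal.fg_of_isNoetherianRing I)).mpr ?_
    rw [Ideal.map_le_iff_le_comap, Ideal.span_le]
    rintro _ ⟨i, rfl⟩
    exact ⟨e, by rw [← map_pow]; exact Ideal.Quotient.eq_zero_iff_mem.mpr (hXK i)⟩
  haveI : Module.Flat R' S' := by
    let E : (R' ⊗[R] S) ≃ₐ[R] S' :=
      (Algebra.TensorProduct.comm R R' S).trans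
        ((Algebra.TensorProduct.quotIdealMapEquivTensorQuot S K).symm.restrictScalars R)
    exact Module.Flat.of_linearEquiv
      (AlgEquiv.extendScalarsOfSurjective (R := R) (S := R') Ideal.Quotient.mk_surjective E).toLinearEquiv.symm
  refine Groth.L14.Smoothing.Deform.indSmooth_of_nilpotent _ I (hnil.choose_spec) ?_
  have hIS : (I.map (algebraMap R' S')) = (maximalIdeal S).map (Ideal.Quotient.mk KS) := by
    show (XI.map (Ideal.Quotient.mk K)).map (algebraMap R' S') = _
    rw [Ideal.map_map, ← hm, Ideal.map_span, Ideal.map_span, ← Set.range_comp, ← Set.range_comp]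
    rfl
  haveI : IsScalarTower k (R' ⧸ I) (S' ⧸ I.map (algebraMap R' S')) :=
    IsScalarTower.of_algebraMap_eq (R := k) (S := R' ⧸ I) (A := S' ⧸ I.map (algebraMap R' S')) fun c => by
    show algebraMap k (S' ⧸ I.map (algebraMap R' S')) c =
      Ideal.Quotient.mk _ (Ideal.Quotient.mk KS (algebraMap R S (C c)))
    rw [show (C c : R) = algebraMap k R c from rfl, ← IsScalarTower.algebraMap_apply k R S]
    rfl
  have hbij : Function.Bijective (algebraMap k (R' ⧸ I)) := by
    refine ⟨?_, fun z => ?_⟩
    · refine (injective_iff_map_eq_zero _).mpr fun c hc => ?_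
      have h1 : Ideal.Quotient.mk K (C c) ∈ I := Ideal.Quotient.eq_zero_iff_mem.mp hc
      obtain ⟨r, hr, hrc⟩ := (Ideal.mem_map_iff_of_surjective _ Ideal.Quotient.mk_surjective).mp h1
      have h2 : C c ∈ XI := by
        have := Ideal.sub_mem _ hr (hKX (Ideal.Quotient.eq.mp hrc))
        rwa [sub_sub_cancel] at this
      have h3 : constantCoeff (C c : R) = 0 := by
        refine (Ideal.span_le.mpr ?_ : XI ≤ RingHom.ker (constantCoeff (R := k) (σ := Fin d))) h2
        rintro _ ⟨i, rfl⟩
        exact constantCoeff_X k i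
      simpa using h3
    · obtain ⟨z, rfl⟩ := Ideal.Quotient.mk_surjective z
      obtain ⟨f, rfl⟩ := Ideal.Quotient.mk_surjective z
      refine ⟨constantCoeff f, ?_⟩
      show Ideal.Quotient.mk I (Ideal.Quotient.mk K (C (constantCoeff f))) = _
      rw [Ideal.Quotient.eq, ← map_sub]
      refine Ideal.mem_map_of_mem _ ?_
      rw [← neg_sub]
      refine neg_mem ?_
      clear hnil
      induction f using MvPolynomial.induction_on with
      | C c => simp
      | add a b ha hb =>
        convert Ideal.add_mem _ ha hb using 1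
        simp only [map_add]
        ring
      | mul_X a i ha =>
        simp only [map_mul, constantCoeff_X, mul_zero, map_zero, sub_zero]
        exact Ideal.mul_mem_left _ _ (Ideal.subset_span ⟨i, rfl⟩)
  have hKm : KS ≤ maximalIdeal S := by
    refine (Ideal.map_mono hKX).trans ?_
    rw [← hm, Ideal.map_span, ← Set.range_comp]
    rfl
  let f0 : S →ₐ[k] S' ⧸ I.map (algebraMap R' S') := (Ideal.Quotient.mkₐ k _).comp (Ideal.Quotient.mkₐ k KS)
  have hf0 : RingHom.ker f0 = maximalIdeal S := by
    ext s
    show Ideal.Quotient.mk _ (Ideal.Quotient.mk KS s) = 0 ↔ _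
    rw [Ideal.Quotient.eq_zero_iff_mem, hIS]
    refine ⟨fun h => ?_, fun h => Ideal.mem_map_of_mem _ h⟩
    obtain ⟨r, hr, hrs⟩ := (Ideal.mem_map_iff_of_surjective _ Ideal.Quotient.mk_surjective).mp h
    have := Ideal.sub_mem _ hr (hKm (Ideal.Quotient.eq.mp hrs))
    rwa [sub_sub_cancel] at this
  have hsur : Function.Surjective f0 := Ideal.Quotient.mk_surjective.comp Ideal.Quotient.mk_surjective
  let g0 : ResidueField S →ₐ[k] S' ⧸ I.map (algebraMap R' S') :=
    Ideal.Quotient.liftₐ (maximalIdeal S) f0 (fun s hs => by rw [← hf0] at hs; exact hs)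
  have hg0 : Function.Bijective g0 := by
    refine ⟨(injective_iff_map_eq_zero _).mpr fun z hz => ?_, fun z => ?_⟩
    · obtain ⟨s, rfl⟩ := Ideal.Quotient.mk_surjective z
      exact Ideal.Quotient.eq_zero_iff_mem.mpr (hf0 ▸ (hz : f0 s = 0))
    · obtain ⟨s, rfl⟩ := hsur z
      exact ⟨Ideal.Quotient.mk _ s, rfl⟩
  exact Groth.L14.Smoothing.Deform.indSmooth_congr hbij (AlgEquiv.ofBijective g0 hg0) (indSmooth_field k (ResidueField S))

end Groth.L14.Smoothing.Sep
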