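import Groth.Agent.L14.Smoothing.SepModel
import Groth.Agent.L14.Smoothing.SepBase
import Groth.Agent.L14.Smoothing.Params
import Groth.Agent.L14.Smoothing.ResolveModPow
import Groth.Agent.L14.Smoothing.DelocWeak
import Groth.Agent.L01.Regular
import Mathlib.RingTheory.MvPolynomial.Ideal

/-!
Resolution at a regular prime with separable residue field.
-/

set_option autoImplicit false
set_option linter.style.haveILetI false

noncomputable section

open MvPolynomial IsLocalRing TensorProduct

namespace Groth.L14.Smoothing.Sep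

universe u

/-- Localisation at a prime commutes with quotients. -/
theorem isLocalization_quotient {L Lq : Type u} [CommRing L] [CommRing Lq] [Algebra L Lq] (q : Ideal L) [q.IsPrime]
    [IsLocalization.AtPrime Lq q] (J : Ideal L) (hJ : J ≤ q) [(q.map (Ideal.Quotient.mk J)).IsPrime]
    [Algebra (L ⧸ J) (Lq ⧸ J.map (algebraMap L Lq))]
    (halg : ∀ x, algebraMap (L ⧸ J) (Lq ⧸ J.map (algebraMap L Lq)) (Ideal.Quotient.mk J x) =
      Ideal.Quotient.mk _ (algebraMap L Lq x)) :
    IsLocalization.AtPrime (Lq ⧸ J.map (algebraMap L Lq)) (q.map (Ideal.Quotient.mk J)) := by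
  have hmem : ∀ x, Ideal.Quotient.mk J x ∈ q.map (Ideal.Quotient.mk J) ↔ x ∈ q := fun x => by
    rw [← Ideal.mem_comap, Ideal.comap_map_of_surjective' _ Ideal.Quotient.mk_surjective, Ideal.mk_ker,
      sup_eq_left.mpr hJ]
  constructor
  constructor
  · rintro ⟨y, hy⟩
    obtain ⟨x, rfl⟩ := Ideal.Quotient.mk_surjective y
    rw [halg]
    exact (IsLocalization.map_units Lq (⟨x, fun h => hy ((hmem x).mpr h)⟩ : q.primeCompl)).map _
  · intro z
    obtain ⟨z, rfl⟩ := Ideal.Quotient.mk_surjective z
    obtain ⟨⟨x, s⟩, hs⟩ := IsLocalization.surj q.primeCompl z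
    refine ⟨⟨Ideal.Quotient.mk J x, Ideal.Quotient.mk J s.1, fun h => s.2 ((hmem _).mp h)⟩, ?_⟩
    show Ideal.Quotient.mk _ z * algebraMap (L ⧸ J) _ (Ideal.Quotient.mk J s.1) = _
    rw [halg, halg, ← map_mul, hs]
  · intro a b hab
    obtain ⟨a, rfl⟩ := Ideal.Quotient.mk_surjective a
    obtain ⟨b, rfl⟩ := Ideal.Quotient.mk_surjective b
    rw [halg, halg, Ideal.Quotient.eq, ← map_sub] at hab
    obtain ⟨s, hs, hsab⟩ := (IsLocalization.algebraMap_mem_map_algebraMap_iff q.primeCompl Lq J _).mp hab
    refine ⟨⟨Ideal.Quotient.mk J s, fun h => hs ((hmem _).mp h)⟩, ?_⟩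
    show Ideal.Quotient.mk J s * _ = Ideal.Quotient.mk J s * _
    rw [← map_mul, ← map_mul, Ideal.Quotient.eq, ← mul_sub]
    exact hsab

/-- In dimension zero over a local base an ind-smooth localisation resolves. -/
theorem resolvable_of_indSmooth {R A L : Type u} [CommRing R] [IsNoetherianRing R] [CommRing A] [Algebra R A]
    [Algebra.FinitePresentation R A] [CommRing L] [Algebra R L] (φ : A →ₐ[R] L) (q : Ideal L) [q.IsPrime]
    {Lq : Type u} [CommRing Lq] [Algebra L Lq] [IsLocalization.AtPrime Lq q] [Algebra R Lq] [IsScalarTower R L Lq]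
    (hunit : ∀ r : R, algebraMap R L r ∉ q → IsUnit r) (hdim : ringKrullDim Lq = 0)
    (hind : _root_.Smoothing.IndSmooth R Lq) : _root_.Smoothing.Resolvable R φ q := by
  by_cases hq : _root_.Smoothing.singRad R φ ≤ q
  swap
  · exact ⟨A, inferInstance, inferInstance, inferInstance, AlgHom.id R A, φ, AlgHom.comp_id φ, le_rfl, hq⟩
  haveI : IsLocalRing Lq := IsLocalization.AtPrime.isLocalRing Lq q
  haveI : Ring.KrullDimLE 0 Lq := Ring.krullDimLE_iff.mpr (by rw [hdim]; exact le_rfl)
  haveI : (q.map (algebraMap L Lq)).IsPrime := by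
    rw [IsLocalization.AtPrime.map_eq_maximalIdeal q Lq]; infer_instance
  have hmin : q ∈ (_root_.Smoothing.singRad R φ).minimalPrimes := by
    refine ⟨⟨inferInstance, hq⟩, fun P ⟨hP, _⟩ hPq => ?_⟩
    have hdisj : Disjoint (q.primeCompl : Set L) P := Set.disjoint_left.mpr fun x hx hxP => hx (hPq hxP)
    haveI := IsLocalization.isPrime_of_isPrime_disjoint q.primeCompl Lq P hP hdisj
    have h1 : P.map (algebraMap L Lq) = maximalIdeal Lq := (Ring.KrullDimLE.eq_maximalIdeal_of_isPrime _)
    have h2 := IsLocalization.comap_map_of_isPrime_disjoint q.primeCompl Lq hP hdisj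
    rw [← h2, h1, IsLocalization.AtPrime.comap_maximalIdeal Lq q]
  haveI : IsLocalization.AtPrime R (q.comap (algebraMap R L)) :=
    IsLocalization.of_le_isUnit (fun r hr => hunit r hr)
  refine DelocWeak.resolvable_of_dim_zero (Rₚ := R) (Λq := Lq) φ q hmin hdim ?_
  obtain ⟨B, iB, iA, hB, g, h, hgh⟩ := hind (R ⊗[R] A) inferInstance
    (Algebra.TensorProduct.lift (Algebra.ofId R Lq) ((IsScalarTower.toAlgHom R L Lq).comp φ)
      (fun _ _ => Commute.all _ _))
  haveI := hB
  have htop : _root_.Smoothing.singRad R h = ⊤ := by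
    rw [Ideal.eq_top_iff_one]
    refine Ideal.le_radical ?_
    rw [← map_one h]
    exact Ideal.mem_map_of_mem _ (DesingApply.mem_singularIdeal_of_forall fun Q _ _ => inferInstance)
  exact ⟨B, iB, iA, inferInstance, g, h, hgh, htop ▸ le_top,
    fun hle => Ideal.IsPrime.ne_top inferInstance (top_le_iff.mp (htop ▸ hle))⟩

theorem mul_X_pow_mem {k : Type u} [Field k] {d : ℕ} (i : Fin d) (S : Set (Fin d)) (hi : i ∉ S) (a e : ℕ)
    (f : MvPolynomial (Fin d) k)
    (h : X i ^ a * f ∈ Ideal.span ((fun j => (X j : MvPolynomial (Fin d) k) ^ e) '' S)) :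
    f ∈ Ideal.span ((fun j => (X j : MvPolynomial (Fin d) k) ^ e) '' S) := by
  classical
  have heq : ((fun j => (X j : MvPolynomial (Fin d) k) ^ e) '' S) =
      (fun s => monomial s (1 : k)) '' ((fun j => Finsupp.single j e) '' S) := by
    rw [Set.image_image]
    exact Set.image_congr fun j _ => X_pow_eq_monomial
  rw [heq, mem_ideal_span_monomial_image] at h ⊢
  intro m hm
  obtain ⟨s, ⟨j, hj, rfl⟩, hs⟩ := h (m + Finsupp.single i a) (by
    rw [mem_support_iff, X_pow_eq_monomial, coeff_monomial_mul', if_pos le_add_self, add_tsub_cancel_right, one_mul]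
    exact mem_support_iff.mp hm)
  refine ⟨_, ⟨j, hj, rfl⟩, ?_⟩
  have hji : j ≠ i := fun h => hi (h ▸ hj)
  rw [Finsupp.single_le_iff] at hs ⊢
  simpa [Finsupp.single_apply, hji.symm] using hs

theorem map_prime_pow_le {L : Type u} [CommRing L] [IsNoetherianRing L] (I q : Ideal L) [q.IsPrime]
    (hmin : q ∈ I.radical.minimalPrimes) :
    ∃ n, 0 < n ∧ (q ^ n).map (algebraMap L (Localization.AtPrime q)) ≤ I.map (algebraMap L (Localization.AtPrime q)) := by
  let Lq := Localization.AtPrime q
  have hrad : maximalIdeal Lq ≤ (I.map (algebraMap L Lq)).radical := by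
    rw [Ideal.radical_eq_sInf]
    refine le_sInf fun P ⟨hP, hPp⟩ => ?_
    have h1 : (P.comap (algebraMap L Lq)) ≤ q := by
      conv_rhs => rw [← IsLocalization.AtPrime.comap_maximalIdeal Lq q]
      exact Ideal.comap_mono (IsLocalRing.le_maximalIdeal hPp.ne_top)
    haveI := hPp
    have h2 : I.radical ≤ P.comap (algebraMap L Lq) :=
      (Ideal.IsPrime.radical_le_iff inferInstance).mpr (Ideal.map_le_iff_le_comap.mp hP)
    have h3 : q ≤ P.comap (algebraMap L Lq) := hmin.2 ⟨inferInstance, h2⟩ h1
    rw [← IsLocalization.AtPrime.map_eq_maximalIdeal q Lq]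
    exact Ideal.map_le_iff_le_comap.mpr h3
  obtain ⟨n, hn⟩ := Ideal.exists_pow_le_of_le_radical_of_fg hrad (Ideal.fg_of_isNoetherianRing _)
  refine ⟨n + 1, Nat.succ_pos _, ?_⟩
  rw [Ideal.map_pow, IsLocalization.AtPrime.map_eq_maximalIdeal q Lq]
  exact (Ideal.pow_le_pow_right (Nat.le_succ n)).trans hn

theorem resolvable_field {k A L : Type u} [Field k] [CommRing A] [Algebra k A] [Algebra.FinitePresentation k A]
    [CommRing L] [Algebra k L] [IsNoetherianRing L] (φ : A →ₐ[k] L) (q : Ideal L) [q.IsPrime]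
    [IsRegularLocalRing (Localization.AtPrime q)] [Algebra.IsGeometricallyReduced k q.ResidueField]
    (hdim : ringKrullDim (Localization.AtPrime q) = 0) : _root_.Smoothing.Resolvable k φ q := by
  let Lq := Localization.AtPrime q
  have hm : maximalIdeal Lq = ⊥ := by
    have h := (isRegularLocalRing_iff Lq).mp inferInstance
    rw [hdim] at h
    norm_cast at h
    exact (Submodule.spanFinrank_eq_zero_iff_eq_bot (Ideal.fg_of_isNoetherianRing (maximalIdeal Lq))).mp h
  have hf : IsField Lq := IsLocalRing.isField_iff_maximalIdeal_eq.mpr hm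
  letI : Field Lq := hf.toField
  haveI : Algebra.IsGeometricallyReduced k Lq := by
    let f : Lq →ₐ[k] q.ResidueField := IsScalarTower.toAlgHom k Lq q.ResidueField
    exact Algebra.IsGeometricallyReduced.of_injective f f.toRingHom.injective
  refine resolvable_of_indSmooth (Lq := Lq) φ q (fun r hr => ?_) hdim (indSmooth_field k Lq)
  exact isUnit_iff_ne_zero.mpr fun h0 => hr (by rw [h0, map_zero]; exact zero_mem _)

theorem resolvable_reduced {k L : Type u} [Field k] [CommRing L] [IsNoetherianRing L] [Algebra k L]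
    (q : Ideal L) [q.IsPrime] [IsRegularLocalRing (Localization.AtPrime q)]
    [Algebra.IsGeometricallyReduced k q.ResidueField] {d : ℕ} [Algebra (MvPolynomial (Fin d) k) L]
    [IsScalarTower k (MvPolynomial (Fin d) k) L]
    (hd : ringKrullDim (Localization.AtPrime q) = d)
    (hgen : Ideal.span (Set.range fun i => algebraMap L (Localization.AtPrime q)
      (algebraMap (MvPolynomial (Fin d) k) L (X i))) = maximalIdeal (Localization.AtPrime q))
    (K : Ideal (MvPolynomial (Fin d) k)) (e : ℕ) (hXK : ∀ i, (X i : MvPolynomial (Fin d) k) ^ e ∈ K)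
    (hKX : K ≤ Ideal.span (Set.range fun i => (X i : MvPolynomial (Fin d) k)))
    {C : Type u} [CommRing C] [Algebra (MvPolynomial (Fin d) k) C] [Algebra.FinitePresentation (MvPolynomial (Fin d) k) C]
    (φK : (C ⧸ K.map (algebraMap (MvPolynomial (Fin d) k) C)) →ₐ[MvPolynomial (Fin d) k ⧸ K]
      (L ⧸ K.map (algebraMap (MvPolynomial (Fin d) k) L))) :
    _root_.Smoothing.Resolvable (MvPolynomial (Fin d) k ⧸ K) φK
      (q.map (Ideal.Quotient.mk (K.map (algebraMap (MvPolynomial (Fin d) k) L)))) := by
  let R := MvPolynomial (Fin d) k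
  let Lq := Localization.AtPrime q
  let J := K.map (algebraMap R L)
  haveI : IsScalarTower k R Lq := IsScalarTower.of_algebraMap_eq fun c => by
    rw [IsScalarTower.algebraMap_apply k L Lq, IsScalarTower.algebraMap_apply k R L,
      ← IsScalarTower.algebraMap_apply R L Lq]
  have hXq : ∀ i, algebraMap R L (X i) ∈ q := fun i =>
    (IsLocalization.AtPrime.to_map_mem_maximal_iff Lq q _).mp (hgen ▸ Ideal.subset_span ⟨i, rfl⟩)
  have hJq : J ≤ q := (Ideal.map_mono hKX).trans (by
    rw [Ideal.map_span, Ideal.span_le]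
    rintro _ ⟨_, ⟨i, rfl⟩, rfl⟩
    exact hXq i)
  haveI : (q.map (Ideal.Quotient.mk J)).IsPrime :=
    Ideal.map_isPrime_of_surjective Ideal.Quotient.mk_surjective (by rwa [Ideal.mk_ker])
  let KS := K.map (algebraMap R Lq)
  have hJS : J.map (algebraMap L Lq) = KS := by rw [Ideal.map_map, ← IsScalarTower.algebraMap_eq]
  let T := Lq ⧸ J.map (algebraMap L Lq)
  letI : Algebra (L ⧸ J) T := (Ideal.quotientMap (J.map (algebraMap L Lq)) (algebraMap L Lq)
    (Ideal.le_comap_map)).toAlgebra
  haveI := isLocalization_quotient q J hJq (Lq := Lq) (fun x => rfl)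
  haveI : Algebra.FinitePresentation (R ⧸ K) (C ⧸ K.map (algebraMap R C)) :=
    Algebra.FinitePresentation.equiv (A := (R ⧸ K) ⊗[R] C) (Algebra.TensorProduct.quotIdealMapEquivQuotTensor C K).symm
  letI : Algebra (R ⧸ K) T := (Ideal.quotientMap (J.map (algebraMap L Lq)) (algebraMap R Lq)
    (by rw [hJS]; exact Ideal.le_comap_map)).toAlgebra
  haveI : IsScalarTower (R ⧸ K) (L ⧸ J) T := IsScalarTower.of_algebraMap_eq fun r => by
    obtain ⟨r, rfl⟩ := Ideal.Quotient.mk_surjective r
    show Ideal.Quotient.mk _ (algebraMap R Lq r) = Ideal.Quotient.mk _ (algebraMap L Lq (algebraMap R L r))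
    rw [← IsScalarTower.algebraMap_apply R L Lq]
  have hdim : ringKrullDim T = 0 := by
    haveI : IsLocalRing T := IsLocalization.AtPrime.isLocalRing T (q.map (Ideal.Quotient.mk J))
    haveI : Ring.KrullDimLE 0 T := by
      refine Ring.KrullDimLE.mk₀ fun P hP => ?_
      have hle : maximalIdeal Lq ≤ P.comap (Ideal.Quotient.mk _) := by
        rw [← hgen, Ideal.span_le]
        rintro _ ⟨i, rfl⟩
        refine Ideal.IsPrime.mem_of_pow_mem (Ideal.IsPrime.comap _) e ?_
        show Ideal.Quotient.mk _ (_ ^ e) ∈ P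
        rw [← map_pow, ← map_pow, Ideal.Quotient.eq_zero_iff_mem.mpr
          (Ideal.mem_map_of_mem _ (Ideal.mem_map_of_mem _ (hXK i)))]
        exact zero_mem _
      have h1 : (P.comap (Ideal.Quotient.mk (J.map (algebraMap L Lq)))).IsMaximal :=
        (le_antisymm hle (IsLocalRing.le_maximalIdeal (Ideal.IsPrime.ne_top (Ideal.IsPrime.comap _)))) ▸
          IsLocalRing.maximalIdeal.isMaximal Lq
      rw [← Ideal.map_comap_of_surjective _ Ideal.Quotient.mk_surjective P]
      refine Ideal.IsMaximal.map_of_surjective_of_ker_le Ideal.Quotient.mk_surjective ?_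
      intro r hr
      show Ideal.Quotient.mk _ r ∈ P
      rw [RingHom.mem_ker.mp hr]; exact P.zero_mem
    exact le_antisymm (Ring.krullDimLE_iff.mp inferInstance) ringKrullDim_nonneg_of_nontrivial
  refine resolvable_of_indSmooth (R := R ⧸ K) (Lq := T) φK _ (fun r hr => ?_) hdim ?_
  · obtain ⟨r, rfl⟩ := Ideal.Quotient.mk_surjective r
    have hr' : algebraMap R L r ∉ q := fun h => hr (Ideal.mem_map_of_mem _ h)
    have hnil : IsNilpotent (Ideal.Quotient.mk K (r - MvPolynomial.C (constantCoeff r))) := by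
      have : r - MvPolynomial.C (constantCoeff r) ∈ Ideal.span (Set.range fun i => (X i : R)) := by
        clear hr hr'
        induction r using MvPolynomial.induction_on with
        | C c => simp
        | add a b ha hb =>
          convert Ideal.add_mem _ ha hb using 1
          simp only [map_add]
          ring
        | mul_X a i ha =>
          simp only [map_mul, constantCoeff_X, mul_zero, map_zero, sub_zero]
          exact Ideal.mul_mem_left _ _ (Ideal.subset_span ⟨i, rfl⟩)
      refine mem_nilradical.mp ((Ideal.span_le.mpr ?_ :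
        Ideal.span (Set.range fun i => (X i : R)) ≤ (nilradical (R ⧸ K)).comap (Ideal.Quotient.mk K)) this)
      rintro _ ⟨i, rfl⟩
      exact ⟨e, by rw [← map_pow]; exact Ideal.Quotient.eq_zero_iff_mem.mpr (hXK i)⟩
    have hne : constantCoeff r ≠ 0 := fun h0 => by
      rw [h0, map_zero, sub_zero] at hnil
      obtain ⟨N, hN⟩ := hnil
      rw [← map_pow, Ideal.Quotient.eq_zero_iff_mem] at hN
      have := hJq (Ideal.mem_map_of_mem (algebraMap R L) hN)
      rw [map_pow] at this
      exact hr' (Ideal.IsPrime.mem_of_pow_mem inferInstance _ this)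
    have hu : IsUnit (Ideal.Quotient.mk K (MvPolynomial.C (constantCoeff r))) := ((isUnit_iff_ne_zero.mpr hne).map MvPolynomial.C).map _
    have := IsNilpotent.isUnit_add_left_of_commute hnil hu (Commute.all _ _)
    rwa [← map_add, add_sub_cancel] at this
  · have hind := indSmooth_truncated (k := k) (S := Lq) hd (by
      rw [← hgen]
      exact congrArg Ideal.span (congrArg Set.range (funext fun i => IsScalarTower.algebraMap_apply R L Lq (X i))))
      K e hXK hKX
    let E : (Lq ⧸ KS) ≃ₐ[R ⧸ K] T :=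
      { Ideal.quotEquivOfEq hJS.symm with
        commutes' := fun r => by
          obtain ⟨r, rfl⟩ := Ideal.Quotient.mk_surjective r
          rfl }
    intro A' _ _ hA' f
    obtain ⟨B, iB, iA, hB, g, h, hgh⟩ := hind A' hA' (E.symm.toAlgHom.comp f)
    exact ⟨B, iB, iA, hB, g, E.toAlgHom.comp h, AlgHom.ext fun a => by
      have := AlgHom.congr_fun hgh a
      simp only [AlgHom.comp_apply] at this ⊢
      rw [this]
      exact E.apply_symm_apply _⟩

/-- Resolution in the separable case. -/
theorem resolvable_of_regular_separable {k A L : Type u} [Field k] [CommRing A] [Algebra k A]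
    [Algebra.FinitePresentation k A] [CommRing L] [Algebra k L] [IsNoetherianRing L] (φ : A →ₐ[k] L) (q : Ideal L)
    [q.IsPrime] (hmin : q ∈ (_root_.Smoothing.singRad k φ).minimalPrimes)
    [IsRegularLocalRing (Localization.AtPrime q)] [Algebra.IsGeometricallyReduced k q.ResidueField] :
    _root_.Smoothing.Resolvable k φ q := by
  classical
  let Lq := Localization.AtPrime q
  obtain ⟨d, hd⟩ := Groth.L01.exists_dim_eq_nat (R := Lq)
  rcases Nat.eq_zero_or_pos d with hd0 | hdpos
  · subst hd0
    exact resolvable_field φ q (by simpa using hd)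
  haveI : IsNoetherianRing A := Algebra.FiniteType.isNoetherianRing k A
  obtain ⟨r, a, ha⟩ := Submodule.fg_iff_exists_fin_generating_family.mp
    (IsNoetherian.noetherian (_root_.Smoothing.singularIdeal k A))
  let I := (_root_.Smoothing.singularIdeal k A).map φ
  obtain ⟨n, hn, hpow⟩ := map_prime_pow_le I q hmin
  obtain ⟨C, iC, iRC, hfp, g, hgk, hga, M, hM, hstd, huniv⟩ := exists_standard_model (k := k) a ha n d
  haveI := hfp
  let e := 8 * M
  obtain ⟨π, hgen, hπI, hann⟩ := Params.exists_parameters_pow I q n e d hn (by omega) hpow hd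
  have hI : I = Ideal.span (Set.range fun j => φ (a j)) := by
    show (_root_.Smoothing.singularIdeal k A).map φ = _
    rw [← ha]
    show (Ideal.span (Set.range a)).map φ = _
    rw [Ideal.map_span, ← Set.range_comp]
    rfl
  choose lam hlam using fun i => Ideal.mem_span_range_iff_exists_fun.mp (hI ▸ hπI i : π i ^ n ∈ Ideal.span (Set.range fun j => φ (a j)))
  obtain ⟨h, hhg, hhR⟩ := huniv L inferInstance inferInstance φ π lam (fun i => (hlam i).symm)
  let R := MvPolynomial (Fin d) k
  letI : Algebra R L := (MvPolynomial.aeval π : R →ₐ[k] L).toRingHom.toAlgebra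
  haveI : IsScalarTower k R L := IsScalarTower.of_algebraMap_eq fun c =>
    ((MvPolynomial.aeval π : R →ₐ[k] L).commutes c).symm
  have hX : ∀ i, algebraMap R L (X i) = π i := fun i => MvPolynomial.aeval_X π i
  let φC : C →ₐ[R] L := { h with commutes' := hhR }
  have hgen' : Ideal.span (Set.range fun i => algebraMap L Lq (algebraMap R L (X i))) = maximalIdeal Lq := by
    simp only [hX]
    rw [hgen]
    exact Localization.AtPrime.map_eq_maximalIdeal
  have hπq : ∀ i, π i ∈ q := fun i => by
    refine (IsLocalization.AtPrime.to_map_mem_maximal_iff Lq q _).mp ?_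
    rw [← hgen', ← hX i]
    exact Ideal.subset_span ⟨i, rfl⟩
  let π' : Fin d → R := fun i => X i ^ M
  let K : Ideal R := Ideal.span (Set.range fun i => π' i ^ 8)
  let φK : (C ⧸ K.map (algebraMap R C)) →ₐ[R ⧸ K] (L ⧸ K.map (algebraMap R L)) :=
    { Ideal.quotientMap (K.map (algebraMap R L)) φC.toRingHom (Ideal.map_le_iff_le_comap.mpr fun x hx => by
        show φC (algebraMap R C x) ∈ K.map (algebraMap R L)
        rw [φC.commutes]
        exact Ideal.mem_map_of_mem _ hx) with
      commutes' := fun x => by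
        obtain ⟨x, rfl⟩ := Ideal.Quotient.mk_surjective x
        exact congrArg (Ideal.Quotient.mk _) (φC.commutes x) }
  have hres : _root_.Smoothing.Resolvable R φC q := by
    refine ModPow.resolvable_of_mod_pow φC q π' (fun i => ?_) (fun i x hx => ?_) (fun i x hx => ?_) hstd K rfl φK
      (fun c => rfl) ?_
    · rw [map_pow, hX]
      exact Ideal.pow_mem_of_mem _ (hπq i) _ hM
    · obtain ⟨x, rfl⟩ := Ideal.Quotient.mk_surjective x
      rw [← map_pow, ← map_mul, Ideal.Quotient.eq_zero_iff_mem] at hx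
      rw [← map_mul, Ideal.Quotient.eq_zero_iff_mem]
      have heq : (Set.range fun j : {j : Fin d // (j : ℕ) < (i : ℕ)} => π' j ^ 8) =
          (fun j : Fin d => (X j : R) ^ e) '' {j | (j : ℕ) < (i : ℕ)} := by
        ext z
        simp only [Set.mem_range, Set.mem_image, Subtype.exists, Set.mem_ofPred_eq, π', e, ← pow_mul, mul_comm 8 M,
          exists_prop]
      rw [heq] at hx ⊢
      simp only [π', ← pow_mul] at hx
      exact Ideal.mul_mem_left _ _ (mul_X_pow_mem i _ (by simp) _ e x hx)
    · have heq : Ideal.span (Set.range fun j : {j : Fin d // (j : ℕ) < (i : ℕ)} => algebraMap R L (π' j) ^ 8) =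
          Ideal.span (Set.range fun j : {j : Fin d // (j : ℕ) < (i : ℕ)} => π j ^ e) := by
        simp only [π', map_pow, hX, ← pow_mul, e, mul_comm M 8]
      revert x
      rw [heq]
      intro x hx
      simp only [π', map_pow, hX] at hx ⊢
      let p := Ideal.Quotient.mk (Ideal.span (Set.range fun j : {j : Fin d // (j : ℕ) < (i : ℕ)} => π j ^ e)) (π i)
      have h2 : ∀ y : L ⧸ Ideal.span (Set.range fun j : {j : Fin d // (j : ℕ) < (i : ℕ)} => π j ^ e), p ^ 2 • y = 0 → p • y = 0 := fun y hy => hann i y hy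
      obtain ⟨M', hM'⟩ : ∃ M', M = M' + 1 := ⟨M - 1, by omega⟩
      have h1 : p • x = 0 := DesingApply.pow_ann p h2 (2 * M' + 1) x (by
        rw [smul_eq_mul, ← hx, ← pow_mul, hM', show (M' + 1) * 2 = 2 * M' + 1 + 1 by ring])
      show p ^ M * x = 0
      rw [hM', pow_succ, mul_assoc, ← smul_eq_mul p x, h1, mul_zero]
    · refine resolvable_reduced q hd hgen' K e (fun i => ?_) ?_ φK
      · refine Ideal.subset_span ⟨i, ?_⟩
        simp only [π', e, ← pow_mul, mul_comm M 8]
      · rw [Ideal.span_le]
        rintro _ ⟨i, rfl⟩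
        exact Ideal.pow_mem_of_mem _ (Ideal.pow_mem_of_mem _ (Ideal.subset_span ⟨i, rfl⟩ : (X i : R) ∈ Ideal.span (Set.range fun i : Fin d => (X i : R))) _ hM) _ (by norm_num)
  obtain ⟨B, iB, iRB, hBfp, g2, h2, hgh2, hle, hnot⟩ := hres
  haveI := hBfp
  letI : Algebra k B := ((algebraMap R B).comp (algebraMap k R)).toAlgebra
  haveI : IsScalarTower k R B := IsScalarTower.of_algebraMap_eq' rfl
  haveI : Algebra.FinitePresentation k B := Algebra.FinitePresentation.trans k R B
  let hB : B →ₐ[k] L := h2.restrictScalars k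
  have hS : _root_.Smoothing.singRad R h2 ≤ _root_.Smoothing.singRad k hB := by
    refine Ideal.radical_mono ?_
    show (_root_.Smoothing.singularIdeal R B).map h2.toRingHom ≤ (_root_.Smoothing.singularIdeal k B).map h2.toRingHom
    refine Ideal.map_mono fun b hb => ?_
    refine DesingApply.mem_singularIdeal_of_forall fun Q _ hbQ => ?_
    haveI : Algebra.IsSmoothAt R Q := DesingApply.isSmoothAt_of_notMem' hb Q hbQ
    exact Algebra.FormallySmooth.comp k R (Localization.AtPrime Q)
  let gA : A →ₐ[k] B :=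
    { g2.toRingHom.comp g with
      commutes' := fun c => by
        show g2 (g (algebraMap k A c)) = algebraMap R B (algebraMap k R c)
        rw [hgk, AlgHom.commutes]
        rfl }
  refine ⟨B, iB, inferInstance, inferInstance, gA, hB, ?_, le_trans ?_ hS, fun hc => hnot (hS.trans hc)⟩
  · refine AlgHom.ext fun x => ?_
    show h2 (g2 (g x)) = φ x
    rw [show h2 (g2 (g x)) = φC (g x) from AlgHom.congr_fun hgh2 (g x)]
    exact hhg x
  · refine le_trans ?_ hle
    refine Ideal.radical_mono ?_
    show I ≤ _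
    rw [hI, Ideal.span_le]
    rintro _ ⟨j, rfl⟩
    show φ (a j) ∈ _
    rw [← hhg (a j)]
    exact Ideal.mem_map_of_mem φC (hga j)

end Groth.L14.Smoothing.Sep
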