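import Groth.Agent.L14.Smoothing.Desingularize
import Groth.Agent.L14.Smoothing.BaseChange
import Mathlib.RingTheory.Noetherian.Basic
import Mathlib.RingTheory.Localization.Away.Basic

/-!
Desingularisation relative to a finitely presented algebra.
-/

set_option autoImplicit false
set_option linter.style.haveILetI false

noncomputable section

open TensorProduct

namespace Groth.L14.Smoothing.Desing

universe u

theorem smooth_away_of_mem_singularIdeal {R D : Type u} [CommRing R] [CommRing D] [Algebra R D]
    [Algebra.FinitePresentation R D] {d : D} (hd : d ∈ _root_.Smoothing.singularIdeal R D) :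
    Algebra.Smooth R (Localization.Away d) := by
  refine Algebra.basicOpen_subset_smoothLocus_iff_smooth.mp fun p hp => ?_
  by_contra h
  rw [_root_.Smoothing.singularIdeal, PrimeSpectrum.mem_vanishingIdeal] at hd
  exact hp (hd p h)

theorem isRadical_singularIdeal (R D : Type u) [CommRing R] [CommRing D] [Algebra R D] :
    (_root_.Smoothing.singularIdeal R D).IsRadical :=
  PrimeSpectrum.isRadical_vanishingIdeal _

theorem mem_singularIdeal_of_smooth {R D : Type u} [CommRing R] [CommRing D] [Algebra R D]
    [Algebra.FinitePresentation R D] {d : D} (hd : Algebra.Smooth R (Localization.Away d)) :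
    d ∈ _root_.Smoothing.singularIdeal R D := by
  rw [_root_.Smoothing.singularIdeal, PrimeSpectrum.mem_vanishingIdeal]
  intro p hp
  by_contra hdp
  exact hp (Algebra.basicOpen_subset_smoothLocus_iff_smooth.mpr hd hdp)

variable {R Λ A D : Type u} [CommRing R] [CommRing Λ] [Algebra R Λ] [CommRing A] [Algebra R A]
  [CommRing D] [Algebra R D]

theorem exists_desingularization_relative [IsNoetherianRing R] [Algebra.FinitePresentation R A]
    [Algebra.FinitePresentation R D] (π : R) (hR : ∀ r : R, π ^ 2 * r = 0 → π * r = 0)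
    (hΛ : ∀ x : Λ, π ^ 2 • x = 0 → π • x = 0)
    (φ : A →ₐ[R] Λ) (δ : D →ₐ[R] Λ) (hπ : _root_.Smoothing.IsStrictlyStandard R A (algebraMap R A π))
    (ψ : A →ₐ[R] D ⧸ Ideal.span {algebraMap R D (π ^ 4)})
    (hψ : ∀ (a : A) (d : D), Ideal.Quotient.mk (Ideal.span {algebraMap R D (π ^ 4)}) d = ψ a →
      δ d - φ a ∈ Ideal.span {algebraMap R Λ (π ^ 4)}) :
    ∃ (B : Type u) (_ : CommRing B) (_ : Algebra R B) (_ : Algebra D B) (_ : IsScalarTower R D B),
      Algebra.FinitePresentation R B ∧
      ∃ (α : A →ₐ[R] B) (β : B →ₐ[R] Λ), β.comp α = φ ∧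
        β.comp (IsScalarTower.toAlgHom R D B) = δ ∧
        (_root_.Smoothing.singularIdeal R D).map (algebraMap D B) ≤ _root_.Smoothing.singularIdeal D B ∧
        (_root_.Smoothing.singularIdeal R D).map (algebraMap D B) ≤ _root_.Smoothing.singularIdeal R B := by
  classical
  haveI : IsNoetherianRing D := Algebra.FiniteType.isNoetherianRing R D
  letI : Algebra D Λ := δ.toRingHom.toAlgebra
  haveI : IsScalarTower R D Λ := IsScalarTower.of_algebraMap_eq fun r => (δ.commutes r).symm
  let πD := algebraMap R D π
  have hπ' : _root_.Smoothing.IsStrictlyStandard D (D ⊗[R] A) (algebraMap D (D ⊗[R] A) πD) := by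
    have h := (Groth.L14.Smoothing.isStandard_baseChange (R' := D) (algebraMap R A π)).2 hπ
    convert h using 1
    rw [Algebra.TensorProduct.algebraMap_apply, Algebra.algebraMap_self, RingHom.id_apply,
      show πD = π • (1 : D) from (Algebra.algebraMap_eq_smul_one π), smul_tmul, ← Algebra.algebraMap_eq_smul_one]
  have hpow : algebraMap R D (π ^ 4) = πD ^ 4 := map_pow _ _ _
  let ρ₀ : A →ₐ[R] D ⧸ Ideal.span {πD ^ 4} :=
    (Ideal.quotientEquivAlgOfEq R (by rw [hpow])).toAlgHom.comp ψ
  let ρ : D ⊗[R] A →ₐ[D] D ⧸ Ideal.span {πD ^ 4} :=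
    Algebra.TensorProduct.lift (Algebra.ofId D _) ρ₀ fun _ _ => Commute.all _ _
  let φD : D ⊗[R] A →ₐ[D] Λ := Algebra.TensorProduct.lift (Algebra.ofId D Λ) φ fun _ _ => Commute.all _ _
  have hρ : ∀ (z : D ⊗[R] A) (d : D), Ideal.Quotient.mk (Ideal.span {πD ^ 4}) d = ρ z →
      algebraMap D Λ d - φD z ∈ Ideal.span {algebraMap D Λ (πD ^ 4)} := by
    have hJ : Ideal.span {algebraMap D Λ (πD ^ 4)} = Ideal.span {algebraMap R Λ (π ^ 4)} := by
      rw [← hpow, ← IsScalarTower.algebraMap_apply]
    rw [hJ]
    intro z
    suffices h : ∃ d : D, Ideal.Quotient.mk (Ideal.span {πD ^ 4}) d = ρ z ∧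
        δ d - φD z ∈ Ideal.span {algebraMap R Λ (π ^ 4)} by
      obtain ⟨d₀, hd₀, hm⟩ := h
      intro d hd
      obtain ⟨w, hw⟩ := Ideal.mem_span_singleton'.mp (Ideal.Quotient.eq.mp (hd.trans hd₀.symm))
      have : δ d - φD z = (δ d₀ - φD z) + δ w * algebraMap R Λ (π ^ 4) := by
        have h2 := congrArg δ hw
        rw [map_mul, map_sub, ← hpow, AlgHom.commutes] at h2
        linear_combination -h2
      show δ d - φD z ∈ _
      rw [this]
      exact add_mem hm (Ideal.mul_mem_left _ _ (Ideal.mem_span_singleton_self _))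
    induction z using TensorProduct.induction_on with
    | zero => exact ⟨0, by simp, by simp⟩
    | tmul c a =>
      obtain ⟨d, hd⟩ := Ideal.Quotient.mk_surjective (ψ a)
      refine ⟨c * d, ?_, ?_⟩
      · have h2 : Ideal.Quotient.mk (Ideal.span {πD ^ 4}) d = ρ₀ a := by
          simp only [ρ₀, AlgHom.comp_apply, AlgEquiv.coe_toAlgHom, ← hd]
          rfl
        rw [map_mul, h2]
        rfl
      · have h3 : φD (c ⊗ₜ[R] a) = δ c * φ a := rfl
        rw [h3, map_mul, ← mul_sub]
        exact Ideal.mul_mem_left _ _ (hψ a d hd)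
    | add x y hx hy =>
      obtain ⟨a, ha, ha'⟩ := hx
      obtain ⟨b, hb, hb'⟩ := hy
      refine ⟨a + b, by rw [map_add, map_add, ha, hb], ?_⟩
      rw [map_add, map_add, add_sub_add_comm]
      exact add_mem ha' hb'
  have hΛD : ∀ x : Λ, πD ^ 2 • x = 0 → πD • x = 0 := fun x hx => by
    rw [show πD ^ 2 = algebraMap R D (π ^ 2) from (map_pow _ _ _).symm, algebraMap_smul] at hx
    rw [algebraMap_smul]
    exact hΛ x hx
  obtain ⟨B, _, _, hB, α, β, hβα, hsing⟩ := exists_desingularization πD hΛD φD hπ' ρ hρ
  letI : Algebra R B := ((algebraMap D B).comp (algebraMap R D)).toAlgebra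
  haveI : IsScalarTower R D B := IsScalarTower.of_algebraMap_eq' rfl
  haveI := hB
  haveI hRB : Algebra.FinitePresentation R B := Algebra.FinitePresentation.trans R D B
  have h1 : (_root_.Smoothing.singularIdeal R D).map (algebraMap D B) ≤ _root_.Smoothing.singularIdeal D B := by
    refine Ideal.map_le_iff_le_comap.mpr fun d hd => ?_
    haveI := smooth_away_of_mem_singularIdeal hd
    haveI : Module.Flat R (Localization.Away d) := Algebra.Smooth.flat R _
    let K : Ideal D := Submodule.comap (LinearMap.mulLeft D (πD ^ 2)) ⊥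
    obtain ⟨g, hg⟩ := IsNoetherian.noetherian K
    have hex : ∀ x ∈ g, ∃ k : ℕ, d ^ k * (πD * x) = 0 := by
      intro x hx
      have hxK : πD ^ 2 * x = 0 := by
        have : x ∈ K := hg ▸ Submodule.subset_span hx
        simpa [K] using this
      have h2 : algebraMap R (Localization.Away d) π ^ 2 * algebraMap D (Localization.Away d) x = 0 := by
        rw [IsScalarTower.algebraMap_apply R D (Localization.Away d), ← map_pow, ← map_mul, hxK, map_zero]
      have h3 := mul_eq_zero_of_flat π 1 (fun y hy => by rw [one_mul]; exact hR y hy) h2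
      rw [map_one, one_mul, IsScalarTower.algebraMap_apply R D (Localization.Away d), ← map_mul] at h3
      obtain ⟨⟨_, k, rfl⟩, hk⟩ := (IsLocalization.map_eq_zero_iff (Submonoid.powers d) _ _).mp h3
      exact ⟨k, hk⟩
    choose! k hk using hex
    refine isRadical_singularIdeal D B ⟨g.sum k, ?_⟩
    rw [← map_pow]
    refine hsing _ fun x hx => ?_
    have hxK : x ∈ K := by simpa [K] using hx
    rw [← hg] at hxK
    have hle : Submodule.span D (g : Set D) ≤ Submodule.comap (LinearMap.mulLeft D (πD * d ^ g.sum k)) (⊥ : Ideal D) := by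
      refine Submodule.span_le.mpr fun y hy => ?_
      simp only [SetLike.mem_coe, Submodule.mem_comap, LinearMap.mulLeft_apply, Submodule.mem_bot]
      rw [← Nat.sub_add_cancel (Finset.single_le_sum (fun i _ => Nat.zero_le (k i)) hy), pow_add]
      linear_combination (d ^ (g.sum k - k y)) * hk y hy
    have h4 := hle hxK
    simp only [Submodule.mem_comap, LinearMap.mulLeft_apply, Submodule.mem_bot] at h4
    rw [← mul_assoc]
    exact h4
  have h2 : (_root_.Smoothing.singularIdeal R D).map (algebraMap D B) ≤ _root_.Smoothing.singularIdeal R B := by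
    refine Ideal.map_le_iff_le_comap.mpr fun d hd => mem_singularIdeal_of_smooth ?_
    haveI := smooth_away_of_mem_singularIdeal hd
    haveI := smooth_away_of_mem_singularIdeal (h1 (Ideal.mem_map_of_mem _ hd))
    let Dd := Localization.Away d
    let Bd := Localization.Away (algebraMap D B d)
    letI : Algebra Dd Bd := (IsLocalization.Away.lift (g := algebraMap D Bd) d (by
      rw [IsScalarTower.algebraMap_apply D B Bd]
      exact IsLocalization.Away.algebraMap_isUnit _) : Dd →+* Bd).toAlgebra
    haveI : IsScalarTower D Dd Bd := IsScalarTower.of_algebraMap_eq fun x => by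
      rw [RingHom.algebraMap_toAlgebra, IsLocalization.Away.lift_eq]
    haveI : IsScalarTower R Dd Bd := IsScalarTower.of_algebraMap_eq fun r => by
      rw [IsScalarTower.algebraMap_apply R D Dd, ← IsScalarTower.algebraMap_apply D Dd Bd,
        ← IsScalarTower.algebraMap_apply R D Bd]
    haveI : Algebra.FormallySmooth Dd Bd :=
      Algebra.FormallySmooth.localization_base (R := D) (Submonoid.powers d)
    haveI : Algebra.FormallySmooth R Bd := Algebra.FormallySmooth.comp R Dd Bd
    haveI : Algebra.FinitePresentation B Bd := IsLocalization.Away.finitePresentation (algebraMap D B d)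
    exact { formallySmooth := inferInstance, finitePresentation := Algebra.FinitePresentation.trans R B Bd }
  refine ⟨B, inferInstance, inferInstance, inferInstance, inferInstance, hRB,
    (α.restrictScalars R).comp Algebra.TensorProduct.includeRight, β.restrictScalars R,
    AlgHom.ext fun a => ?_, AlgHom.ext fun d => β.commutes d, h1, h2⟩
  have h := AlgHom.congr_fun hβα ((1 : D) ⊗ₜ[R] a)
  refine h.trans ?_
  show algebraMap D Λ 1 * φ a = φ a
  rw [map_one, one_mul]

end Groth.L14.Smoothing.Desing
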