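import Groth.Agent.L14.Smoothing.SmoothSub
import Mathlib.RingTheory.EssentialFiniteness
import Mathlib.RingTheory.Artinian.Ring
import Mathlib.RingTheory.HopkinsLevitzki
import Mathlib.RingTheory.Flat.Basic

/-!
An Artinian local algebra over a field of characteristic `p` with finite dimensional `H¹` of the residue field is a
union of Artinian local essentially finite type subalgebras over which it is free.
-/

set_option autoImplicit false
universe u

open MvPolynomial

namespace Groth.L14.Smoothing

theorem exists_sub_mem_pow {Λ : Type u} [CommRing Λ] (I : Ideal Λ) (R : Subring Λ) (G : Set Λ)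
    (hG : Ideal.span G = I) (hGR : G ⊆ R) (h : ∀ a, ∃ r ∈ R, a - r ∈ I) :
    ∀ (j : ℕ) (a : Λ), ∃ r ∈ R, a - r ∈ I ^ j := by
  have step : ∀ j, ∀ a ∈ I ^ j, ∃ r ∈ R, r ∈ I ^ j ∧ a - r ∈ I ^ (j + 1) := by
    intro j
    induction j with
    | zero =>
      intro a _
      obtain ⟨r, hr, har⟩ := h a
      exact ⟨r, hr, by simp, by simpa using har⟩
    | succ j ih =>
      intro a ha
      rw [pow_succ] at ha
      induction ha using Submodule.mul_induction_on' with
      | mem_mul_mem b hb c hc =>
        rw [← hG] at hc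
        induction hc using Submodule.span_induction generalizing b with
        | mem g hg =>
          obtain ⟨r, hr, hrj, hbr⟩ := ih b hb
          have hgI : g ∈ I := hG ▸ Ideal.subset_span hg
          refine ⟨r * g, R.mul_mem hr (hGR hg), by rw [pow_succ]; exact Ideal.mul_mem_mul hrj hgI, ?_⟩
          rw [← sub_mul, pow_succ (a := I) (n := j + 1)]
          exact Ideal.mul_mem_mul hbr hgI
        | zero => exact ⟨0, R.zero_mem, Submodule.zero_mem _, by simp⟩
        | add x y _ _ hx hy =>
          obtain ⟨r, hr, hrj, hxr⟩ := hx b hb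
          obtain ⟨r', hr', hrj', hyr⟩ := hy b hb
          exact ⟨r + r', R.add_mem hr hr', add_mem hrj hrj', by rw [mul_add, add_sub_add_comm]; exact add_mem hxr hyr⟩
        | smul t x _ hx =>
          obtain ⟨r, hr, hrj, hxr⟩ := hx (b * t) (Ideal.mul_mem_right _ _ hb)
          exact ⟨r, hr, hrj, by rwa [smul_eq_mul, ← mul_assoc]⟩
      | add x hx y hy ihx ihy =>
        obtain ⟨r, hr, hrj, hxr⟩ := ihx
        obtain ⟨r', hr', hrj', hyr⟩ := ihy
        exact ⟨r + r', R.add_mem hr hr', add_mem hrj hrj', by rw [add_sub_add_comm]; exact add_mem hxr hyr⟩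
  intro j
  induction j with
  | zero => exact fun a => ⟨0, R.zero_mem, by simp⟩
  | succ j ih =>
    intro a
    obtain ⟨r, hr, har⟩ := ih a
    obtain ⟨r', hr', -, h'⟩ := step j _ har
    exact ⟨r + r', R.add_mem hr hr', by rwa [← sub_sub]⟩

variable {k Λ : Type u} [Field k] (p : ℕ) [Fact p.Prime] [CharP k p] [CommRing Λ] [Algebra k Λ]
  [IsArtinianRing Λ] [IsLocalRing Λ]

include p in
theorem exists_artinian_sub
    (hH : Module.Finite (IsLocalRing.ResidueField Λ) (Algebra.H1Cotangent k (IsLocalRing.ResidueField Λ)))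
    (E : Finset Λ) :
    ∃ (A : Subalgebra k Λ) (_ : IsLocalRing A), (↑E : Set Λ) ⊆ A ∧ IsArtinianRing A ∧ Module.Flat A Λ ∧
      Algebra.EssFiniteType k A ∧
      (IsLocalRing.maximalIdeal A).map (algebraMap A Λ) = IsLocalRing.maximalIdeal Λ := by
  classical
  set K := IsLocalRing.ResidueField Λ with hKdef
  obtain ⟨L, S, hgen, hFS⟩ := exists_formallySmooth_subfield (k := k) (K := K) p hH
  haveI : CharP Λ p := charP_of_injective_algebraMap (algebraMap k Λ).injective p
  haveI : ExpChar Λ p := ExpChar.prime Fact.out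
  let res : Λ →ₐ[L] K := IsScalarTower.toAlgHom L Λ K
  have hres : ∀ a, res a = IsLocalRing.residue Λ a := fun _ => rfl
  have hresker : RingHom.ker (res : Λ →+* K) = IsLocalRing.maximalIdeal Λ :=
    Ideal.ext fun a => by rw [RingHom.mem_ker, ← IsLocalRing.residue_eq_zero_iff]; rfl
  obtain ⟨n, hn⟩ : IsNilpotent (IsLocalRing.maximalIdeal Λ) := by
    rw [← IsLocalRing.jacobson_eq_maximalIdeal (⊥ : Ideal Λ) bot_ne_top]
    exact IsArtinianRing.isNilpotent_jacobson_bot
  have hsurj : Function.Surjective res := IsLocalRing.residue_surjective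
  haveI : Algebra.FormallySmooth L K := hFS
  let σ : K →ₐ[L] Λ := Algebra.FormallySmooth.liftOfSurjective (AlgHom.id L K) res hsurj
    (by rw [hresker]; exact ⟨n, hn⟩)
  have hσ : ∀ c, IsLocalRing.residue Λ (σ c) = c := fun c =>
    Algebra.FormallySmooth.liftOfSurjective_apply (AlgHom.id L K) res hsurj _ c
  obtain ⟨gs, hgs⟩ : (IsLocalRing.maximalIdeal Λ).FG := IsNoetherian.noetherian _
  have hgsm : ∀ g ∈ gs, g ∈ IsLocalRing.maximalIdeal Λ := fun g hg => hgs ▸ Ideal.subset_span hg
  let φ : MvPolynomial gs K →+* Λ := eval₂Hom σ.toRingHom (fun g => (g : Λ))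
  have hφC : ∀ c, φ (C c) = σ c := fun c => eval₂Hom_C _ _ c
  have hφX : ∀ g, φ (X g) = (g : Λ) := fun g => eval₂Hom_X' _ _ g
  have hmod : ∀ a : Λ, ∃ r ∈ φ.range, a - r ∈ IsLocalRing.maximalIdeal Λ := fun a =>
    ⟨σ (IsLocalRing.residue Λ a), ⟨C _, hφC _⟩, by rw [← IsLocalRing.residue_eq_zero_iff, map_sub, hσ, sub_self]⟩
  have hφ : Function.Surjective φ := by
    intro a
    obtain ⟨r, hr, har⟩ := exists_sub_mem_pow _ φ.range (gs : Set Λ) hgs
      (fun g hg => ⟨X ⟨g, hg⟩, hφX _⟩) hmod n a
    rw [hn] at har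
    obtain ⟨P, hP⟩ := hr
    exact ⟨P, hP.trans (sub_eq_zero.1 har).symm⟩
  obtain ⟨kg, hkg⟩ : (RingHom.ker φ).FG := IsNoetherian.noetherian _
  choose rep hrep using hφ
  let lifts : Finset (MvPolynomial gs K) :=
    kg ∪ E.image rep ∪ S.image fun s => rep (algebraMap k Λ s)
  let T : Finset K := lifts.biUnion fun P => P.support.image fun m => coeff m P
  let K1 : IntermediateField k K := IntermediateField.adjoin k (T : Set K)
  let φ1 : MvPolynomial gs K1 →+* Λ := φ.comp (MvPolynomial.map (algebraMap K1 K))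
  have hdesc : ∀ P ∈ lifts, ∃ P1 : MvPolynomial gs K1, MvPolynomial.map (algebraMap K1 K) P1 = P := by
    intro P hP
    refine RingHom.mem_range.1 (MvPolynomial.mem_range_map_iff_coeffs_subset.2 fun c hc => ?_)
    obtain ⟨m, hm, rfl⟩ := MvPolynomial.mem_coeffs_iff.1 hc
    exact ⟨⟨_, IntermediateField.subset_adjoin k _
      (Finset.mem_biUnion.2 ⟨P, hP, Finset.mem_image.2 ⟨m, hm, rfl⟩⟩)⟩, rfl⟩
  have hφ1C : ∀ c : K1, φ1 (C c) = σ (c : K) := fun c => by simp [φ1, hφC]
  have hφ1X : ∀ g, φ1 (X g) = (g : Λ) := fun g => by simp [φ1, hφX]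
  have hrepmem : ∀ a : Λ, rep a ∈ lifts → a ∈ φ1.range := fun a ha => by
    obtain ⟨P1, hP1⟩ := hdesc _ ha
    exact ⟨P1, by simp [φ1, hP1, hrep]⟩
  -- powers kill the difference between the structure map and the section
  obtain ⟨N, hN⟩ : ∃ N, n ≤ p ^ N := ⟨n, (Nat.lt_pow_self (Fact.out (p := p.Prime)).one_lt).le⟩
  have hpow : ∀ c : k, algebraMap k Λ (c ^ p ^ N) = σ (algebraMap k K (c ^ p ^ N)) := by
    intro c
    simp only [map_pow]
    rw [← sub_eq_zero, ← sub_pow_expChar_pow]
    have : algebraMap k Λ c - σ (algebraMap k K c) ∈ IsLocalRing.maximalIdeal Λ := by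
      rw [← IsLocalRing.residue_eq_zero_iff, map_sub, hσ, sub_eq_zero]
      exact (IsScalarTower.algebraMap_apply k Λ K c).symm
    have h2 := Ideal.pow_le_pow_right hN (Ideal.pow_mem_pow this (p ^ N))
    rwa [hn] at h2
  have hL : ∀ l : L, algebraMap k Λ l = σ (algebraMap k K l) := fun l => (σ.commutes l).symm
  have hkA : ∀ c : k, algebraMap k Λ c ∈ φ1.range := by
    intro c
    have hc : c ∈ Subring.closure (Set.range (fun x : k => x ^ p ^ N) ∪ ((L : Set k) ∪ ↑S)) :=
      (hgen N).symm ▸ Subring.mem_top c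
    induction hc using Subring.closure_induction with
    | mem y hy =>
      rcases hy with ⟨x, rfl⟩ | hy | hy
      · exact ⟨C (algebraMap k K1 (x ^ p ^ N)), by rw [hφ1C, hpow]; rfl⟩
      · exact ⟨C (algebraMap k K1 y), by rw [hφ1C]; exact (hL ⟨y, hy⟩).symm⟩
      · exact hrepmem _ (Finset.mem_union_right _ (Finset.mem_image_of_mem _ hy))
    | zero => simp
    | one => simp
    | add x y _ _ hx hy => rw [map_add]; exact φ1.range.add_mem hx hy
    | neg x _ hx => rw [map_neg]; exact φ1.range.neg_mem hx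
    | mul x y _ _ hx hy => rw [map_mul]; exact φ1.range.mul_mem hx hy
  let A : Subalgebra k Λ := { φ1.range.toSubsemiring with algebraMap_mem' := hkA }
  have hmemA : ∀ a, a ∈ A ↔ a ∈ φ1.range := fun _ => Iff.rfl
  have hσA : ∀ c : K1, σ (c : K) ∈ A := fun c => (hmemA _).2 ⟨C c, hφ1C c⟩
  have hgA : ∀ g : gs, (g : Λ) ∈ A := fun g => (hmemA _).2 ⟨X g, hφ1X g⟩
  have hresA : ∀ a ∈ A, ∃ c : K1, IsLocalRing.residue Λ a = (c : K) := by
    rintro _ ⟨P, rfl⟩
    induction P using MvPolynomial.induction_on with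
    | C c => exact ⟨c, by rw [hφ1C, hσ]⟩
    | add x y hx hy =>
      obtain ⟨a, ha⟩ := hx
      obtain ⟨b, hb⟩ := hy
      exact ⟨a + b, by rw [map_add, map_add, ha, hb]; rfl⟩
    | mul_X x g _ =>
      exact ⟨0, by rw [map_mul, map_mul, hφ1X, (IsLocalRing.residue_eq_zero_iff _).2 (hgsm g g.2), mul_zero]; rfl⟩
  have hunit : ∀ a : A, IsUnit (a : Λ) → IsUnit a := by
    intro a ha
    obtain ⟨c, hc⟩ := hresA a a.2
    have hc0 : c ≠ 0 := fun h => by
      subst h
      exact (IsLocalRing.residue_eq_zero_iff (a : Λ)).1 (by rw [hc]; rfl) ha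
    have hu : IsUnit (⟨σ (c : K), hσA c⟩ : A) := by
      refine IsUnit.of_mul_eq_one (⟨σ ((c⁻¹ : K1) : K), hσA _⟩ : A) (Subtype.ext ?_)
      show σ (c : K) * σ ((c⁻¹ : K1) : K) = 1
      rw [← map_mul, ← map_one σ]
      congr 1
      exact congrArg Subtype.val (mul_inv_cancel₀ hc0)
    have hnil : IsNilpotent (a - ⟨σ (c : K), hσA c⟩ : A) := by
      refine ⟨n, Subtype.ext ?_⟩
      have : (a : Λ) - σ (c : K) ∈ IsLocalRing.maximalIdeal Λ := by
        rw [← IsLocalRing.residue_eq_zero_iff, map_sub, hσ, hc, sub_self]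
      have h2 := Ideal.pow_mem_pow this n
      rw [hn] at h2
      exact h2
    have := hnil.isUnit_add_left_of_commute hu (Commute.all _ _)
    rwa [add_sub_cancel] at this
  have hnu : ∀ a : A, a ∈ nonunits A ↔ (a : Λ) ∈ IsLocalRing.maximalIdeal Λ := fun a =>
    ⟨fun h h' => h (hunit a h'), fun h h' => h (h'.map A.val)⟩
  haveI : Nontrivial A := A.toSubring.toSubsemiring.nontrivial
  haveI hloc : IsLocalRing A := IsLocalRing.of_nonunits_add fun a b ha hb =>
    (hnu _).2 (add_mem ((hnu a).1 ha) ((hnu b).1 hb))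
  have hmax : ∀ a : A, a ∈ IsLocalRing.maximalIdeal A ↔ (a : Λ) ∈ IsLocalRing.maximalIdeal Λ := hnu
  refine ⟨A, hloc, fun a ha => hrepmem a ?_, ?_, ?_, ?_, ?_⟩
  · exact Finset.mem_union_left _ (Finset.mem_union_right _ (Finset.mem_image_of_mem _ ha))
  · haveI : IsNoetherianRing A := isNoetherianRing_of_surjective (MvPolynomial gs K1) A
      (φ1.codRestrict A.toSubring fun P => ⟨P, rfl⟩) fun a => by
        obtain ⟨P, hP⟩ := a.2; exact ⟨P, Subtype.ext hP⟩
    haveI : Ring.KrullDimLE 0 A := Ring.KrullDimLE.mk₀ fun I hI => by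
      have hle : IsLocalRing.maximalIdeal A ≤ I := fun a ha => by
        refine hI.mem_of_pow_mem n ?_
        have h2 := Ideal.pow_mem_pow ((hmax a).1 ha) n
        rw [hn] at h2
        rw [show a ^ n = 0 from Subtype.ext h2]
        exact I.zero_mem
      rw [le_antisymm (IsLocalRing.le_maximalIdeal hI.ne_top) hle]
      infer_instance
    exact IsNoetherianRing.isArtinianRing_of_krullDimLE_zero
  · let e := Module.Free.chooseBasis K1 K
    let v : Module.Free.ChooseBasisIndex K1 K → Λ := fun i => σ (e i)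
    have hspan : ⊤ ≤ Submodule.span A (Set.range v) := by
      rintro a -
      rw [← hrep a]
      induction rep a using MvPolynomial.induction_on with
      | C c =>
        rw [hφC, ← e.linearCombination_repr c, Finsupp.linearCombination_apply, map_finsuppSum]
        refine Submodule.sum_mem _ fun i _ => ?_
        show σ ((e.repr c i : K) * e i) ∈ _
        rw [map_mul]
        exact Submodule.smul_mem _ (⟨_, hσA _⟩ : A) (Submodule.subset_span ⟨i, rfl⟩)
      | add x y hx hy => rw [map_add]; exact add_mem hx hy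
      | mul_X x g hx =>
        rw [map_mul, hφX, mul_comm]
        exact Submodule.smul_mem _ (⟨_, hgA g⟩ : A) hx
    have hli : LinearIndependent A v := by
      rw [linearIndependent_iff']
      intro s f hf i hi
      choose P hP using fun j => (hmemA _).1 (f j).2
      let Q : MvPolynomial gs K := ∑ j ∈ s, C (e j) * MvPolynomial.map (algebraMap K1 K) (P j)
      have hQ : Q ∈ RingHom.ker φ := by
        rw [RingHom.mem_ker, map_sum, ← hf]
        refine Finset.sum_congr rfl fun j _ => ?_
        rw [map_mul, hφC, show φ (MvPolynomial.map (algebraMap K1 K) (P j)) = (f j : Λ) from hP j, mul_comm]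
        rfl
      let π : MvPolynomial gs K → MvPolynomial gs K1 := fun R => AddMonoidAlgebra.map (e.coord i).toAddMonoidHom R
      have hπc : ∀ R m, coeff m (π R) = e.coord i (coeff m R) := fun R m => coeff_addMonoidAlgebraMap _ _ _
      have hπadd : ∀ R R', π (R + R') = π R + π R' := fun R R' => MvPolynomial.ext _ _ fun m => by
        simp [hπc]
      have hπ0 : π 0 = 0 := MvPolynomial.ext _ _ fun m => by simp [hπc]
      have hπmul : ∀ R1 R, π (MvPolynomial.map (algebraMap K1 K) R1 * R) = R1 * π R := fun R1 R =>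
        MvPolynomial.ext _ _ fun m => by
          rw [hπc, coeff_mul, coeff_mul, map_sum]
          refine Finset.sum_congr rfl fun q _ => ?_
          rw [coeff_map, ← Algebra.smul_def, map_smul, hπc, smul_eq_mul]
      have key : ∀ Z ∈ RingHom.ker φ, ∀ a, φ1 (π (a * Z)) = 0 := by
        intro Z hZ
        rw [← hkg] at hZ
        induction hZ using Submodule.span_induction with
        | mem g hg =>
          intro a
          obtain ⟨g1, hg1⟩ := hdesc g (Finset.mem_union_left _ (Finset.mem_union_left _ hg))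
          have h0 : φ1 g1 = 0 := by
            show φ (MvPolynomial.map (algebraMap K1 K) g1) = 0
            rw [hg1, ← RingHom.mem_ker, ← hkg]
            exact Ideal.subset_span hg
          rw [mul_comm, ← hg1, hπmul, map_mul, h0, zero_mul]
        | zero => intro a; rw [mul_zero, hπ0, map_zero]
        | add x y _ _ hx hy => intro a; rw [mul_add, hπadd, map_add, hx, hy, add_zero]
        | smul r x _ hx => intro a; rw [smul_eq_mul, ← mul_assoc]; exact hx _
      have hQi : π Q = P i := by
        refine MvPolynomial.ext _ _ fun m => ?_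
        rw [hπc, show coeff m Q = ∑ j ∈ s, coeff m (P j) • e j from by
          simp only [Q, coeff_sum]
          exact Finset.sum_congr rfl fun j _ => by rw [coeff_C_mul, coeff_map, Algebra.smul_def, mul_comm], map_sum,
          Finset.sum_eq_single i]
        · simp
        · intro j _ hji
          simp [Finsupp.single_eq_of_ne hji, Finsupp.single_eq_of_ne (Ne.symm hji)]
        · intro h; exact absurd hi h
      have := key Q hQ 1
      rw [one_mul, hQi, hP] at this
      exact Subtype.ext this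
    haveI : Module.Free A Λ := Module.Free.of_basis (Module.Basis.mk hli hspan)
    infer_instance
  · let ga : gs → A := fun g => ⟨g, hgA g⟩
    have hTmem : ∀ t : T, (t : K) ∈ K1 := fun t => IntermediateField.subset_adjoin k _ t.2
    let ta : T → A := fun t => ⟨σ (t : K), hσA ⟨t, hTmem t⟩⟩
    let sa : S → A := fun s => ⟨σ (algebraMap k K (s : k)), hσA (algebraMap k K1 (s : k))⟩
    let G : Finset A := Finset.univ.image ga ∪ Finset.univ.image ta ∪ Finset.univ.image sa
    let R0 : Subalgebra k A := Algebra.adjoin k (G : Set A)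
    have hsk : ∀ c : k, (⟨σ (algebraMap k K c), hσA (algebraMap k K1 c)⟩ : A) ∈ R0 := by
      intro c
      have hc : c ∈ Subring.closure (Set.range (fun x : k => x ^ p ^ N) ∪ ((L : Set k) ∪ ↑S)) :=
        (hgen N).symm ▸ Subring.mem_top c
      induction hc using Subring.closure_induction with
      | mem y hy =>
        rcases hy with ⟨x, rfl⟩ | hy | hy
        · convert R0.algebraMap_mem (x ^ p ^ N) using 1
          exact Subtype.ext (hpow x).symm
        · convert R0.algebraMap_mem y using 1
          exact Subtype.ext (hL ⟨y, hy⟩).symm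
        · exact Algebra.subset_adjoin (Finset.mem_union_right _ (Finset.mem_image.2 ⟨⟨y, hy⟩, Finset.mem_univ _, rfl⟩))
      | zero => convert R0.zero_mem using 1; exact Subtype.ext (by simp)
      | one => convert R0.one_mem using 1; exact Subtype.ext (by simp)
      | add x y _ _ hx hy => convert R0.add_mem hx hy using 1; exact Subtype.ext (by simp)
      | neg x _ hx => convert R0.neg_mem hx using 1; exact Subtype.ext (by simp)
      | mul x y _ _ hx hy => convert R0.mul_mem hx hy using 1; exact Subtype.ext (by simp)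
    have hadj : ∀ c : K, c ∈ Algebra.adjoin k (T : Set K) → ∃ h : σ c ∈ A, (⟨σ c, h⟩ : A) ∈ R0 := by
      intro c hc
      induction hc using Algebra.adjoin_induction with
      | mem y hy =>
        exact ⟨(ta ⟨y, hy⟩).2, Algebra.subset_adjoin (Finset.mem_union_left _ (Finset.mem_union_right _
          (Finset.mem_image.2 ⟨⟨y, hy⟩, Finset.mem_univ _, rfl⟩)))⟩
      | algebraMap r => exact ⟨_, hsk r⟩
      | add x y _ _ hx hy =>
        obtain ⟨h1, h1'⟩ := hx; obtain ⟨h2, h2'⟩ := hy
        exact ⟨by rw [map_add]; exact A.add_mem h1 h2, by convert R0.add_mem h1' h2' using 1; exact Subtype.ext (by simp)⟩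
      | mul x y _ _ hx hy =>
        obtain ⟨h1, h1'⟩ := hx; obtain ⟨h2, h2'⟩ := hy
        exact ⟨by rw [map_mul]; exact A.mul_mem h1 h2, by convert R0.mul_mem h1' h2' using 1; exact Subtype.ext (by simp)⟩
    rw [Algebra.essFiniteType_iff]
    refine ⟨G, fun a => ?_⟩
    obtain ⟨a, P, rfl⟩ := a
    induction P using MvPolynomial.induction_on with
    | C c =>
      obtain ⟨r, hr, s, hs, hc⟩ := IntermediateField.mem_adjoin_iff_div.1 c.2
      obtain ⟨hrA, hr'⟩ := hadj r hr
      obtain ⟨hsA, hs'⟩ := hadj s hs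
      rcases eq_or_ne s 0 with rfl | hs0
      · refine ⟨1, R0.one_mem, isUnit_one, ?_⟩
        convert R0.zero_mem using 1
        exact Subtype.ext (by simp [hφ1C, hc])
      refine ⟨⟨σ s, hsA⟩, hs', hunit _ ?_, ?_⟩
      · exact (isUnit_iff_ne_zero.2 hs0).map σ
      · convert hr' using 1
        exact Subtype.ext (by simp [hφ1C, hc, ← map_mul, div_mul_cancel₀ _ hs0])
    | add x y hx hy =>
      obtain ⟨t, ht, htu, htx⟩ := hx
      obtain ⟨t', ht', htu', hty⟩ := hy
      refine ⟨t * t', R0.mul_mem ht ht', htu.mul htu', ?_⟩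
      convert R0.add_mem (R0.mul_mem htx ht') (R0.mul_mem hty ht) using 1
      exact Subtype.ext (by simp; ring)
    | mul_X x g hx =>
      obtain ⟨t, ht, htu, htx⟩ := hx
      refine ⟨t, ht, htu, ?_⟩
      have hg : ga g ∈ R0 := Algebra.subset_adjoin (Finset.mem_union_left _ (Finset.mem_union_left _
        (Finset.mem_image.2 ⟨g, Finset.mem_univ _, rfl⟩)))
      convert R0.mul_mem htx hg using 1
      exact Subtype.ext (by simp [hφ1X, ga]; ring)
  · refine le_antisymm (Ideal.map_le_iff_le_comap.2 fun a ha => (hmax a).1 ha) ?_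
    rw [← hgs, Ideal.span_le]
    intro g hg
    exact Ideal.mem_map_of_mem (algebraMap A Λ) ((hmax ⟨g, hgA ⟨g, hg⟩⟩).2 (hgsm g hg))

end Groth.L14.Smoothing
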