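import Groth.Agent.L14.Smoothing.Split
import Groth.Prelude.Def_Smoothing
import Mathlib.RingTheory.Localization.Away.Basic
import Mathlib.RingTheory.FinitePresentation

/-!
The presentation of `A_a` obtained from a presentation of `A` by adding one variable.
-/

open MvPolynomial

namespace Groth.L14.Smoothing

universe u

variable {R A : Type u} [CommRing R] [CommRing A] [Algebra R A] {n : ℕ}

/-- The inverse relation. -/
noncomputable def invRel (pa : MvPolynomial (Fin n) R) : MvPolynomial (Option (Fin n)) R :=
  X none * rename some pa - 1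

/-- The presentation of the localisation. -/
noncomputable def awayHom (φ : MvPolynomial (Fin n) R →ₐ[R] A) (a : A) :
    MvPolynomial (Option (Fin n)) R →ₐ[R] Localization.Away a :=
  aeval fun o => o.elim (IsLocalization.Away.invSelf a) fun i => algebraMap A _ (φ (X i))

variable (φ : MvPolynomial (Fin n) R →ₐ[R] A) (a : A)

theorem awayHom_rename (p : MvPolynomial (Fin n) R) :
    awayHom φ a (rename some p) = algebraMap A (Localization.Away a) (φ p) := by
  have : (awayHom φ a).comp (rename some) =
      (IsScalarTower.toAlgHom R A (Localization.Away a)).comp φ := by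
    refine MvPolynomial.algHom_ext fun i => ?_
    simp [awayHom]
  exact DFunLike.congr_fun this p

theorem awayHom_none : awayHom φ a (X none) = IsLocalization.Away.invSelf a := by simp [awayHom]

theorem awayHom_invRel {pa : MvPolynomial (Fin n) R} (hpa : φ pa = a) : awayHom φ a (invRel pa) = 0 := by
  rw [invRel, map_sub, map_mul, map_one, awayHom_none, awayHom_rename, hpa, mul_comm,
    IsLocalization.Away.mul_invSelf, sub_self]

theorem exists_rename_rep (pa : MvPolynomial (Fin n) R) (p : MvPolynomial (Option (Fin n)) R) :
    ∃ (N : ℕ) (q : MvPolynomial (Fin n) R),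
      rename some pa ^ N * p - rename some q ∈ Ideal.span {invRel pa} := by
  induction p using MvPolynomial.induction_on with
  | C r => exact ⟨0, C r, by simp⟩
  | add p p' hp hp' =>
    obtain ⟨N, q, hq⟩ := hp
    obtain ⟨N', q', hq'⟩ := hp'
    refine ⟨N + N', pa ^ N' * q + pa ^ N * q', ?_⟩
    have := Ideal.add_mem _ (Ideal.mul_mem_left _ (rename some pa ^ N') hq)
      (Ideal.mul_mem_left _ (rename some pa ^ N) hq')
    convert this using 1
    simp only [map_add, map_mul, map_pow, pow_add]
    ring
  | mul_X p o hp =>
    obtain ⟨N, q, hq⟩ := hp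
    cases o with
    | none =>
      refine ⟨N + 1, q, ?_⟩
      have h1 := Ideal.mul_mem_right (rename some pa * X none) _ hq
      have h2 : rename some q * (rename some pa * X none - 1) ∈ Ideal.span {invRel pa} := by
        refine Ideal.mul_mem_left _ _ ?_
        rw [show rename some pa * X none - 1 = invRel pa by rw [invRel, mul_comm]]
        exact Ideal.subset_span rfl
      convert Ideal.add_mem _ h1 h2 using 1
      ring
    | some i =>
      refine ⟨N, q * X i, ?_⟩
      convert Ideal.mul_mem_right (X (some i)) _ hq using 1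
      rw [map_mul, rename_X]
      ring

theorem awayHom_surjective (hφ : Function.Surjective φ) : Function.Surjective (awayHom φ a) := by
  intro y
  obtain ⟨k, r, hr⟩ := IsLocalization.Away.surj a y
  obtain ⟨p, rfl⟩ := hφ r
  refine ⟨rename some p * X none ^ k, ?_⟩
  rw [map_mul, map_pow, awayHom_none, awayHom_rename, ← hr, mul_assoc, ← mul_pow,
    IsLocalization.Away.mul_invSelf, one_pow, mul_one]

variable {φ a}

theorem ker_awayHom_le {pa : MvPolynomial (Fin n) R} (hpa : φ pa = a) {ρ : Type*}
    (rel : ρ → MvPolynomial (Fin n) R) (hker : RingHom.ker φ.toRingHom ≤ Ideal.span (Set.range rel))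
    (K : Ideal (MvPolynomial (Option (Fin n)) R)) (hK0 : invRel pa ∈ K) (hK : ∀ j, rename some (rel j) ∈ K)
    {p : MvPolynomial (Option (Fin n)) R} (hp : awayHom φ a p = 0) : p ∈ K := by
  obtain ⟨N, q, hq⟩ := exists_rename_rep pa p
  have hg0 : Ideal.span {invRel pa} ≤ K := Ideal.span_le.mpr (Set.singleton_subset_iff.mpr hK0)
  have h0 : algebraMap A (Localization.Away a) (φ q) = 0 := by
    have h1 : awayHom φ a (rename some pa ^ N * p - rename some q) = 0 := by
      obtain ⟨c, hc⟩ := Ideal.mem_span_singleton'.mp hq
      rw [← hc, map_mul, awayHom_invRel φ a hpa, mul_zero]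
    rwa [map_sub, map_mul, hp, mul_zero, zero_sub, neg_eq_zero, awayHom_rename] at h1
  obtain ⟨⟨_, j, rfl⟩, hj⟩ := (IsLocalization.map_eq_zero_iff (Submonoid.powers a) _ _).mp h0
  have hmem : pa ^ j * q ∈ Ideal.span (Set.range rel) := hker (by
    show φ (pa ^ j * q) = 0
    rw [map_mul, map_pow, hpa]; exact hj)
  have h2 : rename some (pa ^ j * q) ∈ K := by
    have := Ideal.mem_map_of_mem (rename some : MvPolynomial (Fin n) R →ₐ[R] _) hmem
    refine (Ideal.map_le_iff_le_comap.mpr (Ideal.span_le.mpr ?_)) this
    rintro _ ⟨i, rfl⟩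
    exact hK i
  have h3 : rename some pa ^ (j + N) * p ∈ K := by
    have := Ideal.add_mem _ (Ideal.mul_mem_left _ (rename some pa ^ j) (hg0 hq)) h2
    convert this using 1
    rw [map_mul, map_pow, pow_add]
    ring
  have h4 : ∀ m : ℕ, ∀ x, rename some pa ^ m * x ∈ K → x ∈ K := by
    intro m
    induction m with
    | zero => intro x hx; simpa using hx
    | succ m ih =>
      intro x hx
      refine ih x ?_
      have := Ideal.sub_mem _ (Ideal.mul_mem_left _ (X none) hx) (Ideal.mul_mem_right (rename some pa ^ m * x) _ hK0)
      convert this using 1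
      rw [invRel, pow_succ]
      ring
  exact h4 _ p h3

theorem pderiv_none_rename (p : MvPolynomial (Fin n) R) : pderiv none (rename some p) = 0 := by
  induction p using MvPolynomial.induction_on with
  | C r => simp
  | add p q hp hq => simp [map_add, hp, hq]
  | mul_X p i hp => simp [map_mul, hp, (pderiv (none : Option (Fin n))).leibniz]

theorem pderiv_some_rename (p : MvPolynomial (Fin n) R) (i : Fin n) :
    pderiv (some i) (rename some p) = rename some (pderiv i p) :=
  pderiv_rename (Option.some_injective _) i p

theorem split_away {pa : MvPolynomial (Fin n) R} (hpa : φ pa = a) (hφ : Function.Surjective φ) {c : ℕ}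
    (F : Fin c → MvPolynomial (Fin n) R) (hF : ∀ t, φ (F t) = 0) {ρ : Type*}
    (rel : ρ → MvPolynomial (Fin n) R) (hker : RingHom.ker φ.toRingHom = Ideal.span (Set.range rel))
    (hkill : ∀ j, pa * rel j ∈ Ideal.span (Set.range F) ⊔ Ideal.span (Set.range rel) ^ 2)
    (N : Fin n → Fin c → Localization.Away a)
    (hN : ∀ s t, ∑ i, algebraMap A (Localization.Away a) (φ (pderiv i (F s))) * N i t = if s = t then 1 else 0) :
    Algebra.FormallySmooth R (Localization.Away a) ∧
      Nonempty ((Ω[Localization.Away a⁄R] × (Option (Fin c) → Localization.Away a)) ≃ₗ[Localization.Away a]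
        (Option (Fin n) → Localization.Away a)) := by
  classical
  let G : Option (Fin c) → MvPolynomial (Option (Fin n)) R :=
    fun o => o.elim (invRel pa) fun t => rename some (F t)
  let K := Ideal.span (Set.range G) ⊔ RingHom.ker (awayHom φ a) ^ 2
  have hg0 : invRel pa ∈ K := Ideal.mem_sup_left (Ideal.subset_span ⟨none, rfl⟩)
  have hrelK : ∀ j, rename some (rel j) ∈ K := by
    intro j
    have h1 := Ideal.mem_map_of_mem (rename some : MvPolynomial (Fin n) R →ₐ[R] _) (hkill j)
    have h2 : (Ideal.span (Set.range F) ⊔ Ideal.span (Set.range rel) ^ 2).map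
        (rename some : MvPolynomial (Fin n) R →ₐ[R] MvPolynomial (Option (Fin n)) R) ≤ K := by
      rw [Ideal.map_sup, Ideal.map_pow]
      refine sup_le_sup (Ideal.map_le_iff_le_comap.mpr (Ideal.span_le.mpr ?_)) (Ideal.pow_right_mono ?_ 2)
      · rintro _ ⟨t, rfl⟩
        exact Ideal.subset_span ⟨some t, rfl⟩
      · refine Ideal.map_le_iff_le_comap.mpr fun x hx => ?_
        show awayHom φ a (rename some x) = 0
        rw [awayHom_rename, show φ x = 0 from RingHom.mem_ker.mp (hker ▸ hx : x ∈ RingHom.ker φ.toRingHom), map_zero]
    have := Ideal.sub_mem _ (Ideal.mul_mem_left _ (X none) (h2 h1)) (Ideal.mul_mem_right (rename some (rel j)) _ hg0)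
    convert this using 1
    rw [invRel, map_mul]
    ring
  let ai : Localization.Away a := IsLocalization.Away.invSelf a
  let N' : Option (Fin n) → Option (Fin c) → Localization.Away a := fun o o' =>
    o.elim (o'.elim ai fun t => -ai * ∑ i, awayHom φ a (pderiv (some i) (invRel pa)) * N i t)
      fun i => o'.elim 0 fun t => N i t
  refine split_of_jacobian (awayHom φ a) (awayHom_surjective φ a hφ) G ?_
    (fun p hp => ker_awayHom_le hpa rel hker.le K hg0 hrelK hp) N' ?_
  · rintro (_ | t)
    · exact awayHom_invRel φ a hpa
    · show awayHom φ a (rename some (F t)) = 0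
      rw [awayHom_rename, hF, map_zero]
  · have hnn : awayHom φ a (pderiv none (invRel pa)) = algebraMap A _ a := by
      rw [invRel, map_sub, (pderiv (none : Option (Fin n))).leibniz]
      simp [pderiv_none_rename, awayHom_rename, hpa]
    have hai : algebraMap A (Localization.Away a) a * ai = 1 := IsLocalization.Away.mul_invSelf a
    rintro (_ | s) (_ | t)
    · rw [Fintype.sum_option]
      simp [G, N', hnn, hai]
    · rw [Fintype.sum_option]
      simp only [G, N', Option.elim_none, Option.elim_some, hnn, reduceCtorEq, if_false]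
      rw [← mul_assoc, mul_neg, hai]
      ring
    · rw [Fintype.sum_option]
      simp [G, N', pderiv_none_rename]
    · rw [Fintype.sum_option]
      simp only [G, N', Option.elim_none, Option.elim_some, pderiv_none_rename, map_zero, zero_mul, zero_add,
        pderiv_some_rename, awayHom_rename, Option.some.injEq]
      exact hN s t

end Groth.L14.Smoothing
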