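import Groth.Prelude.Def_Smoothing
import Groth.Agent.L14.Smoothing.StdRetract
import Mathlib.RingTheory.Extension.Presentation.Submersive
import Mathlib.RingTheory.Smooth.StandardSmooth
import Mathlib.RingTheory.Localization.BaseChange
import Mathlib.RingTheory.TensorProduct.MvPolynomial
import Mathlib.LinearAlgebra.Matrix.SchurComplement

/-!
Delocalisation: a factorisation over a localised base gives a standard element from the base.
-/

set_option autoImplicit false
set_option linter.style.haveILetI false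

noncomputable section

open TensorProduct MvPolynomial

namespace Groth.L14.Smoothing.Delocalize

universe u

/-- A way to build elementary standard elements from an arbitrarily indexed presentation. -/
theorem isElementaryStandard_of_presentation {R : Type u} [CommRing R] {V L : Type} {T : Type*} [Finite V] [Fintype L]
    [DecidableEq L] [Finite T] (G : L ⊕ T → MvPolynomial V R) (col : L → V) (hcol : Function.Injective col)
    (a : MvPolynomial V R ⧸ Ideal.span (Set.range G))
    (hminor : ∃ a', a = a' * Ideal.Quotient.mk _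
      (Matrix.det (Matrix.of fun j k : L => pderiv (col k) (G (Sum.inl j)))))
    (hkill : ∀ p : MvPolynomial V R, Ideal.Quotient.mk _ p = a → ∀ t : T, p * G (Sum.inr t) ∈
      Ideal.span (Set.range (G ∘ Sum.inl)) ⊔ Ideal.span (Set.range G) ^ 2) :
    _root_.Smoothing.IsElementaryStandard R (MvPolynomial V R ⧸ Ideal.span (Set.range G)) a := by
  classical
  let K : Type := ((Set.range col)ᶜ : Set V)
  haveI : Finite K := inferInstanceAs (Finite ((Set.range col)ᶜ : Set V))
  let c := Fintype.card L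
  let eL : L ≃ Fin c := Fintype.equivFin L
  let eT : T ≃ Fin (Nat.card T) := Finite.equivFin T
  let eV₀ : L ⊕ K ≃ V := (Equiv.sumCongr (Equiv.ofInjective col hcol) (Equiv.refl _)).trans
    (Equiv.Set.sumCompl (Set.range col))
  let eV : V ≃ Fin (c + Nat.card K) :=
    eV₀.symm.trans ((Equiv.sumCongr eL (Finite.equivFin K)).trans finSumFinEquiv)
  let eR : L ⊕ T ≃ Fin (c + Nat.card T) := (Equiv.sumCongr eL eT).trans finSumFinEquiv
  have hcolV : ∀ k : L, eV (col k) = Fin.castAdd _ (eL k) := fun k => by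
    have : eV₀ (Sum.inl k) = col k := rfl
    simp [eV, ← this]
  let ρ : MvPolynomial V R ≃ₐ[R] MvPolynomial (Fin (c + Nat.card K)) R := renameEquiv R eV
  let rel : Fin (c + Nat.card T) → MvPolynomial (Fin (c + Nat.card K)) R := fun i => ρ (G (eR.symm i))
  have hker : RingHom.ker ((Ideal.Quotient.mkₐ R (Ideal.span (Set.range G))).comp ρ.symm.toAlgHom).toRingHom =
      Ideal.span (Set.range rel) := by
    ext x
    have h1 : Ideal.span (Set.range rel) = (Ideal.span (Set.range G)).map ρ := by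
      rw [Ideal.map_span, ← Set.range_comp]
      refine congrArg Ideal.span (Set.ext fun z => ⟨?_, ?_⟩)
      · rintro ⟨i, rfl⟩; exact ⟨_, rfl⟩
      · rintro ⟨i, rfl⟩; exact ⟨eR i, by simp [rel]⟩
    rw [h1, Ideal.mem_map_iff_of_surjective _ ρ.surjective]
    show Ideal.Quotient.mk _ (ρ.symm x) = 0 ↔ _
    rw [Ideal.Quotient.eq_zero_iff_mem]
    exact ⟨fun h => ⟨_, h, ρ.apply_symm_apply x⟩, fun ⟨y, hy, hyx⟩ => by rwa [← hyx, ρ.symm_apply_apply]⟩
  let P : _root_.Smoothing.MarkedPresentation R (MvPolynomial V R ⧸ Ideal.span (Set.range G)) :=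
    { n := c + Nat.card K
      m := c + Nat.card T
      c := c
      hcn := Nat.le_add_right _ _
      hcm := Nat.le_add_right _ _
      rel := rel
      hom := (Ideal.Quotient.mkₐ R _).comp ρ.symm.toAlgHom
      surj := Ideal.Quotient.mk_surjective.comp ρ.symm.surjective
      ker_eq := hker }
  obtain ⟨a', ha'⟩ := hminor
  refine ⟨P, ⟨a', ?_⟩, fun p hp j hj => ?_⟩
  · have hm : _root_.Smoothing.jacobianMinor P.rel (Fin.castLE P.hcm) (Fin.castLE P.hcn) =
        ρ (Matrix.det (Matrix.of fun j k : L => pderiv (col k) (G (Sum.inl j)))) := by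
      rw [_root_.Smoothing.jacobianMinor, AlgEquiv.map_det, ← Matrix.det_submatrix_equiv_self eL.symm]
      congr 1
      refine Matrix.ext fun j k => ?_
      have h1 : eR.symm (Fin.castLE P.hcm j) = Sum.inl (eL.symm j) := by
        rw [Equiv.symm_apply_eq]
        ext
        simp [eR]
      have h2 : Fin.castLE P.hcn k = eV (col (eL.symm k)) := by
        rw [hcolV, Equiv.apply_symm_apply]
        rfl
      simp only [Matrix.of_apply, AlgEquiv.mapMatrix_apply, Matrix.submatrix_apply, Matrix.map_apply, P, rel]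
      rw [h1, h2]
      exact pderiv_rename eV.injective _ _
    rw [hm, ha']
    exact congrArg (a' * ·) (congrArg (Ideal.Quotient.mk _) (ρ.symm_apply_apply _)).symm
  · obtain ⟨t, ht⟩ : ∃ t, eR.symm j = Sum.inr t := by
      rcases h : eR.symm j with l | t
      · rw [Equiv.symm_apply_eq] at h
        have : (j : ℕ) < c := by rw [h]; simp [eR]
        exact absurd (lt_of_lt_of_le this (le_of_eq rfl)) (not_lt.mpr hj)
      · exact ⟨t, rfl⟩
    have hk := hkill (ρ.symm p) hp t
    have h2 := Ideal.mem_map_of_mem ρ hk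
    rw [map_mul, ρ.apply_symm_apply, Ideal.map_sup, Ideal.map_pow, Ideal.map_span, Ideal.map_span] at h2
    have hrj : ρ (G (Sum.inr t)) = rel j := by simp only [rel, ht]
    rw [hrj] at h2
    refine SetLike.le_def.mp ?_ h2
    refine sup_le_sup (Ideal.span_mono ?_) (Ideal.pow_right_mono (Ideal.span_mono ?_) 2)
    · rintro _ ⟨_, ⟨l, rfl⟩, rfl⟩
      exact ⟨eR (Sum.inl l), by simp [P, eR], by simp [P, rel]⟩
    · rintro _ ⟨_, ⟨l, rfl⟩, rfl⟩
      exact ⟨eR l, by simp [P, rel]⟩

variable {R A Λ Rs B' : Type u} [CommRing R] [CommRing A] [Algebra R A]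
    [CommRing Λ] [Algebra R Λ] (S : Submonoid R)
    [CommRing Rs] [Algebra R Rs] [IsLocalization S Rs]

theorem exists_smul_eq_one_tmul (z : Rs ⊗[R] Λ) :
    ∃ s ∈ S, ∃ l : Λ, algebraMap R Rs s • z = (1 : Rs) ⊗ₜ[R] l := by
  induction z using TensorProduct.induction_on with
  | zero => exact ⟨1, S.one_mem, 0, by simp⟩
  | tmul c l =>
    obtain ⟨⟨r, s⟩, hr⟩ := IsLocalization.surj S c
    refine ⟨s, s.2, r • l, ?_⟩
    rw [smul_tmul', smul_eq_mul, mul_comm, hr, tmul_smul, smul_tmul', Algebra.smul_def, mul_one]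
  | add x y hx hy =>
    obtain ⟨s, hs, l, hl⟩ := hx
    obtain ⟨s', hs', l', hl'⟩ := hy
    refine ⟨s * s', S.mul_mem hs hs', s' • l + s • l', ?_⟩
    rw [map_mul, smul_add, mul_comm (algebraMap R Rs s), mul_smul, hl, mul_comm, mul_smul, hl',
      tmul_add, tmul_smul, tmul_smul, algebraMap_smul, algebraMap_smul]

theorem exists_smul_eq_zero {l : Λ} (hl : (1 : Rs) ⊗ₜ[R] l = 0) : ∃ u ∈ S, u • l = 0 := by
  haveI : IsLocalizedModule S (TensorProduct.mk R Rs Λ 1) :=
    (isLocalizedModule_iff_isBaseChange S Rs _).mpr (TensorProduct.isBaseChange R Λ Rs)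
  obtain ⟨u, hu⟩ := (IsLocalizedModule.eq_zero_iff S (TensorProduct.mk R Rs Λ 1)).mp hl
  exact ⟨u, u.2, hu⟩

theorem exists_common {ι : Type*} [Finite ι] {M : Type u} [AddCommMonoid M] [Module R M] (P : M → Prop)
    (hP : ∀ (r : R) x, P x → P (r • x)) (x : ι → M) (h : ∀ i, ∃ u ∈ S, P (u • x i)) :
    ∃ u ∈ S, ∀ i, P (u • x i) := by
  classical
  cases nonempty_fintype ι
  choose u hu hP' using h
  refine ⟨∏ i, u i, S.prod_mem fun i _ => hu i, fun i => ?_⟩
  rw [← Finset.prod_erase_mul _ _ (Finset.mem_univ i), mul_smul]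
  exact hP _ _ (hP' i)

variable [CommRing B'] [Algebra Rs B'] [Algebra R B'] [IsScalarTower R Rs B']

/-- Integral models of a standard smooth algebra over the localisation. -/
theorem exists_model [Algebra.IsStandardSmooth Rs B'] (h : B' →ₐ[Rs] Rs ⊗[R] Λ) :
    ∃ (ι σ : Type) (_ : Finite ι) (_ : Fintype σ) (_ : DecidableEq σ) (col : σ → ι)
      (π : MvPolynomial ι R →ₐ[R] B') (l : ι → Λ) (F : σ → MvPolynomial ι R),
      Function.Injective col ∧ (∀ j, π (F j) = 0) ∧ (∀ j, aeval l (F j) = 0) ∧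
      (∀ p, h (π p) = (1 : Rs) ⊗ₜ[R] aeval l p) ∧
      (∀ p, π p = 0 → ∃ u ∈ S, C u * p ∈ Ideal.span (Set.range F)) ∧
      (∀ b : B', ∃ u ∈ S, ∃ p, π p = algebraMap R B' u * b) ∧
      IsUnit (π (Matrix.det (Matrix.of fun j k : σ => pderiv (col k) (F j)))) := by
  classical
  obtain ⟨ι, σ, _, _, ⟨P⟩⟩ := Algebra.IsStandardSmooth.out (R := Rs) (S := B')
  cases nonempty_fintype σ
  cases nonempty_fintype ι
  choose s₀ hs₀ l₀ hl₀ using fun i => exists_smul_eq_one_tmul (Λ := Λ) S (h (P.val i))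
  let s := ∏ i, s₀ i
  have hs : s ∈ S := S.prod_mem fun i _ => hs₀ i
  let l : ι → Λ := fun i => (∏ k ∈ Finset.univ.erase i, s₀ k) • l₀ i
  have hl : ∀ i, algebraMap R Rs s • h (P.val i) = (1 : Rs) ⊗ₜ[R] l i := fun i => by
    rw [show s = (∏ k ∈ Finset.univ.erase i, s₀ k) * s₀ i from (Finset.prod_erase_mul _ _ (Finset.mem_univ i)).symm,
      map_mul, mul_smul, hl₀, tmul_smul, algebraMap_smul]
  obtain ⟨iu, hiu⟩ : ∃ w : Rs, w * algebraMap R Rs s = 1 :=
    ⟨_, (IsLocalization.map_units Rs ⟨s, hs⟩).val_inv_mul⟩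
  let σs : MvPolynomial ι Rs →ₐ[Rs] MvPolynomial ι Rs := aeval fun i => C iu * X i
  let τs : MvPolynomial ι Rs →ₐ[Rs] MvPolynomial ι Rs := aeval fun i => C (algebraMap R Rs s) * X i
  have hτσ : ∀ p, τs (σs p) = p := by
    intro p
    have : τs.comp σs = AlgHom.id Rs _ := algHom_ext fun i => by
      simp only [AlgHom.comp_apply, σs, τs, aeval_X, map_mul, aeval_C, algebraMap_eq, AlgHom.id_apply]
      rw [← mul_assoc, ← map_mul, hiu, map_one, one_mul]
    exact AlgHom.congr_fun this p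
  have hστ : ∀ p, σs (τs p) = p := by
    intro p
    have : σs.comp τs = AlgHom.id Rs _ := algHom_ext fun i => by
      simp only [AlgHom.comp_apply, σs, τs, aeval_X, map_mul, aeval_C, algebraMap_eq, AlgHom.id_apply]
      rw [← mul_assoc, ← map_mul, mul_comm, mul_comm (algebraMap R Rs s), hiu, map_one, mul_one]
    exact AlgHom.congr_fun this p
  let πS : MvPolynomial ι Rs →ₐ[Rs] B' := aeval fun i => algebraMap R B' s * P.val i
  have hπS : ∀ p, πS p = aeval P.val (τs p) := by
    intro p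
    have : πS = (aeval P.val).comp τs := algHom_ext fun i => by
      simp [πS, τs, IsScalarTower.algebraMap_apply R Rs B']
    rw [this]; rfl
  letI : Algebra (MvPolynomial ι R) (MvPolynomial ι Rs) := MvPolynomial.algebraMvPolynomial
  haveI : IsLocalization (S.map (C (σ := ι))) (MvPolynomial ι Rs) := MvPolynomial.isLocalization S Rs
  let π : MvPolynomial ι R →ₐ[R] B' := aeval fun i => algebraMap R B' s * P.val i
  have hmap : ∀ p, π p = πS (MvPolynomial.map (algebraMap R Rs) p) := by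
    intro p
    rw [aeval_map_algebraMap]
  have hclear : ∀ q : MvPolynomial ι Rs, ∃ t ∈ S, ∃ F : MvPolynomial ι R,
      MvPolynomial.map (algebraMap R Rs) F = C (algebraMap R Rs t) * q := by
    intro q
    obtain ⟨⟨F, ⟨_, t, ht, rfl⟩⟩, hF⟩ := IsLocalization.surj (S.map (C (σ := ι))) q
    refine ⟨t, ht, F, ?_⟩
    simp only [algebraMap_def, MvPolynomial.map_C] at hF
    rw [← hF, mul_comm]
  choose t ht F₀ hF₀ using fun j => hclear (σs (P.relation j))
  have hlin : ∀ p, h (π p) = (1 : Rs) ⊗ₜ[R] aeval l p := by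
    intro p
    have : (h.restrictScalars R).comp π = Algebra.TensorProduct.includeRight.comp (aeval l) := by
      refine algHom_ext fun i => ?_
      simp only [AlgHom.comp_apply, AlgHom.restrictScalars_apply, π, aeval_X, map_mul,
        IsScalarTower.algebraMap_apply R Rs B', AlgHom.commutes, Algebra.TensorProduct.includeRight_apply, ← hl]
      rw [Algebra.smul_def]
    exact AlgHom.congr_fun this p
  have hπF₀ : ∀ j, π (F₀ j) = 0 := fun j => by
    rw [hmap, hF₀, map_mul, hπS (σs _), hτσ, P.aeval_val_relation, mul_zero]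
  obtain ⟨u, hu, huF⟩ := exists_common S (fun x : Λ => x = 0) (fun r x hx => by rw [hx, smul_zero])
    (fun j => aeval l (F₀ j)) fun j => exists_smul_eq_zero (Rs := Rs) S (by rw [← hlin, hπF₀, map_zero])
  let F : σ → MvPolynomial ι R := fun j => C u * F₀ j
  have hF : ∀ j, MvPolynomial.map (algebraMap R Rs) (F j) =
      C (algebraMap R Rs (u * t j)) * σs (P.relation j) := fun j => by
    simp [F, hF₀, mul_assoc]
  have hunit : ∀ j, IsUnit (C (σ := ι) (algebraMap R Rs (u * t j))) := fun j =>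
    (IsLocalization.map_units Rs (⟨u * t j, S.mul_mem hu (ht j)⟩ : S)).map C
  refine ⟨ι, σ, inferInstance, inferInstance, inferInstance, P.map, π, l, F, P.map_inj,
    fun j => by simp [F, hπF₀], fun j => ?_, hlin, fun p hp => ?_, fun b => ?_, ?_⟩
  · simpa [F, Algebra.smul_def] using huF j
  · rw [hmap, hπS] at hp
    have h1 : τs (MvPolynomial.map (algebraMap R Rs) p) ∈ Ideal.span (Set.range P.relation) := by
      rw [P.span_range_relation_eq_ker, Algebra.Generators.ker_eq_ker_aeval_val]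
      exact hp
    have h2 := Ideal.mem_map_of_mem σs h1
    rw [hστ, Ideal.map_span] at h2
    have h3 : Ideal.span (σs '' Set.range P.relation) ≤
        (Ideal.span (Set.range F)).map (algebraMap (MvPolynomial ι R) (MvPolynomial ι Rs)) := by
      rw [Ideal.span_le]
      rintro _ ⟨_, ⟨j, rfl⟩, rfl⟩
      rw [SetLike.mem_coe, ← (Ideal.unit_mul_mem_iff_mem _ (hunit j)), ← hF]
      exact Ideal.mem_map_of_mem _ (Ideal.subset_span ⟨j, rfl⟩)
    obtain ⟨_, ⟨w, hw, rfl⟩, hwp⟩ := (IsLocalization.algebraMap_mem_map_algebraMap_iff (S.map (C (σ := ι)))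
      (MvPolynomial ι Rs) _ p).mp (h3 h2)
    exact ⟨w, hw, hwp⟩
  · obtain ⟨q, rfl⟩ := P.algebraMap_surjective b
    obtain ⟨w, hw, p, hp⟩ := hclear (σs q)
    refine ⟨w, hw, p, ?_⟩
    rw [hmap, hp, map_mul, hπS (σs q), hτσ, ← algebraMap_eq, AlgHom.commutes, ← IsScalarTower.algebraMap_apply, P.algebraMap_eq]
    rfl
  · have hd : ∀ (k : ι) (q : MvPolynomial ι Rs), pderiv k (σs q) = C iu * σs (pderiv k q) := by
      intro k q
      induction q using MvPolynomial.induction_on with
      | C r => simp [σs, algebraMap_eq]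
      | add p q hp hq => simp [map_add, hp, hq, mul_add]
      | mul_X p i hp =>
        rw [map_mul, Derivation.leibniz, hp, Derivation.leibniz]
        simp only [σs, aeval_X, smul_eq_mul, map_add, map_mul, pderiv_C_mul]
        by_cases hik : i = k
        · subst hik; simp; ring
        · simp [pderiv_X_of_ne hik]; ring
    have hentry : ∀ j k, π (pderiv (P.map k) (F j)) =
        algebraMap R B' (u * t j) * algebraMap Rs B' iu * aeval P.val (pderiv (P.map k) (P.relation j)) := by
      intro j k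
      rw [hmap, ← pderiv_map, hF, pderiv_C_mul, hd, map_mul, map_mul πS (C iu), hπS (σs _), hτσ, ← algebraMap_eq,
        AlgHom.commutes, AlgHom.commutes, ← IsScalarTower.algebraMap_apply, mul_assoc]
    have hJ : IsUnit (Matrix.det (Matrix.of fun j k => aeval P.val (pderiv (P.map k) (P.relation j)))) := by
      have h := P.jacobian_isUnit
      rw [P.jacobian_eq_jacobiMatrix_det, P.algebraMap_eq] at h
      rw [← Matrix.det_transpose]
      change IsUnit (aeval P.val P.jacobiMatrix.det) at h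
      rw [AlgHom.map_det] at h
      convert h using 2
      ext j k
      simp [P.jacobiMatrix_apply]
    rw [AlgHom.map_det]
    have hM : (π.mapMatrix (Matrix.of fun j k : σ => pderiv (P.map k) (F j))) =
        Matrix.diagonal (fun j => algebraMap R B' (u * t j) * algebraMap Rs B' iu) *
          Matrix.of fun j k => aeval P.val (pderiv (P.map k) (P.relation j)) := by
      ext j k
      simp [Matrix.diagonal_mul, hentry]
    rw [hM, Matrix.det_mul, Matrix.det_diagonal]
    refine IsUnit.mul (IsUnit.prod_iff.mpr fun j _ => IsUnit.mul ?_ ?_) hJ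
    · rw [IsScalarTower.algebraMap_apply R Rs B']
      exact (IsLocalization.map_units Rs (⟨u * t j, S.mul_mem hu (ht j)⟩ : S)).map _
    · exact (IsUnit.of_mul_eq_one _ hiu).map _

theorem delocalize [Algebra.FinitePresentation R A] (φ : A →ₐ[R] Λ) [Algebra.Smooth Rs B']
    (g : Rs ⊗[R] A →ₐ[Rs] B') (h : B' →ₐ[Rs] Rs ⊗[R] Λ)
    (hgh : h.comp g = Algebra.TensorProduct.map (AlgHom.id Rs Rs) φ) :
    ∃ (B : Type u) (_ : CommRing B) (_ : Algebra R B) (α : A →ₐ[R] B) (β : B →ₐ[R] Λ),
      β.comp α = φ ∧ ∃ s ∈ S, _root_.Smoothing.IsElementaryStandard R B (algebraMap R B s) := by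
  classical
  obtain ⟨B₂, _, _, _, _, -, ⟨ρ⟩, hstd⟩ := StdRetract.exists_retract (R := Rs) (A := B')
  haveI := hstd
  letI : Algebra R B₂ := ((algebraMap Rs B₂).comp (algebraMap R Rs)).toAlgebra
  haveI : IsScalarTower R Rs B₂ := IsScalarTower.of_algebraMap_eq' rfl
  let g₂ : Rs ⊗[R] A →ₐ[Rs] B₂ := (IsScalarTower.toAlgHom Rs B' B₂).comp g
  let h₂ : B₂ →ₐ[Rs] Rs ⊗[R] Λ := h.comp (ρ.restrictScalars Rs)
  have hgh₂ : ∀ a : A, h₂ (g₂ (1 ⊗ₜ[R] a)) = (1 : Rs) ⊗ₜ[R] φ a := fun a => by
    have h1 := AlgHom.congr_fun hgh (1 ⊗ₜ[R] a)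
    simpa [g₂, h₂] using h1
  obtain ⟨ι, σ, _, _, _, col, π, l, F, hcol, hπF, hlF, hlin, hπker, hπsurj, hJ⟩ :=
    exists_model S h₂
  obtain ⟨m, ψ, hψ, sf, hsf⟩ := Algebra.FinitePresentation.out (R := R) (A := A)
  choose s₀ hs₀ q₀ hq₀ using fun i : Fin m => hπsurj (g₂ (1 ⊗ₜ[R] ψ (X i)))
  have hex : ∀ i, ∃ w ∈ S, w • (aeval l (q₀ i) - s₀ i • φ (ψ (X i))) = 0 := fun i => by
    refine exists_smul_eq_zero (Rs := Rs) S ?_
    rw [tmul_sub, ← hlin, hq₀, tmul_smul, map_mul, hgh₂, IsScalarTower.algebraMap_apply R Rs B₂,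
      AlgHom.commutes, ← Algebra.smul_def, algebraMap_smul, sub_self]
  choose w hw hwq using hex
  let s : Fin m → R := fun i => w i * s₀ i
  let q : Fin m → MvPolynomial ι R := fun i => C (w i) * q₀ i
  have hs : ∀ i, s i ∈ S := fun i => S.mul_mem (hw i) (hs₀ i)
  have hq : ∀ i, aeval l (q i) = s i • φ (ψ (X i)) := fun i => by
    have h1 := hwq i
    rw [smul_sub, sub_eq_zero, smul_smul] at h1
    simpa [q, s, Algebra.smul_def] using h1
  have hqπ : ∀ i, π (q i) = algebraMap R B₂ (s i) * g₂ (1 ⊗ₜ[R] ψ (X i)) := fun i => by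
    simp [q, s, hq₀, mul_assoc]
  let V := ι ⊕ Fin m
  let G : (σ ⊕ Fin m) ⊕ sf → MvPolynomial V R := Sum.elim
    (Sum.elim (fun j => rename Sum.inl (F j)) fun i => C (s i) * X (Sum.inr i) - rename Sum.inl (q i))
    (fun r => rename Sum.inr (r : MvPolynomial (Fin m) R))
  have hsub : ∀ r ∈ sf, ψ r = 0 := fun r hr => by
    have : r ∈ RingHom.ker ψ.toRingHom := hsf ▸ Ideal.subset_span hr
    exact this
  let βV : MvPolynomial V R →ₐ[R] Λ := aeval (Sum.elim l fun i => φ (ψ (X i)))
  have hβl : ∀ p, βV (rename Sum.inl p) = aeval l p := fun p => by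
    show aeval _ (rename Sum.inl p) = _
    rw [aeval_rename]; rfl
  have hβr : ∀ p, βV (rename Sum.inr p) = φ (ψ p) := fun p => by
    show aeval _ (rename Sum.inr p) = _
    rw [aeval_rename, ← AlgHom.comp_apply φ ψ]
    exact AlgHom.congr_fun (algHom_ext fun i => by simp) p
  let I := Ideal.span (Set.range G)
  have hβ : ∀ x ∈ I, βV x = 0 := fun x hx => by
    refine (Ideal.span_le (I := RingHom.ker βV)).mpr ?_ hx
    rintro _ ⟨(j | i) | r, rfl⟩ <;> simp only [SetLike.mem_coe, RingHom.mem_ker, G, Sum.elim_inl, Sum.elim_inr]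
    · rw [hβl, hlF]
    · rw [map_sub, map_mul, hβl, hq, ← algebraMap_eq, AlgHom.commutes]
      simp [βV, Algebra.smul_def]
    · rw [hβr, hsub _ r.2, map_zero]
  let e : (MvPolynomial (Fin m) R ⧸ RingHom.ker ψ) ≃ₐ[R] A := Ideal.quotientKerAlgEquivOfSurjective hψ
  let αV : MvPolynomial (Fin m) R →ₐ[R] MvPolynomial V R ⧸ I :=
    (Ideal.Quotient.mkₐ R I).comp (rename Sum.inr)
  have hz : ∀ r ∈ RingHom.ker ψ, αV r = 0 := fun r hr => by
    have hr' : r ∈ Ideal.span (sf : Set (MvPolynomial (Fin m) R)) := hsf.symm ▸ hr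
    exact (Ideal.span_le (I := RingHom.ker αV)).mpr
      (fun x hx => Ideal.Quotient.eq_zero_iff_mem.mpr (Ideal.subset_span ⟨Sum.inr ⟨x, hx⟩, rfl⟩)) hr'
  let α : A →ₐ[R] MvPolynomial V R ⧸ I := (Ideal.Quotient.liftₐ _ αV hz).comp e.symm.toAlgHom
  let β : (MvPolynomial V R ⧸ I) →ₐ[R] Λ := Ideal.Quotient.liftₐ I βV hβ
  refine ⟨MvPolynomial V R ⧸ I, inferInstance, inferInstance, α, β, AlgHom.ext fun a => ?_, ?_⟩
  · obtain ⟨p, rfl⟩ := hψ a
    have he : e.symm (ψ p) = Ideal.Quotient.mk _ p := by rw [AlgEquiv.symm_apply_eq]; rfl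
    simp only [α, AlgHom.comp_apply, AlgEquiv.coe_toAlgHom, he]
    exact hβr p
  let Lead := Ideal.span (Set.range (G ∘ Sum.inl))
  let πV : MvPolynomial V R →ₐ[R] B₂ := aeval (Sum.elim (fun i => π (X i)) fun i => g₂ (1 ⊗ₜ[R] ψ (X i)))
  have hπl : ∀ p, πV (rename Sum.inl p) = π p := fun p => by
    show aeval _ (rename Sum.inl p) = _
    rw [aeval_rename]
    exact AlgHom.congr_fun (algHom_ext fun i => by simp) p
  have hπr : ∀ p, πV (rename Sum.inr p) = g₂ (1 ⊗ₜ[R] ψ p) := fun p => by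
    show aeval _ (rename Sum.inr p) = _
    rw [aeval_rename]
    have : aeval (Sum.elim (fun i => π (X i)) (fun i => g₂ (1 ⊗ₜ[R] ψ (X i))) ∘ Sum.inr) =
        ((g₂.restrictScalars R).comp Algebra.TensorProduct.includeRight).comp ψ :=
      algHom_ext fun i => by simp
    exact AlgHom.congr_fun this p
  have hLπ : ∀ x ∈ Lead, πV x = 0 := fun x hx => by
    refine (Ideal.span_le (I := RingHom.ker πV)).mpr ?_ hx
    rintro _ ⟨j | i, rfl⟩ <;> simp only [SetLike.mem_coe, RingHom.mem_ker, G, Function.comp_apply,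
      Sum.elim_inl, Sum.elim_inr]
    · rw [hπl, hπF]
    · rw [map_sub, map_mul, hπl, hqπ, ← algebraMap_eq, AlgHom.commutes]
      simp [πV]
  have hred : ∀ p : MvPolynomial V R, ∃ v ∈ S, ∃ p₀, C v * p - rename Sum.inl p₀ ∈ Lead := by
    intro p
    induction p using MvPolynomial.induction_on with
    | C r => exact ⟨1, S.one_mem, C r, by simp⟩
    | add p p' hp hp' =>
      obtain ⟨v, hv, p₀, h₀⟩ := hp
      obtain ⟨v', hv', p₀', h₀'⟩ := hp'
      refine ⟨v * v', S.mul_mem hv hv', C v' * p₀ + C v * p₀', ?_⟩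
      have := add_mem (Lead.mul_mem_left (C v') h₀) (Lead.mul_mem_left (C v) h₀')
      convert this using 1
      simp only [map_mul, map_add, rename_C]
      ring
    | mul_X p i hp =>
      obtain ⟨v, hv, p₀, h₀⟩ := hp
      rcases i with i | i
      · refine ⟨v, hv, p₀ * X i, ?_⟩
        have := Lead.mul_mem_right (X (Sum.inl i)) h₀
        convert this using 1
        simp only [map_mul, rename_X]
        ring
      · refine ⟨v * s i, S.mul_mem hv (hs i), p₀ * q i, ?_⟩
        have := add_mem (Lead.mul_mem_right (C (s i) * X (Sum.inr i)) h₀)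
          (Lead.mul_mem_left (rename Sum.inl p₀) (Ideal.subset_span ⟨Sum.inr i, rfl⟩ :
            C (s i) * X (Sum.inr i) - rename Sum.inl (q i) ∈ Lead))
        convert this using 1
        simp only [map_mul, rename_C]
        ring
  have hzero : ∀ p, πV p = 0 → ∃ v ∈ S, C v * p ∈ Lead := by
    intro p hp
    obtain ⟨v, hv, p₀, h₀⟩ := hred p
    have h1 := hLπ _ h₀
    rw [map_sub, map_mul, hp, mul_zero, zero_sub, neg_eq_zero, hπl] at h1
    obtain ⟨v', hv', h2⟩ := hπker p₀ h1
    refine ⟨v' * v, S.mul_mem hv' hv, ?_⟩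
    have h3 : rename Sum.inl (C v' * p₀) ∈ Lead := by
      have h4 := Ideal.mem_map_of_mem (rename (R := R) (Sum.inl : ι → V)) h2
      rw [Ideal.map_span] at h4
      refine Ideal.span_mono ?_ h4
      rintro _ ⟨_, ⟨j, rfl⟩, rfl⟩
      exact ⟨Sum.inl j, rfl⟩
    have h5 := add_mem (Lead.mul_mem_left (C v') h₀) h3
    rwa [map_mul (rename (R := R) (Sum.inl : ι → V)), rename_C, ← mul_add, sub_add_cancel, ← mul_assoc,
      ← map_mul] at h5
  obtain ⟨ut, hut, hT⟩ := exists_common S (M := MvPolynomial V R) (fun x => x ∈ Lead)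
    (fun r x hx => by rw [smul_eq_C_mul]; exact Lead.mul_mem_left _ hx)
    (fun r : sf => G (Sum.inr r)) fun r => by
      obtain ⟨v, hv, h⟩ := hzero (G (Sum.inr r)) (by
        simp only [G, Sum.elim_inr, hπr, hsub _ r.2, tmul_zero, map_zero])
      exact ⟨v, hv, by rwa [smul_eq_C_mul]⟩
  let J := Matrix.det (Matrix.of fun j k : σ => pderiv (col k) (F j))
  obtain ⟨v, hv, p, hp⟩ := hπsurj (↑hJ.unit⁻¹)
  obtain ⟨v', hv', hpJ⟩ := hπker (p * J - C v) (by
    rw [map_sub, map_mul, hp, mul_assoc, IsUnit.val_inv_mul, mul_one, ← algebraMap_eq, AlgHom.commutes, sub_self])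
  refine ⟨(v' * v) * (∏ i, s i) * ut, S.mul_mem (S.mul_mem (S.mul_mem hv' hv) (S.prod_mem fun i _ => hs i)) hut,
    isElementaryStandard_of_presentation G (Sum.map col id) (hcol.sumMap Function.injective_id) _ ?_ ?_⟩
  · refine ⟨Ideal.Quotient.mk _ (C (v' * ut) * rename Sum.inl p), ?_⟩
    have hdet : Matrix.det (Matrix.of fun j k : σ ⊕ Fin m => pderiv (Sum.map col id k) (G (Sum.inl j))) =
        rename Sum.inl J * C (∏ i, s i) := by
      have hM : (Matrix.of fun j k : σ ⊕ Fin m => pderiv (Sum.map col id k) (G (Sum.inl j))) =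
          Matrix.fromBlocks ((Matrix.of fun j k : σ => pderiv (col k) (F j)).map (rename Sum.inl)) 0
            (Matrix.of fun i k => -rename Sum.inl (pderiv (col k) (q i)))
            (Matrix.diagonal fun i => C (s i)) := by
        have hne : ∀ (i : Fin m) (x : MvPolynomial ι R),
            pderiv (Sum.inr i : V) (rename Sum.inl x) = 0 := fun i x => by
          induction x using MvPolynomial.induction_on with
          | C r => simp
          | add p q hp hq => simp [map_add, hp, hq]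
          | mul_X p k hp => simp [map_mul, hp, Derivation.leibniz]
        ext (j | i) (k | k) : 1 <;>
          simp [G, hne, pderiv_rename Sum.inl_injective, pderiv_C_mul, Matrix.diagonal_apply, Pi.single_apply,
            eq_comm]
      rw [hM, Matrix.det_fromBlocks_zero₁₂, Matrix.det_diagonal, map_prod]
      congr 1
      exact (AlgHom.map_det (rename Sum.inl) _).symm
    rw [hdet, ← Ideal.Quotient.mk_algebraMap, ← map_mul, algebraMap_eq, eq_comm, Ideal.Quotient.eq]
    have h1 : rename Sum.inl (C v' * (p * J - C v)) ∈ I := by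
      have h4 := Ideal.mem_map_of_mem (rename (R := R) (Sum.inl : ι → V)) hpJ
      rw [Ideal.map_span] at h4
      refine Ideal.span_mono ?_ h4
      rintro _ ⟨_, ⟨j, rfl⟩, rfl⟩
      exact ⟨Sum.inl (Sum.inl j), rfl⟩
    convert I.mul_mem_left (C (ut * ∏ i, s i)) h1 using 1
    simp only [map_mul, map_sub, rename_C]
    ring
  · intro a₁ ha₁ r
    set a := (v' * v) * (∏ i, s i) * ut
    have h1 : a₁ - C a ∈ I := by
      rw [← Ideal.Quotient.eq, ha₁, ← algebraMap_eq, Ideal.Quotient.mk_algebraMap]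
    rw [show a₁ * G (Sum.inr r) = C ((v' * v) * ∏ i, s i) * (ut • G (Sum.inr r)) + (a₁ - C a) * G (Sum.inr r) by
      rw [smul_eq_C_mul, ← mul_assoc, ← map_mul, ← add_mul, add_sub_cancel]]
    refine add_mem (Ideal.mem_sup_left (Lead.mul_mem_left _ (hT r))) (Ideal.mem_sup_right ?_)
    rw [pow_two]
    exact Ideal.mul_mem_mul h1 (Ideal.subset_span ⟨_, rfl⟩)

end Groth.L14.Smoothing.Delocalize
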