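import Groth.Agent.L14.Smoothing.AwayPres
import Mathlib.RingTheory.Smooth.Locus
import Mathlib.LinearAlgebra.Matrix.Adjugate
import Mathlib.LinearAlgebra.Matrix.Rank
import Mathlib.RingTheory.Localization.Ideal
import Mathlib.Logic.Equiv.Fintype

/-!
Strictly standard elements and smoothness.
-/

open MvPolynomial

namespace Groth.L14.Smoothing

universe u

variable {R A : Type u} [CommRing R] [CommRing A] [Algebra R A]

theorem finitePresentation_of_marked (P : _root_.Smoothing.MarkedPresentation R A) :
    Algebra.FinitePresentation R A := by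
  classical
  refine ⟨⟨P.n, P.hom, P.surj, ⟨Finset.univ.image P.rel, ?_⟩⟩⟩
  rw [Finset.coe_image, Finset.coe_univ, Set.image_univ, P.ker_eq]

theorem smooth_of_strictlyStandard (a : A) (ha : _root_.Smoothing.IsStrictlyStandard R A a) :
    Algebra.Smooth R (Localization.Away a) ∧
      ∃ p q : ℕ, Nonempty ((Ω[Localization.Away a⁄R] × (Fin p → Localization.Away a)) ≃ₗ[Localization.Away a]
        (Fin q → Localization.Away a)) := by
  classical
  obtain ⟨P, hmem, hkill⟩ := ha
  haveI := finitePresentation_of_marked P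
  haveI : Algebra.FinitePresentation A (Localization.Away a) := IsLocalization.Away.finitePresentation a
  haveI : Algebra.FinitePresentation R (Localization.Away a) := .trans _ A _
  obtain ⟨pa, hpa⟩ := P.surj a
  let F : Fin P.c → MvPolynomial (Fin P.n) R := P.rel ∘ Fin.castLE P.hcm
  have hrel0 : ∀ j, P.hom (P.rel j) = 0 := fun j =>
    RingHom.mem_ker.mp (show P.rel j ∈ RingHom.ker P.hom.toRingHom from P.ker_eq ▸ Ideal.subset_span ⟨j, rfl⟩)
  let M : Matrix (Fin P.c) (Fin P.n) (Localization.Away a) :=
    Matrix.of fun t i => algebraMap A _ (P.hom (pderiv i (F t)))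
  obtain ⟨b, hb⟩ := Ideal.mem_span_range_iff_exists_fun.mp hmem
  let ai : Localization.Away a := IsLocalization.Away.invSelf a
  let sel : (Fin P.c → Fin P.n) → Matrix (Fin P.n) (Fin P.c) (Localization.Away a) := fun S =>
    Matrix.of fun i k => if S k = i then 1 else 0
  have hsel : ∀ S, M * sel S = M.submatrix id S := by
    intro S
    ext t k
    simp [sel, Matrix.mul_apply]
  have hdet : ∀ S : Fin P.c → Fin P.n, (M.submatrix id S).det =
      algebraMap A _ (P.hom (_root_.Smoothing.jacobianMinor P.rel (Fin.castLE P.hcm) S)) := by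
    intro S
    rw [_root_.Smoothing.jacobianMinor, AlgHom.map_det, RingHom.map_det]
    rfl
  let N : Matrix (Fin P.n) (Fin P.c) (Localization.Away a) :=
    ai • ∑ S, algebraMap A (Localization.Away a) (b S) • (sel S * (M.submatrix id S).adjugate)
  have hMN : M * N = 1 := by
    have h1 : ∀ S, M * (algebraMap A (Localization.Away a) (b S) • (sel S * (M.submatrix id S).adjugate)) =
        (algebraMap A (Localization.Away a) (b S) * (M.submatrix id S).det) •
          (1 : Matrix (Fin P.c) (Fin P.c) (Localization.Away a)) := fun S => by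
      rw [Matrix.mul_smul, ← Matrix.mul_assoc, hsel, Matrix.mul_adjugate, smul_smul]
    rw [Matrix.mul_smul, Matrix.mul_sum, Finset.sum_congr rfl fun S _ => h1 S, ← Finset.sum_smul, smul_smul]
    simp only [hdet, ← map_mul, ← map_sum, hb]
    rw [mul_comm, IsLocalization.Away.mul_invSelf, one_smul]
  have hrange : Set.range F = P.rel '' {j' : Fin P.m | (j' : ℕ) < P.c} := by
    ext x
    constructor
    · rintro ⟨t, rfl⟩; exact ⟨_, t.isLt, rfl⟩
    · rintro ⟨j, hj, rfl⟩; exact ⟨⟨j, hj⟩, rfl⟩
  have hk' : ∀ j, pa * P.rel j ∈ Ideal.span (Set.range F) ⊔ Ideal.span (Set.range P.rel) ^ 2 := fun j => by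
    by_cases hj : (j : ℕ) < P.c
    · exact Ideal.mem_sup_left (Ideal.mul_mem_left _ _ (Ideal.subset_span ⟨⟨j, hj⟩, rfl⟩))
    · rw [hrange]; exact hkill pa hpa j (not_lt.mp hj)
  obtain ⟨hfs, ⟨e⟩⟩ := split_away hpa P.surj F (fun t => hrel0 _) P.rel P.ker_eq hk' (fun i t => N i t)
    (fun s t => by
      have := congrFun (congrFun hMN s) t
      simpa [Matrix.mul_apply, Matrix.one_apply, M] using this)
  refine ⟨⟨hfs, inferInstance⟩, P.c + 1, P.n + 1, ⟨?_⟩⟩
  exact ((LinearEquiv.refl _ _).prodCongr (LinearEquiv.funCongrLeft _ _ (finSuccEquiv P.c).symm)) ≪≫ₗ e ≪≫ₗ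
      (LinearEquiv.funCongrLeft _ _ (finSuccEquiv P.n))

theorem exists_standard_element {n m : ℕ} (f : Fin m → MvPolynomial (Fin n) R)
    (φ : MvPolynomial (Fin n) R →ₐ[R] A) (hφ : Function.Surjective φ)
    (hker : RingHom.ker φ.toRingHom = Ideal.span (Set.range f)) (q : Ideal A) [q.IsPrime] [Algebra.IsSmoothAt R q] :
    ∃ a : A, a ∉ q ∧ ∃ (c : ℕ) (rows : Fin c ↪ Fin m) (cols : Fin c ↪ Fin n) (a' : A),
      a = a' * φ (_root_.Smoothing.jacobianMinor f rows cols) ∧
      ∀ a₁ : MvPolynomial (Fin n) R, φ a₁ = a → ∀ ℓ : Fin m,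
        a₁ * f ℓ ∈ Ideal.span (Set.range (f ∘ rows)) ⊔ Ideal.span (Set.range f) ^ 2 := by
  classical
  haveI hFP : Algebra.FinitePresentation R A := by
    refine ⟨⟨n, φ, hφ, ⟨Finset.univ.image f, ?_⟩⟩⟩
    rw [Finset.coe_image, Finset.coe_univ, Set.image_univ, hker]
  have hf0 : ∀ l, φ (f l) = 0 := fun l =>
    RingHom.mem_ker.mp (show f l ∈ RingHom.ker φ.toRingHom from hker ▸ Ideal.subset_span ⟨l, rfl⟩)
  obtain ⟨g, hgq, hsm⟩ := Algebra.IsSmoothAt.exists_notMem_smooth R q
  obtain ⟨pg, hpg⟩ := hφ g
  -- the Jacobian matrix at the residue field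
  let κ := q.ResidueField
  let row : Fin m → (Fin n → κ) := fun l i => algebraMap A κ (φ (pderiv i (f l)))
  obtain ⟨ι, r, hr, hspan, hli⟩ := exists_linearIndependent' κ row
  haveI : Fintype ι := Fintype.ofInjective r hr
  let c := Fintype.card ι
  let eι := Fintype.equivFin ι
  let rows : Fin c ↪ Fin m := ⟨r ∘ eι.symm, hr.comp eι.symm.injective⟩
  have hli' : LinearIndependent κ (row ∘ rows) := hli.comp _ eι.symm.injective
  have hspan' : Submodule.span κ (Set.range (row ∘ rows)) = Submodule.span κ (Set.range row) := by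
    rw [← hspan]
    congr 1
    exact (eι.symm.surjective.range_comp (row ∘ r))
  -- the columns
  let col : Fin n → (Fin c → κ) := fun i k => row (rows k) i
  obtain ⟨ι', r', hr', hspan2, hli2⟩ := exists_linearIndependent' κ col
  haveI : Fintype ι' := Fintype.ofInjective r' hr'
  have hcard : Fintype.card ι' = c := by
    have h1 := finrank_span_eq_card hli2
    have h2 : Module.finrank κ ↥(Submodule.span κ (Set.range col)) = c := by
      let Mx : Matrix (Fin c) (Fin n) κ := Matrix.of fun k i => row (rows k) i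
      have hrank : Mx.rank = c := by
        have := LinearIndependent.rank_matrix (M := Mx) (show LinearIndependent κ Mx.row from hli')
        rwa [Fintype.card_fin] at this
      calc Module.finrank κ ↥(Submodule.span κ (Set.range col)) = Mx.rank := by
            rw [Matrix.rank_eq_finrank_span_cols]; rfl
        _ = c := hrank
    rw [← h1, hspan2, h2]
  let eι' := Fintype.equivFinOfCardEq hcard
  let cols : Fin c ↪ Fin n := ⟨r' ∘ eι'.symm, hr'.comp eι'.symm.injective⟩
  have hminor : φ (_root_.Smoothing.jacobianMinor f rows cols) ∉ q := by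
    intro hmem
    have h0 : algebraMap A κ (φ (_root_.Smoothing.jacobianMinor f rows cols)) = 0 :=
      Ideal.algebraMap_residueField_eq_zero.mpr hmem
    rw [_root_.Smoothing.jacobianMinor, AlgHom.map_det, RingHom.map_det] at h0
    have hu : IsUnit ((algebraMap A κ).mapMatrix
        (φ.mapMatrix (Matrix.of fun j k : Fin c => pderiv (cols k) (f (rows j))))) := by
      rw [← Matrix.linearIndependent_cols_iff_isUnit]
      exact hli2.comp _ eι'.symm.injective
    rw [Matrix.isUnit_iff_isUnit_det, h0] at hu
    exact not_isUnit_zero hu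
  -- coefficients of the remaining rows
  have hcomb : ∀ l, ∃ (b : A) (_ : b ∉ q) (co : Fin c → A),
      ∀ i, b * φ (pderiv i (f l)) - ∑ s, co s * φ (pderiv i (f (rows s))) ∈ q := by
    intro l
    have hmem : row l ∈ Submodule.span κ (Set.range (row ∘ rows)) := hspan' ▸ Submodule.subset_span ⟨l, rfl⟩
    obtain ⟨lam, hlam⟩ := (Submodule.mem_span_range_iff_exists_fun κ).mp hmem
    obtain ⟨⟨b, hb⟩, hint⟩ := IsLocalization.exist_integer_multiples_of_finite
      (nonZeroDivisors (A ⧸ q)) (S := κ) lam
    obtain ⟨b', rfl⟩ := Ideal.Quotient.mk_surjective b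
    have hb' : b' ∉ q := fun h => nonZeroDivisors.ne_zero hb (Ideal.Quotient.eq_zero_iff_mem.mpr h)
    choose co hco using fun s => hint s
    choose co' hco' using fun s => Ideal.Quotient.mk_surjective (co s)
    refine ⟨b', hb', co', fun i => ?_⟩
    rw [← Ideal.algebraMap_residueField_eq_zero, map_sub, map_mul, map_sum]
    have hli := congrFun hlam i
    simp only [Finset.sum_apply, Pi.smul_apply, Function.comp_apply, smul_eq_mul] at hli
    show algebraMap A κ b' * row l i - ∑ s, algebraMap A κ (co' s * φ (pderiv i (f (rows s)))) = 0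
    rw [← hli, Finset.mul_sum, sub_eq_zero]
    refine Finset.sum_congr rfl fun s _ => ?_
    have h' := hco s
    rw [← hco' s, Algebra.smul_def] at h'
    rw [map_mul, ← mul_assoc]
    congr 1
    exact h'.symm
  choose bb hbb co hco using hcomb
  -- the presentation of `A_g`
  let S := Localization.Away g
  let π := awayHom φ g
  have hπ : Function.Surjective π := awayHom_surjective φ g hφ
  letI : Algebra (MvPolynomial (Option (Fin n)) R) S := π.toRingHom.toAlgebra
  haveI : IsScalarTower R (MvPolynomial (Option (Fin n)) R) S :=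
    IsScalarTower.of_algebraMap_eq fun r => (π.commutes r).symm
  obtain ⟨l, hl⟩ := (Algebra.FormallySmooth.iff_split_injection (R := R) (P := MvPolynomial (Option (Fin n)) R)
    (A := S) hπ).mp hsm.formallySmooth
  let J := RingHom.ker (algebraMap (MvPolynomial (Option (Fin n)) R) S)
  let K : Ideal (MvPolynomial (Option (Fin n)) R) :=
    Ideal.span (Set.range fun o : Option (Fin m) => o.elim (invRel pg) fun j => rename some (f j))
  have hKJ : J ≤ K := fun p hp => ker_awayHom_le hpg f hker.le K (Ideal.subset_span ⟨none, rfl⟩)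
    (fun j => Ideal.subset_span ⟨some j, rfl⟩) hp
  have hgJ : invRel pg ∈ J := awayHom_invRel φ g hpg
  have hfJ : ∀ j, rename some (f j) ∈ J := fun j => by
    show π (rename some (f j)) = 0
    rw [awayHom_rename, hf0, map_zero]
  let w0 : J.Cotangent := J.toCotangent ⟨_, hgJ⟩
  let v : Fin m → J.Cotangent := fun j => J.toCotangent ⟨_, hfJ j⟩
  let N : Submodule (MvPolynomial (Option (Fin n)) R) J.Cotangent :=
    Submodule.span _ (Set.range fun o : Option (Fin c) => o.elim w0 fun s => v (rows s))
  have hw0 : w0 ∈ N := Submodule.subset_span ⟨none, rfl⟩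
  have hvN : ∀ s, v (rows s) ∈ N := fun s => Submodule.subset_span ⟨some s, rfl⟩
  have hgen : ∀ x : J.Cotangent, ∃ W : Fin m → MvPolynomial (Option (Fin n)) R, x - ∑ j, W j • v j ∈ N := by
    intro x
    obtain ⟨⟨p, hp⟩, rfl⟩ := J.toCotangent_surjective x
    obtain ⟨W, hW⟩ := Ideal.mem_span_range_iff_exists_fun.mp (hKJ hp)
    refine ⟨fun j => W (some j), ?_⟩
    have : J.toCotangent ⟨p, hp⟩ - ∑ j, W (some j) • v j = W none • w0 := by
      simp only [v, w0, ← map_smul, ← map_sum, ← map_sub]
      congr 1
      apply Subtype.ext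
      rw [AddSubgroupClass.coe_sub, AddSubmonoidClass.coe_finsetSum]
      show p - ∑ j, W (some j) * rename some (f j) = W none * invRel pg
      rw [← hW, Fintype.sum_option]
      simp
    rw [this]
    exact N.smul_mem _ hw0
  choose W hW using fun i : Fin n =>
    hgen (l ((1 : S) ⊗ₜ KaehlerDifferential.D R (MvPolynomial (Option (Fin n)) R) (X (some i))))
  -- expansion through the retraction
  have hexp : ∀ j, v j = ∑ i, rename some (pderiv i (f j)) •
      l ((1 : S) ⊗ₜ KaehlerDifferential.D R (MvPolynomial (Option (Fin n)) R) (X (some i))) := by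
    intro j
    have h1 := LinearMap.congr_fun hl (v j)
    rw [LinearMap.comp_apply, LinearMap.id_apply, KaehlerDifferential.kerCotangentToTensor_toCotangent] at h1
    have h2 : KaehlerDifferential.D R (MvPolynomial (Option (Fin n)) R) (rename some (f j)) =
        ∑ i, rename some (pderiv i (f j)) •
          KaehlerDifferential.D R (MvPolynomial (Option (Fin n)) R) (X (some i)) := by
      conv_lhs => rw [← (KaehlerDifferential.mvPolynomialBasis R (Option (Fin n))).sum_repr
        (KaehlerDifferential.D R (MvPolynomial (Option (Fin n)) R) (rename some (f j)))]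
      rw [Fintype.sum_option]
      simp [pderiv_none_rename, pderiv_some_rename]
    conv_lhs => rw [← h1]
    rw [h2, TensorProduct.tmul_sum, map_sum]
    exact Finset.sum_congr rfl fun i _ => by rw [TensorProduct.tmul_smul, map_smul]
  let Q : Ideal S := q.map (algebraMap A S)
  have hdisj : Disjoint (↑(Submonoid.powers g) : Set A) (↑q : Set A) :=
    Set.disjoint_left.mpr fun x ⟨k, hk⟩ hx => hgq (‹q.IsPrime›.mem_of_pow_mem k
      (by simp only at hk; rw [← hk] at hx; exact hx))
  haveI hQ : Q.IsPrime := IsLocalization.isPrime_of_isPrime_disjoint (Submonoid.powers g) S q ‹_› hdisj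
  let QP : Ideal (MvPolynomial (Option (Fin n)) R) := Q.comap π.toRingHom
  have hQP : ∀ p, rename some p ∈ QP ↔ φ p ∈ q := by
    intro p
    show π (rename some p) ∈ Q ↔ _
    rw [awayHom_rename]
    exact SetLike.ext_iff.mp
      (IsLocalization.comap_map_of_isPrime_disjoint (Submonoid.powers g) S ‹q.IsPrime› hdisj) (φ p)
  choose pb hpb using fun l => hφ (bb l)
  choose pc hpc using fun (l : Fin m) (s : Fin c) => hφ (co l s)
  let E : Fin m → Fin n → MvPolynomial (Fin n) R := fun l i =>
    pb l * pderiv i (f l) - ∑ s, pc l s * pderiv i (f (rows s))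
  have hE : ∀ l i, rename some (E l i) ∈ QP := fun l i => by
    rw [hQP, map_sub, map_mul, map_sum, hpb]
    simp only [map_mul, hpc]
    exact hco l i
  let B : Matrix (Fin m) (Fin m) (MvPolynomial (Option (Fin n)) R) :=
    Matrix.of fun l j => (if l = j then rename some (pb l) else 0) - ∑ i, rename some (E l i) * W i j
  have hBv : ∀ l, ∑ j, B l j • v j ∈ N := by
    intro k
    have h1 : rename some (pb k) • v k - ∑ i, rename some (E k i) •
        l ((1 : S) ⊗ₜ KaehlerDifferential.D R (MvPolynomial (Option (Fin n)) R) (X (some i))) =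
          ∑ s, rename some (pc k s) • v (rows s) := by
      simp only [hexp, Finset.smul_sum, smul_smul, E, map_sub, map_mul, map_sum, sub_smul, Finset.sum_smul,
        Finset.sum_sub_distrib]
      rw [Finset.sum_comm, sub_sub_cancel]
    have h2 : ∑ j, B k j • v j = ∑ s, rename some (pc k s) • v (rows s) + ∑ i, rename some (E k i) •
        (l ((1 : S) ⊗ₜ KaehlerDifferential.D R (MvPolynomial (Option (Fin n)) R) (X (some i))) -
          ∑ j, W i j • v j) := by
      rw [← h1]
      simp only [B, Matrix.of_apply, sub_smul, ite_smul, zero_smul, Finset.sum_sub_distrib, Finset.sum_ite_eq,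
        Finset.mem_univ, if_true, smul_sub, Finset.smul_sum, smul_smul, Finset.sum_smul]
      rw [Finset.sum_comm (s := (Finset.univ : Finset (Fin m)))]
      abel
    rw [h2]
    exact N.add_mem (N.sum_mem fun s _ => N.smul_mem _ (hvN s)) (N.sum_mem fun i _ => N.smul_mem _ (hW i))
  have hdetv : ∀ j, B.det • v j ∈ N := by
    intro j
    have h := congrFun (congrFun (Matrix.adjugate_mul B) j)
    have : B.det • v j = ∑ k, B.adjugate j k • ∑ i, B k i • v i := by
      simp only [Finset.smul_sum, smul_smul]
      rw [Finset.sum_comm]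
      simp only [← Finset.sum_smul, ← Matrix.mul_apply, h, Matrix.smul_apply, Matrix.one_apply, smul_eq_mul,
        mul_ite, mul_one, mul_zero, ite_smul, zero_smul, Finset.sum_ite_eq, Finset.mem_univ, if_true]
    rw [this]
    exact N.sum_mem fun k _ => N.smul_mem _ (hBv k)
  have hdetQ : B.det ∉ QP := by
    intro hdet
    haveI : QP.IsPrime := hQ.comap π.toRingHom
    have h0 : (Ideal.Quotient.mk QP) B.det = 0 := Ideal.Quotient.eq_zero_iff_mem.mpr hdet
    have hdiag : (Ideal.Quotient.mk QP).mapMatrix B =
        Matrix.diagonal fun l => Ideal.Quotient.mk QP (rename some (pb l)) := by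
      ext l j
      simp only [B, RingHom.mapMatrix_apply, Matrix.map_apply, Matrix.of_apply, map_sub, map_sum, map_mul,
        Ideal.Quotient.eq_zero_iff_mem.mpr (hE l _), zero_mul, Finset.sum_const_zero, sub_zero,
        Matrix.diagonal_apply]
      split_ifs <;> simp
    rw [RingHom.map_det, hdiag, Matrix.det_diagonal] at h0
    obtain ⟨l, -, hl0⟩ := Finset.prod_eq_zero_iff.mp h0
    exact hbb l (hpb l ▸ (hQP _).mp (Ideal.Quotient.eq_zero_iff_mem.mp hl0))
  -- substitute back
  let L := Localization.Away pg
  let ψ : MvPolynomial (Option (Fin n)) R →ₐ[R] L :=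
    aeval fun o => o.elim (IsLocalization.Away.invSelf pg) fun i => algebraMap (MvPolynomial (Fin n) R) L (X i)
  have hψr : ∀ p, ψ (rename some p) = algebraMap _ L p := by
    intro p
    have : ψ.comp (rename some) = IsScalarTower.toAlgHom R (MvPolynomial (Fin n) R) L :=
      MvPolynomial.algHom_ext fun i => by simp [ψ]
    exact DFunLike.congr_fun this p
  have hψg : ψ (invRel pg) = 0 := by
    rw [invRel, map_sub, map_mul, map_one, hψr, show ψ (X none) = IsLocalization.Away.invSelf pg by simp [ψ],
      mul_comm, IsLocalization.Away.mul_invSelf, sub_self]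
  let I0 : Ideal (MvPolynomial (Fin n) R) := Ideal.span (Set.range (f ∘ rows)) ⊔ Ideal.span (Set.range f) ^ 2
  let IL : Ideal L := I0.map (algebraMap _ L)
  have hψK : ∀ x ∈ K, ψ x ∈ (Ideal.span (Set.range f)).map (algebraMap _ L) := by
    intro x hx
    refine (Ideal.span_le (I := ((Ideal.span (Set.range f)).map (algebraMap _ L)).comap ψ.toRingHom)).mpr ?_ hx
    rintro _ ⟨_ | j, rfl⟩
    · show ψ (invRel pg) ∈ (Ideal.span (Set.range f)).map (algebraMap (MvPolynomial (Fin n) R) L)
      rw [hψg]; exact zero_mem _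
    · show ψ (rename some (f j)) ∈ (Ideal.span (Set.range f)).map (algebraMap (MvPolynomial (Fin n) R) L)
      rw [hψr]; exact Ideal.mem_map_of_mem _ (Ideal.subset_span ⟨j, rfl⟩)
  have hψdet : ∀ j, ψ B.det * algebraMap _ L (f j) ∈ IL := by
    intro j
    obtain ⟨co', hco'⟩ := (Submodule.mem_span_range_iff_exists_fun _).mp (hdetv j)
    have hsub : B.det * rename some (f j) - ∑ o : Option (Fin c),
        co' o * o.elim (invRel pg) (fun s => rename some (f (rows s))) ∈ J ^ 2 := by
      have := hco'
      rw [Fintype.sum_option] at this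
      simp only [Option.elim_none, Option.elim_some, w0, v, ← map_smul, ← map_sum, ← map_add] at this
      rw [Ideal.toCotangent_eq, Submodule.coe_add, AddSubmonoidClass.coe_finsetSum] at this
      rw [Fintype.sum_option]
      have h2 := (J ^ 2).neg_mem this
      rw [neg_sub] at h2
      exact h2
    have h2 : ψ (B.det * rename some (f j) - ∑ o : Option (Fin c),
        co' o * o.elim (invRel pg) (fun s => rename some (f (rows s)))) ∈ IL := by
      have h3 : (J ^ 2).map ψ.toRingHom ≤ IL := by
        rw [Ideal.map_pow]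
        have hle : J.map ψ.toRingHom ≤ (Ideal.span (Set.range f)).map (algebraMap (MvPolynomial (Fin n) R) L) :=
          Ideal.map_le_iff_le_comap.mpr fun x hx => hψK x (hKJ hx)
        refine le_trans (Ideal.pow_right_mono hle 2) ?_
        rw [← Ideal.map_pow]
        exact Ideal.map_mono le_sup_right
      exact h3 (Ideal.mem_map_of_mem _ hsub)
    rw [map_sub, map_mul, hψr, map_sum] at h2
    refine (Submodule.sub_mem_iff_left _ (IL.sum_mem fun o _ => ?_)).mp h2
    rw [map_mul]
    refine IL.mul_mem_left _ ?_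
    cases o with
    | none => simp [hψg]
    | some s =>
      simp only [Option.elim_some, hψr]
      exact Ideal.mem_map_of_mem _ (Ideal.mem_sup_left (Ideal.subset_span ⟨s, rfl⟩))
  obtain ⟨k, p0, hp0⟩ := IsLocalization.Away.surj pg (ψ B.det)
  have hp0mem : ∀ j, ∃ e : ℕ, pg ^ e * (p0 * f j) ∈ I0 := by
    intro j
    have : algebraMap _ L (p0 * f j) ∈ IL := by
      rw [map_mul, ← hp0, mul_comm (ψ B.det) _, mul_assoc]
      exact IL.mul_mem_left _ (hψdet j)
    obtain ⟨_, ⟨e, rfl⟩, he⟩ :=
      (IsLocalization.algebraMap_mem_map_algebraMap_iff (Submonoid.powers pg) L I0 _).mp this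
    exact ⟨e, he⟩
  choose e he using hp0mem
  let Et := ∑ j, e j
  have hall : ∀ j, pg ^ Et * p0 * f j ∈ I0 := fun j => by
    rw [show Et = (Et - e j) + e j from (Nat.sub_add_cancel (Finset.single_le_sum (fun _ _ => Nat.zero_le _) (Finset.mem_univ j))).symm,
      pow_add, mul_assoc, mul_assoc]
    exact I0.mul_mem_left _ (he j)
  have hp0q : φ p0 ∉ q := by
    have hu : IsUnit ((IsScalarTower.toAlgHom R A S).comp φ pg) := by
      rw [AlgHom.comp_apply, hpg]; exact IsLocalization.Away.algebraMap_isUnit g
    let χ : L →ₐ[R] S := IsLocalization.Away.liftAlgHom (S := L) pg hu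
    have hχ : ∀ p, χ (algebraMap _ L p) = algebraMap A S (φ p) := fun p =>
      IsLocalization.Away.lift_eq pg (g := ((IsScalarTower.toAlgHom R A S).comp φ).toRingHom) hu p
    have hcompat : χ.comp ψ = π := by
      refine MvPolynomial.algHom_ext fun o => ?_
      cases o with
      | none =>
        simp only [AlgHom.comp_apply, ψ, π, awayHom, aeval_X, Option.elim_none]
        have h1 : χ (algebraMap _ L pg) * χ (IsLocalization.Away.invSelf pg) = 1 := by
          rw [← map_mul, IsLocalization.Away.mul_invSelf, map_one]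
        rw [hχ, hpg] at h1
        exact (IsLocalization.Away.algebraMap_isUnit (S := S) g).mul_left_cancel
          (h1.trans (IsLocalization.Away.mul_invSelf g).symm)
      | some i =>
        simp only [AlgHom.comp_apply, ψ, π, awayHom, aeval_X, Option.elim_some]
        exact hχ _
    intro hq
    apply hdetQ
    show π B.det ∈ Q
    have h2 : π B.det * algebraMap A S g ^ k = algebraMap A S (φ p0) := by
      have e1 : χ (algebraMap _ L pg) = algebraMap A S g := by rw [hχ, hpg]
      rw [← hcompat, AlgHom.comp_apply, ← e1, ← map_pow, ← map_mul, hp0, hχ]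
    have h3 : π B.det * algebraMap A S g ^ k ∈ Q := h2 ▸ Ideal.mem_map_of_mem _ hq
    exact (Ideal.mul_unit_mem_iff_mem Q ((IsLocalization.Away.algebraMap_isUnit g).pow k)).mp h3
  refine ⟨φ (pg ^ Et * p0) * φ (_root_.Smoothing.jacobianMinor f rows cols), ?_, c, rows, cols,
    φ (pg ^ Et * p0), rfl, fun a₁ ha₁ ℓ => ?_⟩
  · intro h
    rcases ‹q.IsPrime›.mem_or_mem h with h | h
    · rw [map_mul, map_pow, hpg] at h
      rcases ‹q.IsPrime›.mem_or_mem h with h | h
      · exact hgq (‹q.IsPrime›.mem_of_pow_mem _ h)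
      · exact hp0q h
    · exact hminor h
  · have hdiff : a₁ - pg ^ Et * p0 * _root_.Smoothing.jacobianMinor f rows cols ∈ Ideal.span (Set.range f) := by
      rw [← hker]
      show φ _ = 0
      rw [map_sub, map_mul, ha₁, sub_self]
    have h2 : (a₁ - pg ^ Et * p0 * _root_.Smoothing.jacobianMinor f rows cols) * f ℓ ∈ I0 :=
      Ideal.mem_sup_right (by rw [pow_two]; exact Ideal.mul_mem_mul hdiff (Ideal.subset_span ⟨ℓ, rfl⟩))
    have h3 := I0.mul_mem_left (_root_.Smoothing.jacobianMinor f rows cols) (hall ℓ)
    convert I0.add_mem h2 h3 using 1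
    ring

theorem exists_elementary_notMem [Algebra.FinitePresentation R A] (q : Ideal A) [q.IsPrime]
    [Algebra.IsSmoothAt R q] : ∃ a ∉ q, _root_.Smoothing.IsElementaryStandard R A a := by
  classical
  obtain ⟨n, φ, hφ, hfg⟩ := ‹Algebra.FinitePresentation R A›.out
  obtain ⟨s, hs⟩ := hfg
  obtain ⟨m, f, hf⟩ : ∃ (m : ℕ) (f : Fin m → MvPolynomial (Fin n) R),
      RingHom.ker φ.toRingHom = Ideal.span (Set.range f) := by
    refine ⟨_, fun i => (s.equivFin.symm i : MvPolynomial (Fin n) R), ?_⟩
    rw [show Set.range (fun i => (s.equivFin.symm i : MvPolynomial (Fin n) R)) = ↑s by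
      rw [← Function.comp_def (Subtype.val), s.equivFin.symm.surjective.range_comp, Subtype.range_coe]]
    exact hs.symm
  obtain ⟨a, haq, c, rows, cols, a', ha', hkill⟩ := exists_standard_element f φ hφ hf q
  have hcn : c ≤ n := by simpa using Fintype.card_le_of_embedding cols
  let σ : Fin n ≃ Fin n := Equiv.extendSubtype
    (((Equiv.ofInjective _ (Fin.castLE_injective hcn)).symm.trans (Equiv.ofInjective _ cols.injective)) :
      {x // x ∈ Set.range (Fin.castLE hcn)} ≃ {x // x ∈ Set.range cols})
  have hσ : ∀ k, σ.symm (cols k) = Fin.castLE hcn k := by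
    intro k
    rw [Equiv.symm_apply_eq]
    simp only [σ]
    rw [Equiv.extendSubtype_apply_of_mem _ _ ⟨k, rfl⟩]
    simp
  let e := renameEquiv R σ
  let f' : Fin (c + m) → MvPolynomial (Fin n) R := fun j => e.symm (Fin.addCases (f ∘ rows) f j)
  have hadd : Set.range (Fin.addCases (f ∘ rows) f : Fin (c + m) → MvPolynomial (Fin n) R) = Set.range f := by
    ext x
    constructor
    · rintro ⟨j, rfl⟩
      induction j using Fin.addCases with
      | left t => exact ⟨rows t, by simp⟩
      | right t => exact ⟨t, by simp⟩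
    · rintro ⟨j, rfl⟩
      exact ⟨Fin.natAdd c j, by simp⟩
  let P : _root_.Smoothing.MarkedPresentation R A :=
    { n := n
      m := c + m
      c := c
      hcn := hcn
      hcm := Nat.le_add_right c m
      rel := f'
      hom := φ.comp e.toAlgHom
      surj := hφ.comp e.surjective
      ker_eq := by
        have h1 : Ideal.span (Set.range f') = (Ideal.span (Set.range f)).comap e.toAlgHom.toRingHom := by
          rw [← hadd, show Set.range f' = e.symm '' Set.range (Fin.addCases (f ∘ rows) f :
            Fin (c + m) → MvPolynomial (Fin n) R) from (Set.range_comp e.symm _), ← Ideal.map_span]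
          exact Ideal.map_symm (e : MvPolynomial (Fin n) R ≃+* MvPolynomial (Fin n) R)
        rw [h1, ← hf]
        rfl }
  have hminor : P.hom (_root_.Smoothing.jacobianMinor f' (Fin.castLE P.hcm) (Fin.castLE hcn)) =
      φ (_root_.Smoothing.jacobianMinor f rows cols) := by
    show φ (e _) = _
    congr 1
    rw [_root_.Smoothing.jacobianMinor, AlgEquiv.map_det, _root_.Smoothing.jacobianMinor]
    congr 1
    ext j k : 2
    simp only [AlgEquiv.mapMatrix_apply, Matrix.map_apply, Matrix.of_apply]
    rw [show Fin.castLE P.hcm j = Fin.castAdd m j from rfl]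
    simp only [f', Fin.addCases_left, Function.comp_apply, e, renameEquiv_apply, renameEquiv_symm]
    rw [← hσ, ← pderiv_rename σ.injective, Equiv.apply_symm_apply, rename_rename, Equiv.self_comp_symm, rename_id]
    rfl
  refine ⟨a, haq, P, ⟨a', ha'.trans (by rw [hminor])⟩, fun a₁ ha₁ j _ => ?_⟩
  have h1 := hkill (e a₁) ha₁
  have h2 : e a₁ * Fin.addCases (f ∘ rows) f j ∈
      Ideal.span (Set.range (f ∘ rows)) ⊔ Ideal.span (Set.range f) ^ 2 := by
    induction j using Fin.addCases with
    | left t => simp only [Fin.addCases_left, Function.comp_apply]; exact h1 (rows t)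
    | right t => simp only [Fin.addCases_right]; exact h1 t
  have h3 := Ideal.mem_map_of_mem e.symm.toAlgHom.toRingHom h2
  rw [Ideal.map_sup, Ideal.map_pow, Ideal.map_span, Ideal.map_span, map_mul] at h3
  change e.symm (e a₁) * f' j ∈ _ at h3
  rw [AlgEquiv.symm_apply_apply] at h3
  refine SetLike.le_def.mp (sup_le_sup (Ideal.span_mono ?_) (Ideal.pow_right_mono (Ideal.span_mono ?_) 2)) h3
  · rintro _ ⟨_, ⟨t, rfl⟩, rfl⟩
    exact ⟨Fin.castAdd m t, t.isLt, by simp [P, f']⟩
  · rintro _ ⟨_, ⟨t, rfl⟩, rfl⟩
    exact ⟨Fin.natAdd c t, by simp [P, f']⟩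

theorem singularIdeal_eq [Algebra.FinitePresentation R A] :
    _root_.Smoothing.singularIdeal R A =
        (Ideal.span {a : A | _root_.Smoothing.IsStrictlyStandard R A a}).radical ∧
      _root_.Smoothing.singularIdeal R A =
        (Ideal.span {a : A | _root_.Smoothing.IsElementaryStandard R A a}).radical := by
  have hsub : {a : A | _root_.Smoothing.IsElementaryStandard R A a} ⊆
      {a : A | _root_.Smoothing.IsStrictlyStandard R A a} := by
    rintro a ⟨P, ⟨a', ha'⟩, hk⟩
    exact ⟨P, Ideal.mem_span_range_iff_exists_fun.mpr (by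
      classical
      refine ⟨Pi.single (Fin.castLE P.hcn) a', ?_⟩
      rw [Finset.sum_eq_single (Fin.castLE P.hcn) (fun x _ hx => by simp [hx]) (fun h => absurd (Finset.mem_univ _) h)]
      simp [ha']), hk⟩
  have h1 : Ideal.span {a : A | _root_.Smoothing.IsStrictlyStandard R A a} ≤
      _root_.Smoothing.singularIdeal R A := by
    refine Ideal.span_le.mpr fun a ha => ?_
    rw [SetLike.mem_coe, _root_.Smoothing.singularIdeal, PrimeSpectrum.mem_vanishingIdeal]
    intro p hp
    by_contra hap
    exact hp ((Algebra.basicOpen_subset_smoothLocus_iff_smooth.mpr (smooth_of_strictlyStandard a ha).1)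
      (show p ∈ PrimeSpectrum.basicOpen a from hap))
  have h2 : _root_.Smoothing.singularIdeal R A ≤
      (Ideal.span {a : A | _root_.Smoothing.IsElementaryStandard R A a}).radical := by
    rw [Ideal.radical_eq_sInf]
    refine le_sInf fun p ⟨hle, hp⟩ x hx => ?_
    rw [_root_.Smoothing.singularIdeal, PrimeSpectrum.mem_vanishingIdeal] at hx
    refine hx ⟨p, hp⟩ fun hsm => ?_
    haveI : p.IsPrime := hp
    haveI : Algebra.IsSmoothAt R p := hsm
    obtain ⟨a, haq, hel⟩ := exists_elementary_notMem (R := R) p
    exact haq (hle (Ideal.subset_span hel))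
  have h3 : (_root_.Smoothing.singularIdeal R A).radical = _root_.Smoothing.singularIdeal R A := by
    rw [_root_.Smoothing.singularIdeal]
    exact (PrimeSpectrum.isRadical_vanishingIdeal _).radical
  have h4 := Ideal.radical_mono h1
  rw [h3] at h4
  exact ⟨le_antisymm (h2.trans (Ideal.radical_mono (Ideal.span_mono hsub))) h4,
    le_antisymm h2 ((Ideal.radical_mono (Ideal.span_mono hsub)).trans h4)⟩

end Groth.L14.Smoothing
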