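import Groth.Agent.L14.Smoothing.MarkedGeneric
import Groth.Agent.L14.Smoothing.Standard
import Mathlib.RingTheory.Smooth.Flat
import Mathlib.RingTheory.Flat.EquationalCriterion
import Mathlib.RingTheory.Localization.AtPrime.Basic
import Mathlib.RingTheory.Nakayama
import Mathlib.LinearAlgebra.Matrix.Adjugate

/-!
Desingularising a map along a strictly standard element.
-/

set_option autoImplicit false
set_option linter.style.haveILetI false

noncomputable section

open MvPolynomial

namespace Groth.L14.Smoothing.Desing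

universe u

variable {R : Type u} [CommRing R]

/-- Taylor expansion to first order. -/
theorem exists_taylor {n : ℕ} {P : Type u} [CommRing P] [Algebra R P] (r : Fin n → R) (π : P) (u : Fin n → P)
    (f : MvPolynomial (Fin n) R) :
    ∃ q : P, aeval (fun i => algebraMap R P (r i) + π * u i) f =
      algebraMap R P (eval r f) + π * ∑ i, algebraMap R P (eval r (pderiv i f)) * u i + π ^ 2 * q := by
  classical
  induction f using MvPolynomial.induction_on with
  | C a => exact ⟨0, by simp⟩
  | add p q hp hq =>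
    obtain ⟨a, ha⟩ := hp
    obtain ⟨b, hb⟩ := hq
    refine ⟨a + b, ?_⟩
    simp only [map_add, ha, hb, add_mul, Finset.sum_add_distrib]
    ring
  | mul_X p k hp =>
    obtain ⟨a, ha⟩ := hp
    refine ⟨a * (algebraMap R P (r k) + π * u k) +
      (∑ i, algebraMap R P (eval r (pderiv i p)) * u i) * u k, ?_⟩
    have h1 : ∑ i, algebraMap R P (eval r (pderiv i (p * X k))) * u i =
        (∑ i, algebraMap R P (eval r (pderiv i p)) * u i) * algebraMap R P (r k) +
          algebraMap R P (eval r p) * u k := by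
      rw [Finset.sum_mul]
      have : ∀ i, algebraMap R P (eval r (pderiv i (p * X k))) * u i =
          algebraMap R P (eval r (pderiv i p)) * u i * algebraMap R P (r k) +
            (if i = k then algebraMap R P (eval r p) * u k else 0) := by
        intro i
        by_cases hik : i = k
        · subst hik
          simp [Derivation.leibniz]
          ring
        · simp [Derivation.leibniz, pderiv_X_of_ne (Ne.symm hik), hik]
          ring
      rw [Finset.sum_congr rfl fun i _ => this i, Finset.sum_add_distrib]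
      simp
    rw [map_mul, ha, h1]
    simp only [aeval_X, map_mul, eval_X]
    ring

/-- Chain rule. -/
theorem pderiv_aeval {n : ℕ} {V : Type} (x : Fin n → MvPolynomial V R) (f : MvPolynomial (Fin n) R) (v : V) :
    pderiv v (aeval x f) = ∑ i, aeval x (pderiv i f) * pderiv v (x i) := by
  classical
  induction f using MvPolynomial.induction_on with
  | C a => simp
  | add p q hp hq => simp only [map_add, hp, hq, add_mul, Finset.sum_add_distrib]
  | mul_X p k hp =>
    rw [map_mul, aeval_X, Derivation.leibniz, hp]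
    have : ∀ i, aeval x (pderiv i (p * X k)) * pderiv v (x i) =
        x k * (aeval x (pderiv i p) * pderiv v (x i)) +
          (if i = k then aeval x p * pderiv v (x k) else 0) := by
      intro i
      by_cases hik : i = k
      · subst hik
        simp [Derivation.leibniz]
        ring
      · simp [Derivation.leibniz, pderiv_X_of_ne (Ne.symm hik), hik]
        ring
    rw [Finset.sum_congr rfl fun i _ => this i, Finset.sum_add_distrib, ← Finset.mul_sum]
    simp
    ring

/-- In a flat algebra the comparison of annihilators of powers of an element is preserved. -/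
theorem mul_eq_zero_of_flat {S : Type u} [CommRing S] [Algebra R S] [Module.Flat R S] (π r : R)
    (h : ∀ x : R, π ^ 2 * x = 0 → π * (r * x) = 0) {x : S} (hx : algebraMap R S π ^ 2 * x = 0) :
    algebraMap R S π * (algebraMap R S r * x) = 0 := by
  have h1 : ∑ _l : Fin 1, π ^ 2 • x = 0 := by simpa [Algebra.smul_def] using hx
  obtain ⟨k, a, y, hy, ha⟩ :=
    Module.Flat.isTrivialRelation_of_sum_smul_eq_zero (f := fun _ => π ^ 2) (x := fun _ => x) h1
  have h2 : x = ∑ j, a 0 j • y j := hy 0
  rw [← Algebra.smul_def, ← Algebra.smul_def, h2, Finset.smul_sum, Finset.smul_sum]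
  refine Finset.sum_eq_zero fun j _ => ?_
  have h3 := ha j
  simp only [Finset.univ_unique, Finset.sum_singleton] at h3
  rw [smul_smul, smul_smul, mul_assoc, show π * (r * a 0 j) = 0 from h _ (by simpa using h3), zero_smul]

/-- A right inverse up to the element from the minors. -/
theorem exists_right_inverse {S : Type u} [CommRing S] {c n : ℕ} (M : Matrix (Fin c) (Fin n) S)
    (b : (Fin c → Fin n) → S) :
    ∃ N : Matrix (Fin n) (Fin c) S, M * N = (∑ g : Fin c → Fin n, b g * (M.submatrix id g).det) • 1 := by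
  classical
  refine ⟨∑ g : Fin c → Fin n, b g •
    (Matrix.of fun (i : Fin n) (k : Fin c) => if i = g k then (1 : S) else 0) * (M.submatrix id g).adjugate, ?_⟩
  rw [Matrix.mul_sum, Finset.sum_smul]
  refine Finset.sum_congr rfl fun g _ => ?_
  rw [Matrix.smul_mul, Matrix.mul_smul, ← Matrix.mul_assoc, mul_smul]
  have hP : M * (Matrix.of fun (i : Fin n) (k : Fin c) => if i = g k then (1 : S) else 0) = M.submatrix id g := by
    ext j k
    simp [Matrix.mul_apply]
  rw [hP, Matrix.mul_adjugate]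

/-- Near a point where the minor is invertible the remaining relations vanish. -/
theorem exists_killer {ι σ κ : Type} [Finite ι] [Fintype σ] [DecidableEq σ] [Fintype κ]
    (G : σ → MvPolynomial ι R) (col : σ → ι) (hcol : Function.Injective col) (E τ : κ → MvPolynomial ι R)
    (π r : R) (hr : ∀ x : R, π ^ 2 * x = 0 → π * (r * x) = 0) (hτ : ∀ j, E j = C π ^ 3 * τ j)
    (hkill : ∀ j, C π * E j ∈ Ideal.span (Set.range G) ⊔ Ideal.span (Set.range E) ^ 2)
    (p' : Ideal (MvPolynomial ι R)) [hp' : p'.IsPrime] (hGp : Ideal.span (Set.range G) ≤ p') (hπp : C π ∈ p')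
    (hrp : C r ∉ p') (hD : Matrix.det (Matrix.of fun j k : σ => pderiv (col k) (G j)) ∉ p') :
    ∃ g ∉ p', ∀ j, g * E j ∈ Ideal.span (Set.range G) := by
  classical
  set D₀ := Matrix.det (Matrix.of fun j k : σ => pderiv (col k) (G j))
  set Lead := Ideal.span (Set.range G)
  let B₀ := MvPolynomial ι R ⧸ Lead
  let L := Localization.Away (Ideal.Quotient.mk Lead D₀)
  haveI : Algebra.IsStandardSmooth R L := Generic.isStandardSmooth_away_of_minor G col hcol L
  haveI : Algebra.Smooth R L := inferInstance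
  haveI : Module.Flat R L := Algebra.Smooth.flat R L
  let toL : MvPolynomial ι R →+* L := (algebraMap B₀ L).comp (Ideal.Quotient.mk Lead)
  have htoL : ∀ a, toL (C a) = algebraMap R L a := fun a => by
    rw [IsScalarTower.algebraMap_apply R B₀ L]; rfl
  let TL : Ideal L := (Ideal.span (Set.range E)).map toL
  have hLead : ∀ z ∈ Lead, toL z = 0 := fun z hz => by
    show algebraMap B₀ L (Ideal.Quotient.mk Lead z) = 0
    rw [Ideal.Quotient.eq_zero_iff_mem.mpr hz, map_zero]
  have hsq : ∀ z ∈ Ideal.span (Set.range E) ^ 2, ∃ e ∈ TL, toL z = algebraMap R L π ^ 3 * e := by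
    intro z hz
    rw [pow_two] at hz
    refine Submodule.mul_induction_on hz (fun a ha b hb => ?_) fun a b ⟨e, he, h⟩ ⟨e', he', h'⟩ =>
      ⟨e + e', add_mem he he', by rw [map_add, h, h', mul_add]⟩
    obtain ⟨c, hc⟩ := Ideal.mem_span_range_iff_exists_fun.mp ha
    refine ⟨toL (∑ i, c i * τ i) * toL b, Ideal.mul_mem_left _ _ (Ideal.mem_map_of_mem _ hb), ?_⟩
    rw [← htoL, ← map_pow, ← mul_assoc, ← map_mul, ← map_mul]
    refine congrArg toL ?_
    rw [← hc, Finset.mul_sum]
    refine congrArg (· * b) (Finset.sum_congr rfl fun i _ => ?_)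
    rw [hτ]; ring
  have hkey : ∀ j, ∃ z ∈ TL, algebraMap R L r * (toL (E j) - algebraMap R L π * z) = 0 := by
    intro j
    obtain ⟨a, ha, z, hz, haz⟩ := Submodule.mem_sup.mp (hkill j)
    obtain ⟨e, he, hze⟩ := hsq z hz
    have h1 : algebraMap R L π * toL (E j) = algebraMap R L π ^ 3 * e := by
      rw [← hze, ← htoL, ← map_mul, ← haz, map_add, hLead a ha, zero_add]
    refine ⟨algebraMap R L π * e, TL.mul_mem_left _ he, ?_⟩
    have h5 : toL (E j) = algebraMap R L π ^ 3 * toL (τ j) := by rw [hτ, map_mul, map_pow, htoL]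
    rw [h5] at h1
    have h2 : algebraMap R L π ^ 2 * (algebraMap R L π ^ 2 * toL (τ j) - algebraMap R L π * e) = 0 := by
      linear_combination h1
    have h3 := mul_eq_zero_of_flat π r hr h2
    rw [h5]
    linear_combination h3
  let p₀ := p'.map (Ideal.Quotient.mk Lead)
  haveI hp₀ : p₀.IsPrime :=
    Ideal.map_isPrime_of_surjective Ideal.Quotient.mk_surjective (by rwa [Ideal.mk_ker])
  have hcm : p₀.comap (Ideal.Quotient.mk Lead) = p' := by
    rw [Ideal.comap_map_of_surjective _ Ideal.Quotient.mk_surjective]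
    refine sup_eq_left.mpr ?_
    rwa [← RingHom.ker_eq_comap_bot, Ideal.mk_ker]
  have hdisj : Disjoint ((Submonoid.powers (Ideal.Quotient.mk Lead D₀)) : Set B₀) (p₀ : Set B₀) := by
    rw [Ideal.disjoint_powers_iff_notMem_of_isPrime]
    intro h
    exact hD (hcm ▸ h)
  let Q : Ideal L := p₀.map (algebraMap B₀ L)
  haveI hQ : Q.IsPrime := IsLocalization.isPrime_of_isPrime_disjoint _ L _ hp₀ hdisj
  have hQp : ∀ z, toL z ∈ Q → z ∈ p' := fun z hz => by
    have h : Ideal.Quotient.mk Lead z ∈ p₀ := by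
      rw [← IsLocalization.comap_map_of_isPrime_disjoint _ L hp₀ hdisj]
      exact hz
    exact hcm ▸ h
  let M := Localization.AtPrime Q
  let TM : Ideal M := TL.map (algebraMap L M)
  have hru : IsUnit (algebraMap L M (algebraMap R L r)) :=
    IsLocalization.map_units M (⟨_, fun h => hrp (hQp _ ((htoL r).symm ▸ h))⟩ : Q.primeCompl)
  have hπM : algebraMap L M (algebraMap R L π) ∈ IsLocalRing.maximalIdeal M := by
    rw [IsLocalization.AtPrime.to_map_mem_maximal_iff M Q, ← htoL]
    exact Ideal.mem_map_of_mem _ (Ideal.mem_map_of_mem _ hπp)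
  have hTM : TM = ⊥ := by
    refine Submodule.eq_bot_of_le_smul_of_le_jacobson_bot (IsLocalRing.maximalIdeal M) TM
      (Ideal.FG.map (Ideal.FG.map (Submodule.fg_span (Set.finite_range E)) toL) _) ?_ (IsLocalRing.maximalIdeal_le_jacobson ⊥)
    refine Ideal.map_le_iff_le_comap.mpr (Ideal.map_le_iff_le_comap.mpr (Ideal.span_le.mpr ?_))
    rintro _ ⟨j, rfl⟩
    obtain ⟨z, hz, h⟩ := hkey j
    have h1 := congrArg (algebraMap L M) h
    rw [map_mul, map_zero, hru.mul_right_eq_zero, map_sub, map_mul, sub_eq_zero] at h1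
    rw [SetLike.mem_coe, Ideal.mem_comap, Ideal.mem_comap, h1]
    exact Submodule.smul_mem_smul hπM (Ideal.mem_map_of_mem _ hz)
  have hex : ∀ j, ∃ g ∉ p', g * E j ∈ Lead := by
    intro j
    have h1 : algebraMap L M (toL (E j)) = 0 := by
      rw [← Ideal.mem_bot, ← hTM]
      exact Ideal.mem_map_of_mem _ (Ideal.mem_map_of_mem _ (Ideal.subset_span ⟨_, rfl⟩))
    obtain ⟨⟨w, hw⟩, hw0⟩ := (IsLocalization.map_eq_zero_iff Q.primeCompl M _).mp h1
    obtain ⟨n, w₀, hwn⟩ := IsLocalization.Away.surj (Ideal.Quotient.mk Lead D₀) w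
    obtain ⟨w₁, rfl⟩ := Ideal.Quotient.mk_surjective w₀
    have h2 : algebraMap B₀ L (Ideal.Quotient.mk Lead (w₁ * E j)) = 0 := by
      rw [map_mul, map_mul, ← hwn, mul_right_comm]
      exact mul_eq_zero_of_left hw0 _
    obtain ⟨⟨_, k, rfl⟩, hk⟩ := (IsLocalization.map_eq_zero_iff
      (Submonoid.powers (Ideal.Quotient.mk Lead D₀)) L _).mp h2
    refine ⟨D₀ ^ k * w₁, fun h => ?_, ?_⟩
    · rcases hp'.mem_or_mem h with h | h
      · exact hD (hp'.mem_of_pow_mem _ h)
      · refine hw ?_
        have h3 : w * algebraMap B₀ L (Ideal.Quotient.mk Lead D₀) ^ n ∈ Q :=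
          hwn ▸ Ideal.mem_map_of_mem _ (Ideal.mem_map_of_mem _ h)
        rcases hQ.mem_or_mem h3 with h4 | h4
        · exact h4
        · exact absurd (Ideal.eq_top_of_isUnit_mem _ h4
            ((IsLocalization.Away.algebraMap_isUnit _).pow n)) hQ.ne_top
    · rw [← Ideal.Quotient.eq_zero_iff_mem, mul_assoc, map_mul, map_pow]
      exact hk
  choose g hg hgj using hex
  refine ⟨∏ j, g j, fun h => ?_, fun j => ?_⟩
  · obtain ⟨j, -, hj⟩ := (Ideal.IsPrime.prod_mem_iff (p := p')).mp h
    exact hg j hj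
  · obtain ⟨c, hc⟩ := Finset.dvd_prod_of_mem g (Finset.mem_univ j)
    rw [hc, mul_comm (g j), mul_assoc]
    exact Lead.mul_mem_left _ (hgj j)

theorem exists_desingularization {Λ A : Type u} [CommRing Λ] [Algebra R Λ] (π : R)
    (hΛ : ∀ x : Λ, π ^ 2 • x = 0 → π • x = 0) [CommRing A] [Algebra R A] (φ : A →ₐ[R] Λ)
    (hπ : _root_.Smoothing.IsStrictlyStandard R A (algebraMap R A π))
    (ρ : A →ₐ[R] R ⧸ Ideal.span {π ^ 4})
    (hρ : ∀ (a : A) (r : R), Ideal.Quotient.mk (Ideal.span {π ^ 4}) r = ρ a →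
      algebraMap R Λ r - φ a ∈ Ideal.span {algebraMap R Λ (π ^ 4)}) :
    ∃ (B : Type u) (_ : CommRing B) (_ : Algebra R B), Algebra.FinitePresentation R B ∧
      ∃ (α : A →ₐ[R] B) (β : B →ₐ[R] Λ), β.comp α = φ ∧
        ∀ r : R, (∀ x : R, π ^ 2 * x = 0 → π * (r * x) = 0) →
          algebraMap R B r ∈ _root_.Smoothing.singularIdeal R B := by
  classical
  obtain ⟨P, hmem, hkill⟩ := hπ
  obtain ⟨b, hb⟩ := Ideal.mem_span_range_iff_exists_fun.mp hmem
  choose b₀ hb₀ using fun g : Fin P.c → Fin P.n => P.surj (b g)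
  choose r₀ hr₀ using fun i => Ideal.Quotient.mk_surjective (ρ (P.hom (X i)))
  have hev : ∀ p, Ideal.Quotient.mk (Ideal.span {π ^ 4}) (eval r₀ p) = ρ (P.hom p) := fun p => by
    have : (Ideal.Quotient.mkₐ R (Ideal.span {π ^ 4})).comp (aeval r₀) = ρ.comp P.hom :=
      algHom_ext fun i => by simp [hr₀]
    have h := AlgHom.congr_fun this p
    rwa [AlgHom.comp_apply, Ideal.Quotient.mkₐ_eq_mk, aeval_eq_eval] at h
  have hrel : ∀ j, P.hom (P.rel j) = 0 := fun j => by
    have : P.rel j ∈ RingHom.ker P.hom.toRingHom := P.ker_eq ▸ Ideal.subset_span ⟨j, rfl⟩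
    exact this
  let J : Matrix (Fin P.c) (Fin P.n) R := Matrix.of fun j i => eval r₀ (pderiv i (P.rel (Fin.castLE P.hcm j)))
  obtain ⟨N, hN⟩ := exists_right_inverse J fun g => eval r₀ (b₀ g)
  obtain ⟨S₀, hS₀⟩ : ∃ S₀ : R, (∑ g : Fin P.c → Fin P.n, eval r₀ (b₀ g) * (J.submatrix id g).det) =
      π + π ^ 4 * S₀ := by
    have h1 : Ideal.Quotient.mk (Ideal.span {π ^ 4})
        (∑ g : Fin P.c → Fin P.n, eval r₀ (b₀ g) * (J.submatrix id g).det) = Ideal.Quotient.mk _ π := by
      have h2 : Ideal.Quotient.mk (Ideal.span {π ^ 4}) π = ρ (algebraMap R A π) := (AlgHom.commutes ρ π).symm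
      rw [h2, ← hb, map_sum, map_sum]
      refine Finset.sum_congr rfl fun g _ => ?_
      rw [map_mul, map_mul, hev, hb₀, ← hev (_root_.Smoothing.jacobianMinor P.rel _ g)]
      congr 2
      rw [_root_.Smoothing.jacobianMinor, RingHom.map_det]
      rfl
    obtain ⟨z, hz⟩ := Ideal.mem_span_singleton'.mp (Ideal.Quotient.eq.mp h1)
    exact ⟨z, by linear_combination -hz⟩
  have hJN : ∀ j k, ∑ i, J j i * N i k = if j = k then π + π ^ 4 * S₀ else 0 := fun j k => by
    have h := congrFun (congrFun hN j) k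
    rw [Matrix.mul_apply, hS₀] at h
    simpa [Matrix.smul_apply, Matrix.one_apply] using h
  choose t₀ ht₀ using fun j => Ideal.mem_span_singleton'.mp
    (Ideal.Quotient.eq_zero_iff_mem.mp ((hev (P.rel j)).trans (by rw [hrel, map_zero])))
  let V := Fin P.n ⊕ Fin P.c
  let u : Fin P.n → MvPolynomial V R := fun i =>
    C π * X (Sum.inl i) + ∑ k, C (N i k) * X (Sum.inr k)
  let x : Fin P.n → MvPolynomial V R := fun i => C (r₀ i) + C π ^ 3 * u i
  choose q hq using fun j => exists_taylor (R := R) (P := MvPolynomial V R) r₀ (C π ^ 3) u (P.rel j)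
  let Jy : Fin P.m → MvPolynomial V R := fun j => ∑ i, C (eval r₀ (pderiv i (P.rel j))) * X (Sum.inl i)
  let G : Fin P.c → MvPolynomial V R := fun j =>
    C (t₀ (Fin.castLE P.hcm j)) + Jy (Fin.castLE P.hcm j) + X (Sum.inr j) +
      C π * (C (π ^ 2 * S₀) * X (Sum.inr j) + C π * q (Fin.castLE P.hcm j))
  have hsumu : ∀ j, ∑ i, C (eval r₀ (pderiv i (P.rel j))) * u i =
      C π * Jy j + ∑ k, C (∑ i, eval r₀ (pderiv i (P.rel j)) * N i k) * X (Sum.inr k) := by
    intro j
    simp only [u, Jy, mul_add, Finset.sum_add_distrib, Finset.mul_sum, map_sum, map_mul, Finset.sum_mul]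
    refine congrArg₂ (· + ·) (Finset.sum_congr rfl fun i _ => by ring) ?_
    rw [Finset.sum_comm]
    exact Finset.sum_congr rfl fun i _ => Finset.sum_congr rfl fun k _ => by ring
  have hlead : ∀ j : Fin P.c, aeval x (P.rel (Fin.castLE P.hcm j)) = C π ^ 4 * G j := by
    intro j
    rw [show x = fun i => algebraMap R (MvPolynomial V R) (r₀ i) + C π ^ 3 * u i from rfl, hq]
    simp only [algebraMap_eq, hsumu]
    have h2 : ∑ k, C (∑ i, eval r₀ (pderiv i (P.rel (Fin.castLE P.hcm j))) * N i k) * X (Sum.inr k : V) =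
        C (π + π ^ 4 * S₀) * X (Sum.inr j) := by
      rw [Finset.sum_eq_single j (fun k _ hk => ?_) (fun h => absurd (Finset.mem_univ _) h)]
      · rw [show (∑ i, eval r₀ (pderiv i (P.rel (Fin.castLE P.hcm j))) * N i j) = π + π ^ 4 * S₀ by
          simpa [J] using hJN j j]
      · rw [show (∑ i, eval r₀ (pderiv i (P.rel (Fin.castLE P.hcm j))) * N i k) = 0 by
          simpa [J, Ne.symm hk] using hJN j k, map_zero, zero_mul]
    rw [h2, ← ht₀]
    simp only [G, map_add, map_mul, map_pow]
    ring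
  have hdvd : ∀ j, ∃ τ, aeval x (P.rel j) = C π ^ 3 * τ := by
    intro j
    refine ⟨C (t₀ j * π) + ∑ i, C (eval r₀ (pderiv i (P.rel j))) * u i + C π ^ 3 * q j, ?_⟩
    rw [show x = fun i => algebraMap R (MvPolynomial V R) (r₀ i) + C π ^ 3 * u i from rfl, hq, ← ht₀]
    simp only [algebraMap_eq, map_mul, map_pow]
    ring
  let T := {j : Fin P.m // P.c ≤ (j : ℕ)}
  let GG : Fin P.c ⊕ T → MvPolynomial V R := Sum.elim G fun j => aeval x (P.rel j.1)
  let I := Ideal.span (Set.range GG)
  let Lead := Ideal.span (Set.range (GG ∘ Sum.inl))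
  have hrelI : ∀ j, aeval x (P.rel j) ∈ I := by
    intro j
    by_cases hj : (j : ℕ) < P.c
    · rw [show j = Fin.castLE P.hcm ⟨j, hj⟩ from rfl, hlead]
      exact I.mul_mem_left _ (Ideal.subset_span ⟨Sum.inl ⟨j, hj⟩, rfl⟩)
    · exact Ideal.subset_span ⟨Sum.inr ⟨j, not_lt.mp hj⟩, rfl⟩
  let If := Ideal.span (Set.range fun j => aeval x (P.rel j))
  have hkillx : ∀ j : T, C π * aeval x (P.rel j.1) ∈ Lead ⊔ If ^ 2 := by
    intro j
    have h := Ideal.mem_map_of_mem (aeval x) (hkill (C π) (P.hom.commutes π) j.1 j.2)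
    rw [map_mul, aeval_C, algebraMap_eq, Ideal.map_sup, Ideal.map_pow, Ideal.map_span, Ideal.map_span,
      ← Set.range_comp] at h
    refine SetLike.le_def.mp (sup_le_sup_right ?_ _) h
    rw [Ideal.span_le]
    rintro _ ⟨_, ⟨j', hj', rfl⟩, rfl⟩
    rw [show j' = Fin.castLE P.hcm ⟨j', hj'⟩ from rfl, SetLike.mem_coe, hlead]
    exact Lead.mul_mem_left _ (Ideal.subset_span ⟨⟨j', hj'⟩, rfl⟩)
  let B := MvPolynomial V R ⧸ I
  let αP : MvPolynomial (Fin P.n) R →ₐ[R] B := (Ideal.Quotient.mkₐ R I).comp (aeval x)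
  have hαP : ∀ p ∈ RingHom.ker P.hom, αP p = 0 := fun p hp => by
    have hp' : p ∈ Ideal.span (Set.range P.rel) := P.ker_eq ▸ hp
    refine (Ideal.span_le (I := RingHom.ker αP)).mpr ?_ hp'
    rintro _ ⟨j, rfl⟩
    exact Ideal.Quotient.eq_zero_iff_mem.mpr (hrelI j)
  let e : (MvPolynomial (Fin P.n) R ⧸ RingHom.ker P.hom) ≃ₐ[R] A := Ideal.quotientKerAlgEquivOfSurjective P.surj
  let α : A →ₐ[R] B := (Ideal.Quotient.liftₐ _ αP hαP).comp e.symm.toAlgHom
  have hα : ∀ p, α (P.hom p) = Ideal.Quotient.mk I (aeval x p) := fun p => by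
    have he : e.symm (P.hom p) = Ideal.Quotient.mk _ p := by rw [AlgEquiv.symm_apply_eq]; rfl
    simp only [α, AlgHom.comp_apply, AlgEquiv.coe_toAlgHom, he]
    rfl
  choose lam hlam using fun i => Ideal.mem_span_singleton'.mp (hρ (P.hom (X i)) (r₀ i) (hr₀ i))
  let y₀ : Fin P.n → Λ := fun i => -lam i
  let G₀ : Fin P.c → Λ := fun j => aeval (Sum.elim y₀ 0) (G j)
  let βV : MvPolynomial V R →ₐ[R] Λ := aeval (Sum.elim y₀ fun j => -G₀ j)
  have hβx0 : ∀ i, aeval (Sum.elim y₀ (0 : Fin P.c → Λ)) (x i) = φ (P.hom (X i)) := fun i => by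
    simp only [x, u, map_add, map_mul, map_pow, map_sum, aeval_C, aeval_X, Sum.elim_inl, Sum.elim_inr,
      Pi.zero_apply, mul_zero, Finset.sum_const_zero, add_zero, y₀]
    have h := hlam i
    rw [map_pow] at h
    linear_combination -h
  have hG0 : ∀ j, π • G₀ j = 0 := fun j => by
    have hcomp : (aeval (Sum.elim y₀ (0 : Fin P.c → Λ))).comp (aeval x) = φ.comp P.hom :=
      algHom_ext fun i => by simp [hβx0]
    have h0 := AlgHom.congr_fun hcomp (P.rel (Fin.castLE P.hcm j))
    rw [AlgHom.comp_apply, AlgHom.comp_apply, hlead, hrel, map_zero, map_mul, map_pow, aeval_C] at h0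
    refine hΛ _ ?_
    have h3 : π ^ 2 • (π • π • G₀ j) = 0 := by
      simp only [Algebra.smul_def, map_pow]
      linear_combination h0
    have h4 := hΛ _ h3
    rw [smul_smul, smul_smul] at h4
    have h5 : π ^ 2 • (π • G₀ j) = 0 := by rw [smul_smul]; convert h4 using 2; ring
    have h6 := hΛ _ h5
    rwa [smul_smul, ← pow_two] at h6
  have hπw : ∀ k, algebraMap R Λ π * G₀ k = 0 := fun k => by rw [← Algebra.smul_def]; exact hG0 k
  have hβπ : ∀ p, algebraMap R Λ π * βV p = algebraMap R Λ π * aeval (Sum.elim y₀ (0 : Fin P.c → Λ)) p := by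
    intro p
    induction p using MvPolynomial.induction_on with
    | C a => simp [βV]
    | add p q hp hq => rw [map_add, map_add, mul_add, mul_add, hp, hq]
    | mul_X p v hp =>
      rw [map_mul, map_mul, ← mul_assoc, hp]
      rcases v with i | k
      · simp [βV, mul_assoc]
      · simp only [βV, aeval_X, Sum.elim_inr, Pi.zero_apply, mul_zero]
        linear_combination (-(aeval (Sum.elim y₀ (0 : Fin P.c → Λ)) p)) * hπw k
  have hβG : ∀ j, βV (G j) = 0 := by
    intro j
    have hj : ∀ (val : V → Λ), aeval val (G j) = algebraMap R Λ (t₀ (Fin.castLE P.hcm j)) +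
        aeval val (Jy (Fin.castLE P.hcm j)) + val (Sum.inr j) + algebraMap R Λ π *
          aeval val (C (π ^ 2 * S₀) * X (Sum.inr j) + C π * q (Fin.castLE P.hcm j)) := fun val => by
      simp [G]
    have h1 := hj (Sum.elim y₀ fun j => -G₀ j)
    have h2 := hj (Sum.elim y₀ (0 : Fin P.c → Λ))
    have h3 := hβπ (C (π ^ 2 * S₀) * X (Sum.inr j) + C π * q (Fin.castLE P.hcm j))
    have h4 : ∀ k, aeval (Sum.elim y₀ fun j => -G₀ j) (Jy k) =
        aeval (Sum.elim y₀ (0 : Fin P.c → Λ)) (Jy k) := fun k => by simp [Jy]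
    simp only [Sum.elim_inr, Pi.zero_apply, add_zero] at h1 h2
    show aeval _ (G j) = 0
    rw [h1, h4]
    change G₀ j = _ at h2
    change algebraMap R Λ π * aeval (Sum.elim y₀ fun j => -G₀ j) _ = _ at h3
    linear_combination h3 - h2
  have hβx : ∀ i, βV (x i) = φ (P.hom (X i)) := fun i => by
    rw [← hβx0 i]
    simp only [βV, x, u, map_add, map_mul, map_pow, map_sum, aeval_C, aeval_X, Sum.elim_inl, Sum.elim_inr,
      Pi.zero_apply, mul_zero, Finset.sum_const_zero, add_zero, mul_add, Finset.mul_sum]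
    simp only [add_eq_left, add_right_inj]
    refine Finset.sum_eq_zero fun k _ => ?_
    linear_combination (-(algebraMap R Λ π ^ 2 * algebraMap R Λ (N i k))) * hπw k
  have hβα : ∀ p, βV (aeval x p) = φ (P.hom p) := fun p => by
    have : βV.comp (aeval x) = φ.comp P.hom := algHom_ext fun i => by simp [hβx]
    exact AlgHom.congr_fun this p
  have hβI : ∀ p ∈ I, βV p = 0 := fun p hp => by
    refine (Ideal.span_le (I := RingHom.ker βV)).mpr ?_ hp
    rintro _ ⟨j | j, rfl⟩
    · exact hβG j
    · exact (hβα _).trans (by rw [hrel, map_zero])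
  let β : B →ₐ[R] Λ := Ideal.Quotient.liftₐ I βV hβI
  haveI hfp : Algebra.FinitePresentation R B :=
    Algebra.FinitePresentation.quotient (Submodule.fg_span (Set.finite_range _))
  refine ⟨B, inferInstance, inferInstance, hfp, α, β, AlgHom.ext fun a => ?_, fun r hr => ?_⟩
  · obtain ⟨p, rfl⟩ := P.surj a
    rw [AlgHom.comp_apply, hα]
    exact hβα p
  have hcard : Fintype.card (Fin P.c) ≤ Fintype.card V := by simp [V]
  have hstdπ : _root_.Smoothing.IsStrictlyStandard R B (algebraMap R B π ^ (4 * P.c + 1)) := by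
    refine Generic.isStrictlyStandard_of_presentation hcard GG _ ?_ ?_
    · have hminor : ∀ g : Fin P.c → Fin P.n, algebraMap R B π ^ (4 * P.c) *
          Ideal.Quotient.mk I (aeval x (_root_.Smoothing.jacobianMinor P.rel (Fin.castLE P.hcm) g)) ∈
          Ideal.span (Set.range fun col : Fin P.c → V => Ideal.Quotient.mk I
            (Matrix.det (Matrix.of fun j k : Fin P.c => pderiv (col k) (GG (Sum.inl j))))) := by
        intro g
        have hd : ∀ i i', pderiv (Sum.inl i : V) (x i') = if i' = i then C π ^ 4 else 0 := fun i i' => by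
          have : ∀ k, pderiv (Sum.inl i : V) (C (N i' k) * X (Sum.inr k)) = 0 := fun k => by
            rw [pderiv_C_mul, pderiv_X_of_ne (by simp)]; simp
          have hp : pderiv (Sum.inl i : V) (C π ^ 3 : MvPolynomial V R) = 0 := by rw [← map_pow, pderiv_C]
          simp only [x, u, map_add, Derivation.leibniz, hp, pderiv_C, zero_add, map_sum, this,
            Finset.sum_const_zero, add_zero, smul_zero]
          by_cases h : i' = i
          · subst h; simp; ring
          · simp [h, pderiv_X_of_ne (show (Sum.inl i' : V) ≠ Sum.inl i by simpa using h)]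
        have hGd : ∀ (j : Fin P.c) (i : Fin P.n), C π ^ 4 * pderiv (Sum.inl i : V) (G j) =
            C π ^ 4 * aeval x (pderiv i (P.rel (Fin.castLE P.hcm j))) := fun j i => by
          have h1 := congrArg (pderiv (Sum.inl i : V)) (hlead j)
          rw [pderiv_aeval, ← map_pow, pderiv_C_mul, map_pow] at h1
          rw [← h1]
          simp [hd, mul_comm]
        have h2 : Ideal.Quotient.mk I (Matrix.det ((C π ^ 4 : MvPolynomial V R) • Matrix.of fun j k : Fin P.c =>
              aeval x (pderiv (g k) (P.rel (Fin.castLE P.hcm j))))) =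
            Ideal.Quotient.mk I (Matrix.det ((C π ^ 4 : MvPolynomial V R) • Matrix.of fun j k : Fin P.c =>
              pderiv (Sum.inl (g k) : V) (GG (Sum.inl j)))) := by
          refine congrArg (fun M => Ideal.Quotient.mk I (Matrix.det M)) ?_
          ext j k : 1
          exact (hGd j (g k)).symm
        simp only [Matrix.det_smul, Fintype.card_fin, map_mul, map_pow, ← pow_mul] at h2
        have h3 : aeval x (_root_.Smoothing.jacobianMinor P.rel (Fin.castLE P.hcm) g) =
            Matrix.det (Matrix.of fun j k : Fin P.c => aeval x (pderiv (g k) (P.rel (Fin.castLE P.hcm j)))) := by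
          rw [_root_.Smoothing.jacobianMinor, AlgHom.map_det]
          rfl
        rw [h3, show algebraMap R B π = Ideal.Quotient.mk I (C π) from rfl, h2]
        exact Ideal.mul_mem_left _ _ (Ideal.subset_span ⟨fun k => Sum.inl (g k), rfl⟩)
      have hπB : algebraMap R B π = ∑ g : Fin P.c → Fin P.n, Ideal.Quotient.mk I (aeval x (b₀ g)) *
          Ideal.Quotient.mk I (aeval x (_root_.Smoothing.jacobianMinor P.rel (Fin.castLE P.hcm) g)) := by
        have h := congrArg α hb
        rw [map_sum, AlgHom.commutes] at h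
        rw [← h]
        exact Finset.sum_congr rfl fun g _ => by rw [map_mul, ← hb₀, hα, hα]
      rw [pow_succ]
      nth_rewrite 2 [hπB]
      rw [Finset.mul_sum]
      refine Submodule.sum_mem _ fun g _ => ?_
      rw [mul_left_comm]
      exact Ideal.mul_mem_left _ _ (hminor g)
    · intro p hp j
      have h1 : p - C π ^ (4 * P.c + 1) ∈ I := by
        rw [← Ideal.Quotient.eq, hp, map_pow]
        rfl
      rw [show p * GG (Sum.inr j) = C π ^ (4 * P.c) * (C π * GG (Sum.inr j)) +
        (p - C π ^ (4 * P.c + 1)) * GG (Sum.inr j) by rw [pow_succ]; ring]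
      refine add_mem (Ideal.mul_mem_left _ _ ?_) (Ideal.mem_sup_right ?_)
      · refine SetLike.le_def.mp (sup_le_sup_left (Ideal.pow_right_mono ?_ 2) _) (hkillx j)
        rw [Ideal.span_le]
        rintro _ ⟨j', rfl⟩
        exact hrelI j'
      · rw [pow_two]
        exact Ideal.mul_mem_mul h1 (Ideal.subset_span ⟨_, rfl⟩)
  rw [(singularIdeal_eq (R := R) (A := B)).1, Ideal.radical_eq_sInf]
  refine Submodule.mem_sInf.mpr fun p ⟨hle, hp⟩ => ?_
  haveI := hp
  have hπp : algebraMap R B π ∈ p :=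
    hp.mem_of_pow_mem _ (hle (Ideal.subset_span hstdπ))
  by_contra hrp
  let D₀ := Matrix.det (Matrix.of fun j k : Fin P.c => pderiv (Sum.inr k : V) (G j))
  let p' : Ideal (MvPolynomial V R) := Ideal.comap (Ideal.Quotient.mk I) p
  haveI : p'.IsPrime := inferInstance
  have hD₀ : D₀ ∉ p' := by
    have hmap : ∀ j k, Ideal.Quotient.mk p' (pderiv (Sum.inr k : V) (G j)) = if j = k then 1 else 0 := by
      intro j k
      have hπ' : Ideal.Quotient.mk p' (C π) = 0 := Ideal.Quotient.eq_zero_iff_mem.mpr hπp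
      have hJy : pderiv (Sum.inr k : V) (Jy (Fin.castLE P.hcm j)) = 0 := by
        simp [Jy, pderiv_C_mul, pderiv_X_of_ne]
      simp only [G, map_add, pderiv_C, hJy, pderiv_C_mul, map_mul, hπ', zero_mul, zero_add, add_zero]
      by_cases h : j = k
      · subst h; simp
      · simp [h, pderiv_X_of_ne (show (Sum.inr j : V) ≠ Sum.inr k by simpa using h)]
    have h1 : Ideal.Quotient.mk p' D₀ = 1 := by
      rw [RingHom.map_det]
      refine (congrArg Matrix.det (?_ : _ = (1 : Matrix (Fin P.c) (Fin P.c) _))).trans Matrix.det_one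
      ext j k
      simp [hmap, Matrix.one_apply]
    intro h
    rw [Ideal.Quotient.eq_zero_iff_mem.mpr h] at h1
    exact zero_ne_one h1
  choose τ hτ using hdvd
  have hGp : Ideal.span (Set.range G) ≤ p' := by
    rw [Ideal.span_le]
    rintro _ ⟨j, rfl⟩
    show Ideal.Quotient.mk I (G j) ∈ p
    rw [show Ideal.Quotient.mk I (G j) = 0 from Ideal.Quotient.eq_zero_iff_mem.mpr (Ideal.subset_span ⟨Sum.inl j, rfl⟩)]
    exact zero_mem _
  obtain ⟨g₀, hg₀, hg₀j⟩ := exists_killer G Sum.inr Sum.inr_injective (fun j => aeval x (P.rel j)) τ π r hr hτ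
    (fun j => by
      by_cases hj : (j : ℕ) < P.c
      · rw [show j = Fin.castLE P.hcm ⟨j, hj⟩ from rfl, hlead]
        exact Ideal.mem_sup_left (Ideal.mul_mem_left _ _ (Ideal.mul_mem_left _ _ (Ideal.subset_span (Set.mem_range_self _))))
      · exact hkillx ⟨j, not_lt.mp hj⟩)
    p' hGp hπp hrp hD₀
  have hstd : _root_.Smoothing.IsStrictlyStandard R B (Ideal.Quotient.mk I (g₀ * D₀)) := by
    refine Generic.isStrictlyStandard_of_presentation hcard GG _ ?_ fun a ha j => ?_
    · rw [map_mul]
      exact Ideal.mul_mem_left _ _ (Ideal.subset_span ⟨fun k => Sum.inr k, rfl⟩)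
    · rw [show a * GG (Sum.inr j) = D₀ * (g₀ * GG (Sum.inr j)) + (a - g₀ * D₀) * GG (Sum.inr j) by ring]
      refine add_mem (Ideal.mem_sup_left (Ideal.mul_mem_left _ _ ?_)) (Ideal.mem_sup_right ?_)
      · exact hg₀j j.1
      · rw [pow_two]
        exact Ideal.mul_mem_mul (Ideal.Quotient.eq.mp ha) (Ideal.subset_span ⟨_, rfl⟩)
  rcases (inferInstance : p'.IsPrime).mem_or_mem (show g₀ * D₀ ∈ p' from hle (Ideal.subset_span hstd)) with h | h
  · exact hg₀ h
  · exact hD₀ h

end Groth.L14.Smoothing.Desing
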