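import Groth.Agent.L06.FormSmoothField
import Mathlib.RingTheory.Flat.Basic
import Mathlib.RingTheory.LocalRing.Module
import Mathlib.RingTheory.Kaehler.Basic
import Mathlib.RingTheory.Ideal.Quotient.Operations
import Mathlib.LinearAlgebra.Basis.VectorSpace
import Mathlib.LinearAlgebra.LinearIndependent.Lemmas

/-!
Derivations and linear independence over Artinian local subalgebras.
-/

set_option autoImplicit false
set_option maxSynthPendingDepth 3
set_option linter.style.haveILetI false

noncomputable section

open IsLocalRing TensorProduct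

namespace Groth.L14.Smoothing.Insep

universe u

/-- A high power of an ideal lies in the ideal generated by powers of generators. -/
theorem pow_span_le {R : Type u} [CommRing R] {d : ℕ} (x : Fin d → R) (N : ℕ) :
    Ideal.span (Set.range x) ^ (d * N + 1) ≤ Ideal.span (Set.range fun i => x i ^ N) := by
  classical
  have h : ∀ s : Finset (Fin d),
      Ideal.span (x '' (s : Set (Fin d))) ^ (s.card * N + 1) ≤
        Ideal.span ((fun i => x i ^ N) '' (s : Set (Fin d))) := by
    intro s
    induction s using Finset.induction_on with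
    | empty => simp
    | @insert i s hi ih =>
      rw [Finset.coe_insert, Set.image_insert_eq, Set.image_insert_eq, Ideal.span_insert, Ideal.span_insert,
        Finset.card_insert_of_notMem hi, show (s.card + 1) * N + 1 = N + (s.card * N + 1) by ring]
      refine Ideal.sup_pow_add_le_pow_sup_pow.trans (sup_le_sup ?_ ih)
      rw [Ideal.span_singleton_pow]
  simpa using h Finset.univ

/-- Generators of the differentials of a local algebra on which derivations can be prescribed. -/
theorem exists_differential_basis {k A : Type u} [Field k] [CommRing A] [IsLocalRing A] [Algebra k A]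
    [Algebra.EssFiniteType k A] :
    ∃ (m : ℕ) (a : Fin m → A), Submodule.span A (Set.range fun j => KaehlerDifferential.D k A (a j)) = ⊤ ∧
      ∀ (M : Type u) [AddCommGroup M] [Module A M] [Module (ResidueField A) M] [IsScalarTower A (ResidueField A) M]
        [Module k M] [IsScalarTower k A M] (v : Fin m → M), ∃ δ : Derivation k A M, ∀ j, δ (a j) = v j := by
  classical
  let F := ResidueField A
  let D1 : A → F ⊗[A] Ω[A⁄k] := fun x => (1 : F) ⊗ₜ KaehlerDifferential.D k A x
  have htop : Submodule.span F (Set.range D1) = ⊤ := by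
    refine eq_top_iff.mpr fun z _ => ?_
    rename_i hz0
    clear hz0
    induction z using TensorProduct.induction_on with
    | zero => exact zero_mem _
    | add a b ha hb => exact add_mem ha hb
    | tmul c y =>
      induction (KaehlerDifferential.span_range_derivation k A ▸ Submodule.mem_top :
          y ∈ Submodule.span A (Set.range (KaehlerDifferential.D k A))) using Submodule.span_induction generalizing c with
      | mem w hw =>
        obtain ⟨x, rfl⟩ := hw
        rw [← mul_one c, ← smul_eq_mul, ← TensorProduct.smul_tmul']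
        exact Submodule.smul_mem _ _ (Submodule.subset_span ⟨x, rfl⟩)
      | zero => rw [TensorProduct.tmul_zero]; exact zero_mem _
      | add a b _ _ ha hb => rw [TensorProduct.tmul_add]; exact add_mem (ha c) (hb c)
      | smul r a _ ha => rw [← TensorProduct.smul_tmul]; exact ha _
  obtain ⟨b, hb, hbspan, hbli⟩ := exists_linearIndependent F (Set.range D1)
  rw [htop] at hbspan
  let B : Module.Basis b F (F ⊗[A] Ω[A⁄k]) := Module.Basis.mk hbli (by rw [Subtype.range_coe, hbspan])
  haveI : Finite b := Module.Finite.finite_basis B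
  haveI : Fintype b := Fintype.ofFinite b
  let σ := Fintype.equivFin b
  let B' := B.reindex σ
  choose a ha using fun j : Fin (Fintype.card b) => hb (σ.symm j).2
  have hB' : ∀ j, B' j = D1 (a j) := fun j => by
    rw [Module.Basis.reindex_apply, Module.Basis.mk_apply, ha j]
  refine ⟨_, a, IsLocalRing.span_eq_top_of_tmul_eq_basis _ B' fun j => (hB' j).symm, fun M _ _ _ _ _ _ v => ?_⟩
  let f : F ⊗[A] Ω[A⁄k] →ₗ[F] M := B'.constr F v
  refine ⟨((f.restrictScalars A).comp (TensorProduct.mk A F (Ω[A⁄k]) 1)).compDer (KaehlerDifferential.D k A),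
    fun j => ?_⟩
  show f (D1 (a j)) = v j
  rw [← hB', Module.Basis.constr_basis]

/-- Minimal generators of the maximal ideal have dual derivations with values in an extension of the residue field. -/
theorem exists_coord_derivation {k R : Type u} [Field k] [CommRing R] [IsLocalRing R] [Algebra k R]
    {d : ℕ} (x : Fin d → R) (hxm : ∀ j, x j ∈ maximalIdeal R)
    (hind : ∀ c : Fin d → R, ∑ j, c j * x j ∈ maximalIdeal R ^ 2 → ∀ j, c j ∈ maximalIdeal R)
    {K : Type u} [CommRing K] [Algebra R K] (ι : ResidueField R →+* K)
    (hι : ∀ r, ι (residue R r) = algebraMap R K r) (i : Fin d) :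
    ∃ D : R →+ K, (∀ s t, D (s * t) = algebraMap R K s * D t + algebraMap R K t * D s) ∧
      ∀ j, D (x j) = if j = i then 1 else 0 := by
  haveI := Groth.L06.FormSmooth.formallySmooth_bot_field k (ResidueField R)
  obtain ⟨φ, hφ⟩ := Groth.L06.FormSmooth.exists_section (k := (⊥ : Subfield k)) (A := R) 1
  let Q := R ⧸ maximalIdeal R ^ (1 + 1)
  let M1 : Ideal Q := (maximalIdeal R).map (Ideal.Quotient.mk _)
  have hmem : ∀ s, Ideal.Quotient.mk _ s - φ (residue R s) ∈ M1 := fun s =>
    Groth.L06.FormSmooth.mem_image φ.toRingHom hφ s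
  have hM : ∀ u ∈ M1, ∀ v ∈ M1, u * v = 0 := fun u hu v hv => by
    have := Ideal.mul_mem_mul hu hv
    rwa [← pow_two, ← Ideal.map_pow, Ideal.map_quotient_self, Ideal.mem_bot] at this
  letI : Algebra (ResidueField R) Q := φ.toRingHom.toAlgebra
  let v : Fin d → Q := fun j => Ideal.Quotient.mk _ (x j)
  have hvM : ∀ j, v j ∈ M1 := fun j => Ideal.mem_map_of_mem _ (hxm j)
  have hv : LinearIndependent (ResidueField R) v := by
    rw [Fintype.linearIndependent_iff]
    intro g hg j
    choose c hc using fun j => residue_surjective (g j)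
    have h1 : ∀ j, Ideal.Quotient.mk _ (c j) * v j = g j • v j := fun j => by
      rw [Algebra.smul_def, ← hc j, ← sub_eq_zero, ← sub_mul]
      exact hM _ (hmem (c j)) _ (hvM j)
    rw [← hc j, residue_eq_zero_iff]
    refine hind c ?_ j
    rw [← Ideal.Quotient.eq_zero_iff_mem, map_sum, ← hg]
    exact Finset.sum_congr rfl fun j _ => by rw [map_mul]; exact h1 j
  let b := Module.Basis.sumExtend hv
  have hb : ∀ j, b (Sum.inl j) = v j := fun j => by
    simp [b, Module.Basis.sumExtend]
    rfl
  let χ : Q →ₗ[ResidueField R] ResidueField R := b.coord (Sum.inl i)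
  let f : R →+ K := AddMonoidHom.mk' (fun s => ι (χ (Ideal.Quotient.mk _ s - φ (residue R s))))
    fun s t => by
      rw [← map_add ι, ← map_add χ]
      congr 2
      simp only [map_add]
      ring
  refine ⟨f, fun s t => ?_, fun j => ?_⟩
  · rw [← hι, ← hι]
    show ι (χ _) = ι _ * ι (χ _) + ι _ * ι (χ _)
    rw [← map_mul, ← map_mul, ← map_add]
    congr 1
    rw [← smul_eq_mul (residue R s), ← smul_eq_mul (residue R t), ← map_smul, ← map_smul, ← map_add,
      Algebra.smul_def, Algebra.smul_def]
    congr 1
    show Ideal.Quotient.mk _ (s * t) - φ (residue R (s * t)) =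
      φ (residue R s) * (Ideal.Quotient.mk _ t - φ (residue R t)) + φ (residue R t) * (Ideal.Quotient.mk _ s - φ (residue R s))
    simp only [map_mul]
    linear_combination hM _ (hmem s) _ (hmem t)
  · show ι (χ (Ideal.Quotient.mk _ (x j) - φ (residue R (x j)))) = _
    rw [(residue_eq_zero_iff (x j)).mpr (hxm j), map_zero, sub_zero]
    show ι (b.coord (Sum.inl i) (v j)) = _
    rw [Module.Basis.coord_apply, ← hb, b.repr_self]
    by_cases hji : j = i
    · subst hji; simp
    · rw [if_neg hji, Finsupp.single_eq_of_ne (by simpa using fun h => hji h.symm), map_zero]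

/-- Flatness transports linear forms on the maximal ideal of the subalgebra to the extension. -/
theorem sum_smul_eq_zero_of_flat {A T K : Type u} [CommRing A] [IsLocalRing A] [CommRing T] [IsLocalRing T]
    [Algebra A T] [Module.Flat A T] (hmT : (maximalIdeal A).map (algebraMap A T) = maximalIdeal T)
    [AddCommGroup K] [Module T K] [Module A K] [IsScalarTower A T K] (hK : ∀ s ∈ maximalIdeal T, ∀ z : K, s • z = 0)
    (ℓ : maximalIdeal A →ₗ[A] K) {ι : Type} [Fintype ι] (c : ι → T) (x : ι → maximalIdeal A)
    (h : ∑ i, c i * algebraMap A T (x i) ∈ maximalIdeal T ^ 2) : ∑ i, c i • ℓ (x i) = 0 := by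
  let incl : maximalIdeal A →ₗ[A] T := (Algebra.linearMap A T).comp (Submodule.subtype (maximalIdeal A))
  let μ : T ⊗[A] maximalIdeal A →ₗ[T] T := LinearMap.liftBaseChange T incl
  let L : T ⊗[A] maximalIdeal A →ₗ[T] K := LinearMap.liftBaseChange T ℓ
  have hμ : ∀ t a, μ (t ⊗ₜ a) = t * algebraMap A T (a : A) := fun t a => by
    rw [LinearMap.liftBaseChange_tmul]
    rfl
  have hinj : Function.Injective μ := by
    have h2 : ∀ w, μ w = TensorProduct.rid A T (LinearMap.lTensor T (Submodule.subtype (maximalIdeal A)) w) := by
      intro w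
      induction w using TensorProduct.induction_on with
      | zero => simp
      | add a b ha hb => simp only [map_add, ha, hb]
      | tmul t a =>
        rw [hμ, LinearMap.lTensor_tmul, TensorProduct.rid_tmul, Algebra.smul_def, mul_comm]
        rfl
    rw [show (μ : T ⊗[A] maximalIdeal A → T) = _ from funext h2]
    exact (TensorProduct.rid A T).injective.comp
      (Module.Flat.lTensor_preserves_injective_linearMap _ Subtype.val_injective)
  have hrange : ∀ z ∈ maximalIdeal T, ∃ w, μ w = z := by
    intro z hz
    rw [← hmT] at hz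
    refine (Ideal.span_le (I := LinearMap.range μ)).mpr ?_ hz
    rintro _ ⟨a, ha, rfl⟩
    exact ⟨(1 : T) ⊗ₜ ⟨a, ha⟩, by rw [hμ, one_mul]⟩
  have hsq : ∀ z ∈ maximalIdeal T ^ 2, ∃ w, μ w = z ∧ L w = 0 := by
    intro z hz
    rw [pow_two] at hz
    induction hz using Submodule.mul_induction_on' with
    | mem_mul_mem s hs t ht =>
      obtain ⟨w, rfl⟩ := hrange t ht
      exact ⟨s • w, by rw [map_smul, smul_eq_mul], by rw [map_smul, hK s hs]⟩
    | add u _ v _ hu hv =>
      obtain ⟨w, hw, hw0⟩ := hu
      obtain ⟨w', hw', hw0'⟩ := hv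
      exact ⟨w + w', by rw [map_add, hw, hw'], by rw [map_add, hw0, hw0', add_zero]⟩
  obtain ⟨w, hw, hw0⟩ := hsq _ h
  have hweq : w = ∑ i, c i ⊗ₜ x i := hinj (by rw [hw, map_sum]; simp only [hμ])
  rw [hweq, map_sum] at hw0
  simpa only [L, LinearMap.liftBaseChange_tmul] using hw0

end Groth.L14.Smoothing.Insep
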