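import Groth.Agent.L06.CplKaehlerSmooth
import Groth.Agent.L06.SepKaehler
import Groth.Agent.L06.FormSmoothGeom
import Mathlib.RingTheory.Kaehler.JacobiZariski

/-!
Consequences of injectivity of the map on differentials at the closed point.
-/

set_option autoImplicit false
set_option maxSynthPendingDepth 3
set_option linter.style.haveILetI false

noncomputable section

open IsLocalRing TensorProduct

namespace Groth.L14.Smoothing.Insep

universe u

open Groth.L06.FormSmooth

variable {k S : Type u} [Field k] [CommRing S] [IsLocalRing S] [Algebra k S]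

/-- Derivations of the ground field extend to the local ring. -/
theorem exists_derivation_extend (hinj : Function.Injective (diffMap k S))
    (D : Derivation ℤ k (ResidueField S)) :
    ∃ δ : Derivation ℤ S (ResidueField S), ∀ c, δ (algebraMap k S c) = D c := by
  obtain ⟨l, hl⟩ := (diffMap k S).exists_leftInverse_of_injective (LinearMap.ker_eq_bot.mpr hinj)
  let Φ := (LinearMap.liftBaseChange (ResidueField S) D.liftKaehlerDifferential).comp l
  refine ⟨((Φ.restrictScalars S).comp (TensorProduct.mk S (ResidueField S) (Ω[S⁄ℤ]) 1)).compDer
    (KaehlerDifferential.D ℤ S), fun c => ?_⟩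
  show LinearMap.liftBaseChange (ResidueField S) D.liftKaehlerDifferential
    (l ((1 : ResidueField S) ⊗ₜ KaehlerDifferential.D ℤ S (algebraMap k S c))) = D c
  rw [← diffMap_tmul k S 1 c,
    show l (diffMap k S ((1 : ResidueField S) ⊗ₜ KaehlerDifferential.D ℤ k c)) = _ from LinearMap.congr_fun hl _,
    LinearMap.id_apply, LinearMap.liftBaseChange_tmul, one_smul, Derivation.liftKaehlerDifferential_comp_D]

/-- The first cotangent homology of the residue field is finite dimensional. -/
theorem h1_finite [IsNoetherianRing S] (hinj : Function.Injective (diffMap k S)) :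
    Module.Finite (ResidueField S) (Algebra.H1Cotangent k (ResidueField S)) := by
  let K := ResidueField S
  let V := EGA41.imperfection ℤ k K
  haveI := (Groth.L06.CplKaehlerSmooth.ker_mapBaseChange (k := k) (A := S)).1
  have hcomp : ∀ x : K ⊗[k] Ω[k⁄ℤ], KaehlerDifferential.mapBaseChange ℤ S K (diffMap k S x) =
      KaehlerDifferential.mapBaseChange ℤ k K x := by
    intro x
    induction x using TensorProduct.induction_on with
    | zero => simp
    | add a b ha hb => simp only [map_add, ha, hb]
    | tmul c y =>
      induction (KaehlerDifferential.span_range_derivation ℤ k ▸ Submodule.mem_top :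
          y ∈ Submodule.span k (Set.range (KaehlerDifferential.D ℤ k))) using Submodule.span_induction generalizing c with
      | mem w hw =>
        obtain ⟨a, rfl⟩ := hw
        rw [diffMap_tmul, KaehlerDifferential.mapBaseChange_tmul, KaehlerDifferential.mapBaseChange_tmul,
          KaehlerDifferential.map_D, KaehlerDifferential.map_D, ← IsScalarTower.algebraMap_apply k S K]
      | zero => simp
      | add a b _ _ ha hb => simp only [TensorProduct.tmul_add, map_add, ha c, hb c]
      | smul r a _ ha => rw [← TensorProduct.smul_tmul]; exact ha _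
  let u : V →ₗ[K] LinearMap.ker (KaehlerDifferential.mapBaseChange ℤ S K) :=
    LinearMap.codRestrict _ ((diffMap k S).comp V.subtype) fun z => by
      rw [LinearMap.mem_ker, LinearMap.comp_apply, hcomp]
      exact z.2
  haveI : Module.Finite K V := Module.Finite.of_injective u fun a b h =>
    Subtype.ext (hinj (congrArg Subtype.val h))
  obtain ⟨e, -⟩ := Groth.L06.SepKaehler.bot_ker_bijective k K
  haveI : Module.Finite K (EGA41.imperfection (⊥ : Subfield k) k K) := @Module.Finite.equiv K V _ _ _ _ _ _ ‹Module.Finite K V› e
  haveI : Algebra.FormallySmooth (⊥ : Subfield k) K := Groth.L06.FormSmooth.formallySmooth_bot_field k K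
  let δ := Algebra.H1Cotangent.δ (⊥ : Subfield k) k K
  have hδ : Function.Injective δ := by
    refine (injective_iff_map_eq_zero _).mpr fun y hy => ?_
    obtain ⟨x, rfl⟩ := (Algebra.H1Cotangent.exact_map_δ (⊥ : Subfield k) k K y).mp hy
    rw [Subsingleton.elim x 0, map_zero]
  let δ' : Algebra.H1Cotangent k K →ₗ[K] EGA41.imperfection (⊥ : Subfield k) k K :=
    LinearMap.codRestrict _ δ fun y =>
      (Algebra.H1Cotangent.exact_δ_mapBaseChange (⊥ : Subfield k) k K).apply_apply_eq_zero y
  exact Module.Finite.of_injective δ' fun a b h => hδ (congrArg Subtype.val h)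

end Groth.L14.Smoothing.Insep
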