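import Groth.Agent.L01.Regular
import Groth.Agent.L20.LocalCriterion
import Mathlib.RingTheory.TensorProduct.Quotient
import Mathlib.RingTheory.Ideal.Quotient.Operations

/-!
A local map of regular local rings of the same dimension with `m_R S = m_S` is flat.
-/

set_option autoImplicit false
set_option linter.style.haveILetI false

open IsLocalRing TensorProduct

namespace Groth.L14.Smoothing.RegFlat

universe u

theorem flat_of_regular : ∀ (n : ℕ) (R S : Type u) [CommRing R] [IsRegularLocalRing R] [CommRing S]
    [IsRegularLocalRing S] [Algebra R S] [IsLocalHom (algebraMap R S)],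
    ringKrullDim R = n → ringKrullDim S = n →
    (maximalIdeal R).map (algebraMap R S) = maximalIdeal S → Module.Flat R S := by
  classical
  intro n
  induction n with
  | zero =>
    intro R S _ _ _ _ _ _ hR hS _
    have h0 : maximalIdeal R = ⊥ := by
      have h := (isRegularLocalRing_iff R).mp inferInstance
      rw [hR] at h
      norm_cast at h
      exact (Submodule.spanFinrank_eq_zero_iff_eq_bot (Ideal.fg_of_isNoetherianRing (maximalIdeal R))).mp h
    haveI : Subsingleton (maximalIdeal R) := by rw [h0]; infer_instance
    haveI : Subsingleton (S ⊗[R] (maximalIdeal R)) := by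
      refine ⟨fun a b => ?_⟩
      have : ∀ z : S ⊗[R] (maximalIdeal R), z = 0 := by
        intro z
        induction z with
        | zero => rfl
        | tmul s a => rw [Subsingleton.elim a 0, tmul_zero]
        | add a b ha hb => rw [ha, hb, add_zero]
      rw [this a, this b]
    exact Groth.L20.flat_of_lTensor_maximalIdeal_injective S (Function.injective_of_subsingleton _)
  | succ n ih =>
    intro R S _ _ _ _ _ _ hR hS hm
    have hR' := (isRegularLocalRing_iff R).mp inferInstance
    have hS' := (isRegularLocalRing_iff S).mp inferInstance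
    rw [hR] at hR'
    rw [hS] at hS'
    norm_cast at hR' hS'
    obtain ⟨x, hx, hx2⟩ : ∃ x ∈ maximalIdeal R, x ∉ maximalIdeal R ^ 2 := by
      by_contra! h
      have := Submodule.eq_bot_of_le_smul_of_le_jacobson_bot (maximalIdeal R) (maximalIdeal R)
        (Ideal.fg_of_isNoetherianRing _) (by rw [smul_eq_mul, ← pow_two]; exact h) (maximalIdeal_le_jacobson ⊥)
      rw [this, Submodule.spanFinrank_bot] at hR'
      omega
    let y := algebraMap R S x
    have hy : y ∈ maximalIdeal S := hm ▸ Ideal.mem_map_of_mem _ hx
    obtain ⟨hRq, hRd⟩ := Groth.L01.regular_quotient_of_notMem_sq hx hx2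
    have hy2 : y ∉ maximalIdeal S ^ 2 := by
      intro hy2
      haveI := hRq
      have hfg : (maximalIdeal (R ⧸ Ideal.span {x})).FG := Ideal.fg_of_isNoetherianRing _
      let t : Set R := Function.surjInv Ideal.Quotient.mk_surjective '' (maximalIdeal (R ⧸ Ideal.span {x})).generators
      have ht : Ideal.span (Ideal.Quotient.mk (Ideal.span {x}) '' t) = maximalIdeal (R ⧸ Ideal.span {x}) := by
        rw [← Set.image_comp, (funext (Function.surjInv_eq _) :
          Ideal.Quotient.mk (Ideal.span {x}) ∘ Function.surjInv Ideal.Quotient.mk_surjective = id), Set.image_id]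
        exact Submodule.span_generators _
      have htf : t.Finite := (Submodule.FG.finite_generators hfg).image _
      have hcard : t.ncard ≤ n := by
        refine (Set.ncard_image_le (Submodule.FG.finite_generators hfg)).trans ?_
        rw [Submodule.FG.generators_ncard hfg]
        have h := (isRegularLocalRing_iff (R ⧸ Ideal.span {x})).mp inferInstance
        rw [hR, ← h] at hRd
        norm_cast at hRd
        omega
      have hspan : maximalIdeal S = Ideal.span {y} ⊔ Ideal.span (algebraMap R S '' t) := by
        conv_lhs => rw [← hm, ← Groth.L01.maximalIdeal_eq_span_insert hx ht, Ideal.map_span, Set.image_insert_eq,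
          Ideal.span_insert]
      have hle : maximalIdeal S ≤ Ideal.span (algebraMap R S '' t) := by
        refine Submodule.le_of_le_smul_of_le_jacobson_bot (Ideal.fg_of_isNoetherianRing _)
          (maximalIdeal_le_jacobson ⊥) ?_
        rw [smul_eq_mul, ← pow_two]
        conv_lhs => rw [hspan]
        exact sup_le ((Ideal.span_singleton_le_iff_mem _).mpr (Ideal.mem_sup_right hy2)) le_sup_left
      have heq : maximalIdeal S = Ideal.span (algebraMap R S '' t) := le_antisymm hle (hspan ▸ le_sup_right)
      have h1 : (maximalIdeal S).spanFinrank ≤ n := by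
        rw [heq]
        exact (Submodule.spanFinrank_span_le_ncard_of_finite (htf.image _)).trans
          ((Set.ncard_image_le htf).trans hcard)
      omega
    obtain ⟨hSq, hSd⟩ := Groth.L01.regular_quotient_of_notMem_sq hy hy2
    haveI := hRq
    haveI := hSq
    let I : Ideal R := Ideal.span {x}
    let J : Ideal S := Ideal.span {y}
    have hIJ : I.map (algebraMap R S) = J := by rw [Ideal.map_span, Set.image_singleton]
    letI : Algebra (R ⧸ I) (S ⧸ J) := (Ideal.quotientMap J (algebraMap R S) (by
      rw [← Ideal.map_le_iff_le_comap, hIJ])).toAlgebra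
    haveI : IsLocalHom (algebraMap (R ⧸ I) (S ⧸ J)) := by
      refine ⟨fun a ha => ?_⟩
      obtain ⟨a, rfl⟩ := Ideal.Quotient.mk_surjective a
      have h1 : IsUnit (Ideal.Quotient.mk J (algebraMap R S a)) := ha
      have h2 : IsUnit (algebraMap R S a) := by
        haveI : IsLocalHom (Ideal.Quotient.mk J) := IsLocalHom.of_surjective _ Ideal.Quotient.mk_surjective
        exact h1.of_map _ _
      exact (h2.of_map _ _).map _
    have hm' : (maximalIdeal (R ⧸ I)).map (algebraMap (R ⧸ I) (S ⧸ J)) = maximalIdeal (S ⧸ J) := by
      rw [Groth.L01.maximalIdeal_quotient_eq_map, Groth.L01.maximalIdeal_quotient_eq_map, ← hm, Ideal.map_map,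
        Ideal.map_map]
      rfl
    have hRn : ringKrullDim (R ⧸ I) = n := by
      obtain ⟨m, hm''⟩ := Groth.L01.exists_dim_eq_nat (R := R ⧸ I)
      have := hRd
      rw [hR, hm''] at this
      norm_cast at this
      rw [hm'']
      norm_cast
      omega
    have hSn : ringKrullDim (S ⧸ J) = n := by
      obtain ⟨m, hm''⟩ := Groth.L01.exists_dim_eq_nat (R := S ⧸ J)
      have := hSd
      rw [hS, hm''] at this
      norm_cast at this
      rw [hm'']
      norm_cast
      omega
    haveI hflat : Module.Flat (R ⧸ I) (S ⧸ J) := ih (R ⧸ I) (S ⧸ J) hRn hSn hm'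
    haveI : Module.Flat (R ⧸ I) ((R ⧸ I) ⊗[R] S) := by
      let e : ((R ⧸ I) ⊗[R] S) ≃+* (S ⧸ J) :=
        ((Algebra.TensorProduct.comm R (R ⧸ I) S).toRingEquiv.trans
          (Algebra.TensorProduct.quotIdealMapEquivTensorQuot S I).symm.toRingEquiv).trans
            (Ideal.quotEquivOfEq hIJ)
      let eₗ : ((R ⧸ I) ⊗[R] S) ≃ₗ[R ⧸ I] (S ⧸ J) :=
        { e.toAddEquiv with
          map_smul' := fun r z => by
            obtain ⟨r, rfl⟩ := Ideal.Quotient.mk_surjective r
            show e (Ideal.Quotient.mk I r • z) = Ideal.Quotient.mk I r • e z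
            induction z with
            | zero => rw [smul_zero, map_zero, smul_zero]
            | tmul a s =>
              obtain ⟨a, rfl⟩ := Ideal.Quotient.mk_surjective a
              rw [TensorProduct.smul_tmul', smul_eq_mul, ← map_mul]
              show Ideal.Quotient.mk J _ = Ideal.Quotient.mk J (algebraMap R S r) * Ideal.Quotient.mk J _
              rw [← map_mul]
              congr 1
              simp [Algebra.smul_def, mul_assoc]
            | add a b ha hb => rw [smul_add, map_add, ha, hb, map_add, smul_add] }
      exact Module.Flat.of_linearEquiv eₗ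
    have hxI : ∀ a : I, ∃ r, (a : R) = r * x := fun a => (Ideal.mem_span_singleton'.mp a.2).imp fun r h => h.symm
    refine Groth.L20.flat_of_lTensor_injective_of_flat_quotient S I (fun h => ?_) ?_
    · exact (maximalIdeal.isMaximal R).ne_top (top_le_iff.mp (h ▸ (Ideal.span_singleton_le_iff_mem _).mpr hx))
    · haveI := Groth.L01.isDomain_of_regular S
      let θ : S →ₗ[R] S ⊗[R] I := (TensorProduct.mk R S I).flip ⟨x, Ideal.mem_span_singleton_self x⟩
      have hθ : Function.Surjective θ := by
        intro z
        induction z with
        | zero => exact ⟨0, map_zero θ⟩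
        | tmul s a =>
          obtain ⟨r, hr⟩ := hxI a
          refine ⟨r • s, ?_⟩
          show (r • s) ⊗ₜ[R] (⟨x, Ideal.mem_span_singleton_self x⟩ : I) = s ⊗ₜ[R] a
          rw [smul_tmul]
          exact congrArg (s ⊗ₜ[R] ·) (Subtype.ext hr.symm)
        | add a b ha hb =>
          obtain ⟨a', rfl⟩ := ha
          obtain ⟨b', rfl⟩ := hb
          exact ⟨a' + b', map_add θ a' b'⟩
      refine (injective_iff_map_eq_zero _).mpr fun z hz => ?_
      obtain ⟨s, rfl⟩ := hθ z
      have h1 := congrArg (TensorProduct.rid R S) hz
      simp only [θ, LinearMap.flip_apply, TensorProduct.mk_apply, LinearMap.lTensor_tmul, Submodule.subtype_apply,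
        TensorProduct.rid_tmul, map_zero, Algebra.smul_def] at h1
      rcases mul_eq_zero.mp h1 with h2 | h2
      · exact absurd h2 (Groth.L01.ne_zero_of_notMem_sq hy2)
      · rw [h2, map_zero]

end Groth.L14.Smoothing.RegFlat
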