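import Groth.Agent.L14.Smoothing.InsepAux
import Groth.Agent.L14.Smoothing.InsepH1
import Groth.Agent.L14.Smoothing.ArtSub
import Groth.Agent.L14.Smoothing.RegFlat
import Groth.Agent.L01.Regular
import Mathlib.RingTheory.RegularLocalRing.Polynomial
import Mathlib.RingTheory.Unramified.LocalRing
import Mathlib.RingTheory.Localization.AtPrime.Basic
import Mathlib.RingTheory.Extension.Cotangent.Basic

/-!
A polynomial base with the same regular parameters as a geometrically regular local algebra.
-/

set_option autoImplicit false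
set_option maxSynthPendingDepth 3
set_option linter.style.haveILetI false

noncomputable section

open IsLocalRing MvPolynomial TensorProduct

namespace Groth.L14.Smoothing.Insep

universe u

/-- Artinian subalgebras of a truncated geometrically regular local ring. -/
theorem exists_subalgebra {k S : Type u} [Field k] (p : ℕ) [Fact p.Prime] [CharP k p] [CommRing S]
    [IsLocalRing S] [IsNoetherianRing S] [Algebra k S] (hgeo : CAlg.IsGeometricallyRegular k S) (L : ℕ) (hL : 1 ≤ L)
    (E0 : Finset (S ⧸ maximalIdeal S ^ L)) :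
    ∃ (A0 : Subalgebra k (S ⧸ maximalIdeal S ^ L)) (_ : IsLocalRing A0), (∀ x ∈ E0, x ∈ A0) ∧ IsArtinianRing A0 ∧
      Module.Flat A0 (S ⧸ maximalIdeal S ^ L) ∧ Algebra.EssFiniteType k A0 ∧
      (maximalIdeal A0).map (algebraMap A0 (S ⧸ maximalIdeal S ^ L)) =
        (maximalIdeal S).map (Ideal.Quotient.mk (maximalIdeal S ^ L)) := by
  let T := S ⧸ maximalIdeal S ^ L
  have hne : maximalIdeal S ^ L ≠ ⊤ := ne_top_of_le_ne_top (maximalIdeal.isMaximal S).ne_top
    (Ideal.pow_le_self (by omega))
  haveI : IsLocalRing T := Groth.L01.isLocalRing_quotient hne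
  have hmT : maximalIdeal T = (maximalIdeal S).map (Ideal.Quotient.mk _) := Groth.L01.maximalIdeal_quotient_eq_map
  haveI : IsArtinianRing T := by
    haveI : Ring.KrullDimLE 0 T := Ring.KrullDimLE.mk₀ fun P hP => by
      have hle : maximalIdeal T ≤ P := fun x hx => by
        refine hP.mem_of_pow_mem L ?_
        have h1 := Ideal.pow_mem_pow hx L
        rw [hmT, ← Ideal.map_pow, Ideal.map_quotient_self, Ideal.mem_bot] at h1
        rw [h1]
        exact P.zero_mem
      rw [le_antisymm (IsLocalRing.le_maximalIdeal hP.ne_top) hle]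
      infer_instance
    exact IsNoetherianRing.isArtinianRing_of_krullDimLE_zero
  haveI hH : Module.Finite (ResidueField T) (Algebra.H1Cotangent k (ResidueField T)) := by
    haveI := h1_finite (Groth.L06.FormSmooth.injective_diffMap_of_geometricallyRegular p hgeo)
    let f : S →ₐ[k] ResidueField T := (IsScalarTower.toAlgHom k T (ResidueField T)).comp (Ideal.Quotient.mkₐ k _)
    have hf : RingHom.ker f = maximalIdeal S := Ideal.ext fun s => by
      rw [RingHom.mem_ker]
      show residue T (Ideal.Quotient.mk _ s) = 0 ↔ _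
      rw [residue_eq_zero_iff, hmT]
      refine ⟨fun h => ?_, fun h => Ideal.mem_map_of_mem _ h⟩
      have h2 := (Ideal.comap_map_of_surjective' _ Ideal.Quotient.mk_surjective (maximalIdeal S)).le h
      rw [Ideal.mk_ker] at h2
      exact SetLike.le_def.mp (sup_le le_rfl (Ideal.pow_le_self (by omega : L ≠ 0))) h2
    have hsurj : Function.Surjective f := fun z => by
      obtain ⟨t, rfl⟩ := residue_surjective z
      obtain ⟨s, rfl⟩ := Ideal.Quotient.mk_surjective t
      exact ⟨s, rfl⟩
    let g : ResidueField S →ₐ[k] ResidueField T := Ideal.Quotient.liftₐ (maximalIdeal S) f fun s hs => by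
      rw [← hf] at hs; exact hs
    have hg : Function.Bijective g := by
      refine ⟨RingHom.injective g.toRingHom, fun z => ?_⟩
      obtain ⟨s, rfl⟩ := hsurj z
      exact ⟨residue S s, rfl⟩
    let e := AlgEquiv.ofBijective g hg
    letI : Algebra (ResidueField S) (ResidueField T) := e.toRingHom.toAlgebra
    haveI : IsScalarTower k (ResidueField S) (ResidueField T) :=
      IsScalarTower.of_algebraMap_eq' e.toAlgHom.comp_algebraMap.symm
    have hms : Function.Surjective (Algebra.H1Cotangent.map k k (ResidueField S) (ResidueField T)) :=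
      (Algebra.H1Cotangent.mapEquiv k (ResidueField S) (ResidueField T) e).surjective
    haveI : Module.Finite (ResidueField S) (Algebra.H1Cotangent k (ResidueField T)) :=
      Module.Finite.of_surjective (Algebra.H1Cotangent.map k k (ResidueField S) (ResidueField T)) hms
    exact Module.Finite.of_restrictScalars_finite (ResidueField S) _ _
  obtain ⟨A0, i, h1, h2, h3, h4, h5⟩ := Groth.L14.Smoothing.exists_artinian_sub p hH E0
  exact ⟨A0, i, h1, h2, h3, h4, h5.trans hmT⟩

/-- Prescribed generators of the differentials make an algebra unramified over their polynomial ring. -/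
theorem formallyUnramified_of_span {k A : Type u} [Field k] [CommRing A] [Algebra k A] {m : ℕ} (a : Fin m → A)
    (h : Submodule.span A (Set.range fun j => KaehlerDifferential.D k A (a j)) = ⊤)
    [Algebra (MvPolynomial (Fin m) k) A] [IsScalarTower k (MvPolynomial (Fin m) k) A]
    (ha : ∀ j, algebraMap (MvPolynomial (Fin m) k) A (X j) = a j) :
    Algebra.FormallyUnramified (MvPolynomial (Fin m) k) A := by
  let R0 := MvPolynomial (Fin m) k
  refine ⟨⟨fun u v => ?_⟩⟩
  have hsurj := KaehlerDifferential.map_surjective k R0 A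
  have h0 : ∀ z : Ω[A⁄k], KaehlerDifferential.map k R0 A A z = 0 := fun z => by
    have hz : z ∈ Submodule.span A (Set.range fun j => KaehlerDifferential.D k A (a j)) := by rw [h]; trivial
    induction hz using Submodule.span_induction with
    | mem w hw =>
      obtain ⟨j, rfl⟩ := hw
      rw [KaehlerDifferential.map_D, ← ha j]
      exact (KaehlerDifferential.D R0 A).map_algebraMap (X j)
    | zero => exact map_zero _
    | add a b _ _ ha hb => rw [map_add, ha, hb, add_zero]
    | smul c a _ ha => rw [map_smul, ha, smul_zero]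
  obtain ⟨u, rfl⟩ := hsurj u
  obtain ⟨v, rfl⟩ := hsurj v
  rw [h0, h0]

/-- Derivations of the polynomial ring extend to the Artinian subalgebra. -/
theorem exists_extension {k S : Type u} [Field k] [CommRing S] [IsLocalRing S] [Algebra k S]
    (hinj : Function.Injective (Groth.L06.FormSmooth.diffMap k S)) (L : ℕ) (hL : 2 ≤ L)
    (A0 : Subalgebra k (S ⧸ maximalIdeal S ^ L)) [IsLocalRing A0]
    (rT : S ⧸ maximalIdeal S ^ L →+* ResidueField S) (hrT : ∀ s, rT (Ideal.Quotient.mk _ s) = residue S s)
    (hm0 : ∀ a ∈ maximalIdeal A0, rT (a : A0) = 0)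
    {m : ℕ} (y : Fin m → S) (a0 : Fin m → A0) (hy : ∀ j, (a0 j : S ⧸ maximalIdeal S ^ L) = Ideal.Quotient.mk _ (y j))
    (hder : ∀ (M : Type u) [AddCommGroup M] [Module A0 M] [Module (ResidueField A0) M]
      [IsScalarTower A0 (ResidueField A0) M] [Module k M] [IsScalarTower k A0 M] (v : Fin m → M),
      ∃ δ : Derivation k A0 M, ∀ j, δ (a0 j) = v j)
    (D : MvPolynomial (Fin m) k →+ ResidueField S)
    (hD : ∀ f g, D (f * g) = residue S (MvPolynomial.aeval y f) * D g + residue S (MvPolynomial.aeval y g) * D f) :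
    ∃ δ : A0 →+ ResidueField S, (∀ a b : A0, δ (a * b) = rT (a : A0) * δ b + rT (b : A0) * δ a) ∧
      ∀ f, δ (MvPolynomial.aeval a0 f) = D f := by
  let K := ResidueField S
  let T := S ⧸ maximalIdeal S ^ L
  have hev : ∀ f, rT (MvPolynomial.aeval a0 f : A0) = residue S (MvPolynomial.aeval y f) := fun f => by
    rw [← hrT]
    refine congrArg rT (DFunLike.congr_fun (MvPolynomial.algHom_ext (f := A0.val.comp (MvPolynomial.aeval a0))
      (g := (Ideal.Quotient.mkₐ k _).comp (MvPolynomial.aeval y)) fun j => ?_) f)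
    show A0.val (MvPolynomial.aeval a0 (X j)) = Ideal.Quotient.mk _ (MvPolynomial.aeval y (X j))
    rw [MvPolynomial.aeval_X, MvPolynomial.aeval_X]
    exact hy j
  have hk : ∀ c : k, algebraMap k K c = residue S (algebraMap k S c) := fun c => rfl
  let Dk : Derivation ℤ k K := Derivation.mk'
    (AddMonoidHom.mk' (fun c => D (C c)) fun u v => by rw [map_add, map_add]).toIntLinearMap fun u v => by
    show D (C (u * v)) = u • D (C v) + v • D (C u)
    rw [map_mul, hD, MvPolynomial.aeval_C, MvPolynomial.aeval_C, Algebra.smul_def, Algebra.smul_def, hk, hk]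
  obtain ⟨δ1, hδ1⟩ := exists_derivation_extend hinj Dk
  have hleib1 : ∀ s t, δ1 (s * t) = residue S s * δ1 t + residue S t * δ1 s := fun s t => by
    rw [δ1.leibniz, Algebra.smul_def, Algebra.smul_def]
    rfl
  have hsq : ∀ s ∈ maximalIdeal S ^ L, δ1 s = 0 := fun s hs => by
    have hs2 : s ∈ maximalIdeal S ^ 2 := Ideal.pow_le_pow_right hL hs
    rw [pow_two] at hs2
    refine Submodule.mul_induction_on hs2 (fun u hu v hv => ?_) (fun u v hu hv => by rw [map_add, hu, hv, add_zero])
    rw [hleib1, (residue_eq_zero_iff u).mpr hu, (residue_eq_zero_iff v).mpr hv, zero_mul, zero_mul, add_zero]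
  have hwd : ∀ s t : S, Ideal.Quotient.mk (maximalIdeal S ^ L) s = Ideal.Quotient.mk _ t → δ1 s = δ1 t := fun s t h =>
    sub_eq_zero.mp (by rw [← map_sub]; exact hsq _ (Ideal.Quotient.eq.mp h))
  choose lift hlift using fun a : A0 => Ideal.Quotient.mk_surjective (a : T)
  letI : Algebra A0 K := (rT.comp (algebraMap A0 T)).toAlgebra
  haveI : IsScalarTower k A0 K := IsScalarTower.of_algebraMap_eq fun c => (hrT _).symm
  have hact : ∀ a : A0, algebraMap A0 K a = rT (a : A0) := fun a => rfl
  haveI : IsLocalHom (algebraMap A0 K) := ⟨fun a ha => by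
    by_contra hna
    rw [hact, hm0 a ((IsLocalRing.mem_maximalIdeal a).mpr hna)] at ha
    exact not_isUnit_zero ha⟩
  letI : Algebra (ResidueField A0) K := (IsLocalRing.ResidueField.lift (algebraMap A0 K)).toAlgebra
  haveI : IsScalarTower A0 (ResidueField A0) K := IsScalarTower.of_algebraMap_eq fun a => by
    rw [RingHom.algebraMap_toAlgebra (R := ResidueField A0)]
    exact (IsLocalRing.ResidueField.lift_residue_apply (algebraMap A0 K) a).symm
  let g : A0 →+ K := AddMonoidHom.mk' (fun a => δ1 (lift a)) fun a b => by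
    rw [← map_add]
    exact hwd _ _ (by rw [hlift, map_add, hlift, hlift]; rfl)
  have hg : ∀ a b, g (a * b) = rT (a : A0) * g b + rT (b : A0) * g a := fun a b => by
    show δ1 (lift (a * b)) = rT (a : A0) * δ1 (lift b) + rT (b : A0) * δ1 (lift a)
    rw [hwd (lift (a * b)) (lift a * lift b) (by rw [hlift, map_mul, hlift, hlift]; rfl), hleib1,
      ← hlift a, ← hlift b, hrT, hrT]
  obtain ⟨δ2, hδ2⟩ := hder K fun j => D (X j) - g (a0 j)
  have hleib2 : ∀ a b, δ2 (a * b) = rT (a : A0) * δ2 b + rT (b : A0) * δ2 a := fun a b => by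
    rw [δ2.leibniz, Algebra.smul_def, Algebra.smul_def, hact, hact]
  refine ⟨AddMonoidHom.mk' (fun a => g a + δ2 a) (fun a b => by rw [map_add, map_add]; abel), fun a b => ?_, ?_⟩
  · show g (a * b) + δ2 (a * b) = rT (a : A0) * (g b + δ2 b) + rT (b : A0) * (g a + δ2 a)
    rw [hg, hleib2]
    ring
  intro f
  show g _ + δ2 _ = D f
  induction f using MvPolynomial.induction_on with
  | C c =>
    rw [MvPolynomial.aeval_C, Derivation.map_algebraMap, add_zero]
    show δ1 (lift (algebraMap k A0 c)) = _
    rw [hwd (lift (algebraMap k A0 c)) (algebraMap k S c) (by rw [hlift]; rfl)]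
    exact hδ1 c
  | add u v hu hv => simp only [map_add, ← hu, ← hv]; abel
  | mul_X u j hu =>
    rw [map_mul, hg, hleib2, hD, ← hu, hev, ← hev (X j), MvPolynomial.aeval_X, hδ2]
    ring

/-- A polynomial subring carrying the regular parameters. -/
theorem exists_base {k S : Type u} [Field k] (p : ℕ) [Fact p.Prime] [CharP k p] [CommRing S]
    [IsRegularLocalRing S] [Algebra k S] (hgeo : CAlg.IsGeometricallyRegular k S) {d : ℕ} (hd : ringKrullDim S = d)
    (L : ℕ) (hL : 2 ≤ L) (E0 : Finset (S ⧸ maximalIdeal S ^ L)) :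
    ∃ (m : ℕ) (y : Fin m → S) (A0 : Subalgebra k (S ⧸ maximalIdeal S ^ L)) (_ : IsLocalRing A0) (a0 : Fin m → A0),
      (∀ j, (a0 j : S ⧸ maximalIdeal S ^ L) = Ideal.Quotient.mk _ (y j)) ∧ (∀ x ∈ E0, x ∈ A0) ∧
      IsArtinianRing A0 ∧ Module.Flat A0 (S ⧸ maximalIdeal S ^ L) ∧ Algebra.EssFiniteType k A0 ∧
      (maximalIdeal A0).map (algebraMap A0 (S ⧸ maximalIdeal S ^ L)) =
        (maximalIdeal S).map (Ideal.Quotient.mk (maximalIdeal S ^ L)) ∧
      Submodule.span A0 (Set.range fun j => KaehlerDifferential.D k A0 (a0 j)) = ⊤ ∧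
      ringKrullDim (Localization.AtPrime ((maximalIdeal S).comap (MvPolynomial.aeval y : MvPolynomial (Fin m) k →ₐ[k] S))) = d ∧
      ∃ P : Fin d → MvPolynomial (Fin m) k,
        Ideal.span (Set.range fun i => algebraMap _
          (Localization.AtPrime ((maximalIdeal S).comap (MvPolynomial.aeval y : MvPolynomial (Fin m) k →ₐ[k] S))) (P i)) =
            maximalIdeal _ ∧
        Ideal.span (Set.range fun i => MvPolynomial.aeval y (P i)) = maximalIdeal S := by
  classical
  obtain ⟨A0, iloc, hE0, hArt, hflat, hess, hmA⟩ := exists_subalgebra p hgeo L (by omega) E0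
  haveI := iloc
  haveI := hflat
  haveI := hess
  let T := S ⧸ maximalIdeal S ^ L
  have hne : maximalIdeal S ^ L ≠ ⊤ := ne_top_of_le_ne_top (maximalIdeal.isMaximal S).ne_top
    (Ideal.pow_le_self (by omega))
  haveI : IsLocalRing T := Groth.L01.isLocalRing_quotient hne
  have hmT : maximalIdeal T = (maximalIdeal S).map (Ideal.Quotient.mk _) := Groth.L01.maximalIdeal_quotient_eq_map
  rw [← hmT] at hmA
  haveI : IsLocalHom (algebraMap A0 T) := ((IsLocalRing.local_hom_TFAE (algebraMap A0 T)).out 0 2).mpr hmA.le
  obtain ⟨m, a0, hspan, hder⟩ := exists_differential_basis (k := k) (A := A0)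
  choose y hy using fun j => Ideal.Quotient.mk_surjective (a0 j : T)
  let R0 := MvPolynomial (Fin m) k
  let ev : R0 →ₐ[k] S := MvPolynomial.aeval y
  let p0 : Ideal R0 := (maximalIdeal S).comap ev
  let R0p := Localization.AtPrime p0
  letI : Algebra R0 S := ev.toRingHom.toAlgebra
  haveI : IsScalarTower k R0 S := IsScalarTower.of_algebraMap_eq fun c => (ev.commutes c).symm
  letI : Algebra R0 A0 := (MvPolynomial.aeval a0 : R0 →ₐ[k] A0).toRingHom.toAlgebra
  haveI : IsScalarTower k R0 A0 := IsScalarTower.of_algebraMap_eq fun c =>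
    ((MvPolynomial.aeval a0 : R0 →ₐ[k] A0).commutes c).symm
  have hcompat : ∀ f : R0, (algebraMap R0 A0 f : T) = Ideal.Quotient.mk _ (ev f) := fun f => by
    refine DFunLike.congr_fun (MvPolynomial.algHom_ext (f := A0.val.comp (MvPolynomial.aeval a0))
      (g := (Ideal.Quotient.mkₐ k _).comp ev) fun j => ?_) f
    show A0.val (MvPolynomial.aeval a0 (X j)) = Ideal.Quotient.mk _ (MvPolynomial.aeval y (X j))
    rw [MvPolynomial.aeval_X, MvPolynomial.aeval_X]
    exact (hy j).symm
  letI : Algebra R0p S := (IsLocalization.lift (M := p0.primeCompl) (g := algebraMap R0 S)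
    (fun z => not_not.mp fun h => z.2 h) : R0p →+* S).toAlgebra
  haveI : IsScalarTower R0 R0p S := IsScalarTower.of_algebraMap_eq fun x => by
    rw [RingHom.algebraMap_toAlgebra (R := R0p), IsLocalization.lift_eq]
  have hu0 : ∀ z : p0.primeCompl, IsUnit (algebraMap R0 A0 z) := fun z => by
    refine IsUnit.of_map (f := algebraMap A0 T) _ ?_
    show IsUnit ((algebraMap R0 A0 z : A0) : T)
    rw [hcompat]
    exact (not_not.mp fun h => z.2 h : IsUnit (ev z)).map _
  letI : Algebra R0p A0 := (IsLocalization.lift (M := p0.primeCompl) (g := algebraMap R0 A0) hu0 : R0p →+* A0).toAlgebra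
  haveI : IsScalarTower R0 R0p A0 := IsScalarTower.of_algebraMap_eq fun x => by
    rw [RingHom.algebraMap_toAlgebra (R := R0p), IsLocalization.lift_eq]
  have hcompat' : (algebraMap A0 T).comp (algebraMap R0p A0) = (Ideal.Quotient.mk _).comp (algebraMap R0p S) :=
    IsLocalization.ringHom_ext p0.primeCompl (RingHom.ext fun f => by
      show ((algebraMap R0p A0 (algebraMap R0 R0p f) : A0) : T) = Ideal.Quotient.mk _ (algebraMap R0p S (algebraMap R0 R0p f))
      rw [← IsScalarTower.algebraMap_apply R0 R0p A0, ← IsScalarTower.algebraMap_apply R0 R0p S]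
      exact hcompat f)
  haveI : IsLocalHom (algebraMap R0p S) := ((IsLocalRing.local_hom_TFAE (algebraMap R0p S)).out 0 2).mpr (by
    rw [← Localization.AtPrime.map_eq_maximalIdeal, Ideal.map_map, ← IsScalarTower.algebraMap_eq,
      Ideal.map_le_iff_le_comap]
    exact le_rfl)
  haveI : IsLocalHom (algebraMap R0p A0) := by
    refine ⟨fun z hz => ?_⟩
    have h1 : IsUnit (Ideal.Quotient.mk (maximalIdeal S ^ L) (algebraMap R0p S z)) := by
      rw [← RingHom.comp_apply, ← hcompat']
      exact hz.map (algebraMap A0 T)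
    haveI : IsLocalHom (Ideal.Quotient.mk (maximalIdeal S ^ L)) :=
      IsLocalHom.of_surjective _ Ideal.Quotient.mk_surjective
    exact IsUnit.of_map (f := algebraMap R0p S) _ (IsUnit.of_map (f := Ideal.Quotient.mk _) _ h1)
  haveI := formallyUnramified_of_span a0 hspan fun j => MvPolynomial.aeval_X a0 j
  haveI : Algebra.FormallyUnramified R0p A0 := Algebra.FormallyUnramified.of_restrictScalars R0 R0p A0
  haveI : Algebra.EssFiniteType R0 A0 := Algebra.EssFiniteType.of_comp k R0 A0
  haveI : Algebra.EssFiniteType R0p A0 := Algebra.EssFiniteType.of_comp R0 R0p A0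
  have hpA : (maximalIdeal R0p).map (algebraMap R0p A0) = maximalIdeal A0 :=
    Algebra.FormallyUnramified.map_maximalIdeal
  haveI : IsRegularLocalRing R0p := IsRegularRing.isRegularLocalRing_localization p0
  obtain ⟨d', hd'⟩ := Groth.L01.exists_dim_eq_nat (R := R0p)
  have hsf : (maximalIdeal R0p).spanFinrank = d' := by
    have h := (isRegularLocalRing_iff R0p).mp inferInstance
    rw [hd'] at h
    exact_mod_cast h
  obtain ⟨g, hgc, hg⟩ := Submodule.FG.exists_span_finset_card_eq_spanFinrank
    (IsNoetherian.noetherian (maximalIdeal R0p))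
  let ι : Fin d' ≃ g := (finCongr (hgc.trans hsf).symm).trans g.equivFin.symm
  choose num hnum using fun i : Fin d' => IsLocalization.exists_mk'_eq p0.primeCompl ((ι i : R0p))
  have hgen : Ideal.span (Set.range fun i => algebraMap R0 R0p (num i)) = maximalIdeal R0p := by
    refine le_antisymm (Ideal.span_le.mpr ?_) ?_
    · rintro _ ⟨i, rfl⟩
      obtain ⟨c, hc⟩ := hnum i
      show algebraMap R0 R0p (num i) ∈ maximalIdeal R0p
      rw [← IsLocalization.mk'_spec R0p (num i) c, hc]
      exact Ideal.mul_mem_right _ _ (hg ▸ Submodule.subset_span (ι i).2)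
    · rw [← hg]
      refine Submodule.span_le.mpr fun z hz => ?_
      obtain ⟨c, hc⟩ := hnum (ι.symm ⟨z, hz⟩)
      rw [Equiv.apply_symm_apply] at hc
      show z ∈ _
      have hu := IsLocalization.map_units R0p c
      have hz' : z = algebraMap R0 R0p (num (ι.symm ⟨z, hz⟩)) * ↑hu.unit⁻¹ := by
        rw [← IsLocalization.mk'_spec R0p _ c, hc, mul_assoc, IsUnit.mul_val_inv, mul_one]
      rw [hz']
      exact Ideal.mul_mem_right _ _ (Ideal.subset_span ⟨_, rfl⟩)
  let x : Fin d' → R0p := fun i => algebraMap R0 R0p (num i)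
  have hxm : ∀ i, x i ∈ maximalIdeal R0p := fun i => hgen ▸ Ideal.subset_span ⟨i, rfl⟩
  have hind : ∀ c : Fin d' → R0p, ∑ j, c j * x j ∈ maximalIdeal R0p ^ 2 → ∀ j, c j ∈ maximalIdeal R0p := by
    intro c hc j
    let v : Fin d' → CotangentSpace R0p := fun i => (maximalIdeal R0p).toCotangent ⟨x i, hxm i⟩
    have hspanv : ⊤ ≤ Submodule.span (ResidueField R0p) (Set.range v) := by
      refine ge_of_eq ?_
      rw [show v = (maximalIdeal R0p).toCotangent ∘ fun i => (⟨x i, hxm i⟩ : maximalIdeal R0p) from rfl,
        Set.range_comp, IsLocalRing.CotangentSpace.span_image_eq_top_iff]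
      refine Submodule.map_injective_of_injective (f := Submodule.subtype (maximalIdeal R0p)) Subtype.val_injective ?_
      rw [Submodule.map_span, Submodule.map_top, Submodule.range_subtype, ← Set.range_comp]
      exact hgen
    have hli : LinearIndependent (ResidueField R0p) v := by
      refine linearIndependent_of_top_le_span_of_card_eq_finrank hspanv ?_
      rw [Fintype.card_fin, ← spanFinrank_maximalIdeal_eq_finrank_cotangentSpace, hsf]
    have h0 : ∑ i, residue R0p (c i) • v i = 0 := by
      have h1 : (maximalIdeal R0p).toCotangent (∑ i, c i • (⟨x i, hxm i⟩ : maximalIdeal R0p)) = 0 := by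
        rw [Ideal.toCotangent_eq_zero]
        simpa using hc
      rw [map_sum] at h1
      refine Eq.trans (Finset.sum_congr rfl fun i _ => ?_) h1
      rw [map_smul]
      rfl
    exact (residue_eq_zero_iff _).mp (Fintype.linearIndependent_iff.mp hli _ h0 j)
  let K := ResidueField S
  letI : Algebra T K := (Ideal.Quotient.factor (Ideal.pow_le_self (by omega)) : T →+* K).toAlgebra
  haveI : IsScalarTower k T K := IsScalarTower.of_algebraMap_eq fun c => rfl
  letI : Algebra A0 K := ((algebraMap T K).comp (algebraMap A0 T)).toAlgebra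
  haveI : IsScalarTower A0 T K := IsScalarTower.of_algebraMap_eq' rfl
  haveI : IsScalarTower k A0 K := IsScalarTower.of_algebraMap_eq fun c => rfl
  haveI : IsScalarTower k R0p S := IsScalarTower.of_algebraMap_eq fun c => by
    rw [IsScalarTower.algebraMap_apply k R0 R0p, ← IsScalarTower.algebraMap_apply R0 R0p S,
      ← IsScalarTower.algebraMap_apply k R0 S]
  have hKT : ∀ s ∈ maximalIdeal T, ∀ z : K, s • z = 0 := fun s hs z => by
    rw [hmT] at hs
    obtain ⟨s', hs', rfl⟩ := (Ideal.mem_map_iff_of_surjective _ Ideal.Quotient.mk_surjective).mp hs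
    rw [Algebra.smul_def, show algebraMap T K (Ideal.Quotient.mk _ s') = residue S s' from rfl,
      (residue_eq_zero_iff s').mpr hs', zero_mul]
  have hinj := Groth.L06.FormSmooth.injective_diffMap_of_geometricallyRegular p hgeo
  have hm0 : ∀ a ∈ maximalIdeal A0, algebraMap T K (a : A0) = 0 := fun a ha => by
    have := hKT _ (hmA ▸ Ideal.mem_map_of_mem (algebraMap A0 T) ha) 1
    rwa [Algebra.smul_def, mul_one] at this
  have hPm : ∀ i, algebraMap R0 A0 (num i) ∈ maximalIdeal A0 := fun i => by
    rw [IsScalarTower.algebraMap_apply R0 R0p A0, ← hpA]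
    exact Ideal.mem_map_of_mem _ (hxm i)
  let Py : Fin d' → maximalIdeal S := fun i => ⟨ev (num i), by
    show algebraMap R0 S (num i) ∈ maximalIdeal S
    rw [IsScalarTower.algebraMap_apply R0 R0p S]
    exact map_nonunit (algebraMap R0p S) _ (hxm i)⟩
  have hindS : LinearIndependent (ResidueField S) fun i => (maximalIdeal S).toCotangent (Py i) := by
    rw [Fintype.linearIndependent_iff]
    intro gc hgc' j
    choose c hc using fun i => residue_surjective (gc i)
    have h1 : ∑ i, c i * ev (num i) ∈ maximalIdeal S ^ 2 := by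
      have h0 : (maximalIdeal S).toCotangent (∑ i, c i • Py i) = 0 := by
        rw [map_sum, ← hgc']
        refine Finset.sum_congr rfl fun i _ => ?_
        rw [map_smul, ← hc i]
        rfl
      rw [Ideal.toCotangent_eq_zero] at h0
      simpa [Py] using h0
    obtain ⟨D, hDl, hD⟩ := exists_coord_derivation (k := k) x hxm hind (K := K)
      (IsLocalRing.ResidueField.map (algebraMap R0p S)) (fun r => rfl) j
    have hres : ∀ f : R0, algebraMap R0p K (algebraMap R0 R0p f) = residue S (ev f) := fun f => by
      show residue S (algebraMap R0p S (algebraMap R0 R0p f)) = _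
      rw [← IsScalarTower.algebraMap_apply R0 R0p S]
      rfl
    obtain ⟨δ, hδ, hδev⟩ := exists_extension hinj L hL A0 (algebraMap T K) (fun s => rfl) hm0 y a0
      (fun j => (hy j).symm) hder (AddMonoidHom.mk' (fun f => D (algebraMap R0 R0p f)) fun u v => by rw [map_add, map_add])
      (fun u v => by
        show D (algebraMap R0 R0p (u * v)) = _
        rw [map_mul, hDl, hres, hres]
        rfl)
    let ℓ : maximalIdeal A0 →ₗ[A0] K :=
      { toFun := fun a => δ (a : A0)
        map_add' := fun a b => by rw [Submodule.coe_add, map_add]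
        map_smul' := fun r a => by
          rw [SetLike.val_smul, smul_eq_mul, hδ, hm0 _ a.2, zero_mul, add_zero, RingHom.id_apply]
          exact (Algebra.smul_def _ _).symm }
    have hℓ : ∀ i, ℓ ⟨_, hPm i⟩ = D (algebraMap R0 R0p (num i)) := fun i => hδev (num i)
    have h2 := sum_smul_eq_zero_of_flat hmA hKT ℓ (fun i => Ideal.Quotient.mk _ (c i))
      (fun i => (⟨_, hPm i⟩ : maximalIdeal A0)) (by
      have h3 := Ideal.mem_map_of_mem (Ideal.Quotient.mk (maximalIdeal S ^ L)) h1
      rw [Ideal.map_pow, ← hmT, map_sum] at h3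
      refine (congrArg (· ∈ maximalIdeal T ^ 2) (Finset.sum_congr rfl fun i _ => ?_)).mp h3
      rw [map_mul]
      exact congrArg _ (hcompat (num i)).symm)
    simp only [hℓ] at h2
    rw [Finset.sum_eq_single j (fun i _ hij => by rw [show D (algebraMap R0 R0p (num i)) = _ from hD i, if_neg hij, smul_zero])
      (fun h => absurd (Finset.mem_univ j) h), show D (algebraMap R0 R0p (num j)) = _ from hD j, if_pos rfl,
      Algebra.smul_def, mul_one] at h2
    rw [← hc j]
    exact h2
  have hle : d' ≤ d := by
    have h1 := hindS.fintype_card_le_finrank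
    have h2 := (IsRegularLocalRing.iff_finrank_cotangentSpace S).mp inferInstance
    rw [hd] at h2
    rw [Fintype.card_fin] at h1
    have h3 : Module.finrank (ResidueField S) (CotangentSpace S) = d := by exact_mod_cast h2
    exact h1.trans h3.le
  have hspanS : Ideal.span (Set.range fun i => ev (num i)) = maximalIdeal S := by
    refine le_antisymm (Ideal.span_le.mpr (by rintro _ ⟨i, rfl⟩; exact (Py i).2))
      (Groth.L01.maximalIdeal_le_of_le_sup_sq ?_)
    intro s hs
    have h1 : Ideal.Quotient.mk (maximalIdeal S ^ L) s ∈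
        (Ideal.span (Set.range fun i => ev (num i))).map (Ideal.Quotient.mk (maximalIdeal S ^ L)) := by
      have h2 : maximalIdeal T = (Ideal.span (Set.range fun i => ev (num i))).map (Ideal.Quotient.mk _) := by
        rw [← hmA, ← hpA, Ideal.map_map, hcompat', ← hgen, Ideal.map_span, Ideal.map_span, ← Set.range_comp,
          ← Set.range_comp]
        refine congrArg Ideal.span (congrArg Set.range (funext fun i => ?_))
        show Ideal.Quotient.mk _ (algebraMap R0p S (algebraMap R0 R0p (num i))) = _
        rw [← IsScalarTower.algebraMap_apply R0 R0p S]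
        rfl
      rw [← h2, hmT]
      exact Ideal.mem_map_of_mem _ hs
    rw [← Ideal.mem_comap, Ideal.comap_map_of_surjective' _ Ideal.Quotient.mk_surjective, Ideal.mk_ker] at h1
    exact SetLike.le_def.mp (sup_le_sup le_rfl (Ideal.pow_le_pow_right hL)) h1
  have hge : d ≤ d' := by
    have h1 := (isRegularLocalRing_iff S).mp inferInstance
    rw [hd] at h1
    have h3 : (maximalIdeal S).spanFinrank = d := by exact_mod_cast h1
    rw [← h3, ← hspanS]
    refine (Submodule.spanFinrank_span_le_ncard_of_finite (Set.finite_range _)).trans ?_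
    refine le_trans (Finite.card_range_le _) ?_
    simp
  obtain rfl : d' = d := le_antisymm hle hge
  exact ⟨m, y, A0, iloc, a0, fun j => (hy j).symm, hE0, hArt, hflat, hess, hmA.trans hmT, hspan, hd', num, hgen, hspanS⟩

end Groth.L14.Smoothing.Insep
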