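import Groth.Agent.L14.Smoothing.Params
import Groth.Agent.L14.Smoothing.DesingApply
import Mathlib.RingTheory.Ideal.Cotangent
import Mathlib.RingTheory.RegularLocalRing.Defs
import Mathlib.LinearAlgebra.Basis.VectorSpace

/-!
Stabilising families of parameters modulo all subsets of their predecessors.
-/

set_option autoImplicit false
set_option linter.style.haveILetI false

noncomputable section

open IsLocalRing RingTheory.Sequence

namespace Groth.L14.Smoothing.Insep

universe u

/-- A power of a stable element is stable. -/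
theorem ann_pow {R : Type u} [CommRing R] (K : Ideal R) (p : R) (h : ∀ x, p ^ 2 * x ∈ K → p * x ∈ K)
    (M : ℕ) (hM : 0 < M) (x : R) (hx : (p ^ M) ^ 2 * x ∈ K) : p ^ M * x ∈ K := by
  have hj : ∀ j, p ^ (j + 1) * x ∈ K → p * x ∈ K := by
    intro j
    induction j generalizing x with
    | zero => intro hx; simpa using hx
    | succ j ih =>
      intro hx'
      have h2 : p ^ 2 * (p ^ j * x) ∈ K := by
        rwa [← mul_assoc, ← pow_add, show 2 + j = j + 1 + 1 by ring]
      refine ih x hx ?_
      have h3 := h _ h2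
      rwa [← mul_assoc, ← pow_succ'] at h3
  obtain ⟨M', rfl⟩ : ∃ M', M = M' + 1 := ⟨M - 1, by omega⟩
  have h1 : p * x ∈ K := hj (2 * M' + 1) (by rwa [← pow_mul, show (M' + 1) * 2 = 2 * M' + 1 + 1 by ring] at hx)
  rw [pow_succ, mul_assoc]
  exact K.mul_mem_left _ h1

/-- Elements independent modulo `m²` are regular modulo powers of any of the others. -/
theorem mem_of_mul_mem_subset {R : Type u} [CommRing R] [IsRegularLocalRing R] {d : ℕ} (x : Fin d → R)
    (hxm : ∀ j, x j ∈ maximalIdeal R)
    (hind : ∀ c : Fin d → R, ∑ j, c j * x j ∈ maximalIdeal R ^ 2 → ∀ j, c j ∈ maximalIdeal R)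
    (e : ℕ) (he : 0 < e) (S : Finset (Fin d)) (i : Fin d) (hi : i ∉ S) (y : R)
    (hy : x i * y ∈ Ideal.span ((fun j => x j ^ e) '' (S : Set (Fin d)))) :
    y ∈ Ideal.span ((fun j => x j ^ e) '' (S : Set (Fin d))) := by
  classical
  let m := maximalIdeal R
  let V := CotangentSpace R
  let v : Fin d → V := fun j => m.toCotangent ⟨x j, hxm j⟩
  have hv : LinearIndependent (ResidueField R) v := by
    rw [Fintype.linearIndependent_iff]
    intro g hg j
    choose c hc using fun j => residue_surjective (g j)
    rw [← hc j, residue_eq_zero_iff]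
    refine hind c ?_ j
    have h1 : m.toCotangent (∑ j, c j • (⟨x j, hxm j⟩ : m)) = 0 := by
      rw [map_sum, ← hg]
      refine Finset.sum_congr rfl fun j _ => ?_
      rw [map_smul, ← hc j]
      rfl
    rw [Ideal.toCotangent_eq_zero] at h1
    simpa using h1
  let b := Module.Basis.sumExtend hv
  let ι := Module.Basis.sumExtendIndex hv
  haveI : Fintype (Fin d ⊕ ι) := FiniteDimensional.fintypeBasisIndex b
  haveI : Fintype ι := Fintype.ofInjective (Sum.inr : ι → Fin d ⊕ ι) Sum.inr_injective
  choose ext hext using fun z : ι => m.toCotangent_surjective (b (Sum.inr z))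
  have hbl : ∀ j, b (Sum.inl j) = v j := fun j => by
    simp [b, Module.Basis.sumExtend]
    rfl
  let gen : Fin d ⊕ ι → m := Sum.elim (fun j => ⟨x j, hxm j⟩) ext
  have hgen : ∀ z, m.toCotangent (gen z) = b z := fun z => by
    cases z with
    | inl j => rw [hbl]; rfl
    | inr z => exact hext z
  have hspan : Ideal.span (Set.range fun z => (gen z : R)) = m := by
    have h1 : Submodule.span (ResidueField R) (m.toCotangent '' Set.range gen) = ⊤ := by
      rw [← Set.range_comp, show (⇑m.toCotangent ∘ gen) = ⇑b from funext hgen, b.span_eq]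
    rw [IsLocalRing.CotangentSpace.span_image_eq_top_iff] at h1
    have h2 := congrArg (Submodule.map (Submodule.subtype m)) h1
    rw [Submodule.map_span, Submodule.map_top, Submodule.range_subtype, ← Set.range_comp] at h2
    exact h2
  obtain ⟨D, hD⟩ := Groth.L01.exists_dim_eq_nat (R := R)
  have hcard : Fintype.card (Fin d ⊕ ι) = D := by
    have h1 : Module.finrank (ResidueField R) V = Fintype.card (Fin d ⊕ ι) :=
      Module.finrank_eq_card_basis b
    have h2 := (IsRegularLocalRing.iff_finrank_cotangentSpace R).mp (inferInstance : IsRegularLocalRing R)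
    rw [hD] at h2
    rw [← h1]
    exact_mod_cast h2
  let ex : Fin d → ℕ := fun j => if j ∈ S then e else 1
  have hex : ∀ j, 0 < ex j := fun j => by
    show 0 < if j ∈ S then e else 1
    split_ifs <;> omega
  let L : List R := (S.toList.map fun j => x j ^ e) ++
    (x i :: (((Finset.univ \ insert i S).toList.map x) ++ (Finset.univ : Finset ι).toList.map fun z => (ext z : R)))
  have hLm : ∀ r ∈ L, r ∈ maximalIdeal R := by
    intro r hr
    simp only [L, List.mem_append, List.mem_map, List.mem_cons, Finset.mem_toList] at hr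
    rcases hr with ⟨j, -, rfl⟩ | rfl | ⟨j, -, rfl⟩ | ⟨z, -, rfl⟩
    · exact Ideal.pow_mem_of_mem _ (hxm j) _ he
    · exact hxm i
    · exact hxm j
    · exact (ext z).2
  have hlen : L.length = D := by
    simp only [L, List.length_append, List.length_map, List.length_cons, Finset.length_toList]
    rw [← hcard, ← Nat.card_eq_fintype_card, Nat.card_sum, Nat.card_eq_fintype_card, Nat.card_eq_fintype_card,
      Fintype.card_fin, Finset.card_univ, Finset.card_sdiff_of_subset (Finset.subset_univ _),
      Finset.card_insert_of_notMem hi, Finset.card_univ, Fintype.card_fin]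
    have h3 := Finset.card_le_univ (insert i S)
    rw [Finset.card_insert_of_notMem hi, Fintype.card_fin] at h3
    omega
  have hdim : ringKrullDim (R ⧸ Ideal.ofList L) + L.length ≤ ringKrullDim R := by
    have hmin : ∀ P : Ideal R, P.IsPrime → Ideal.ofList L ≤ P → P = maximalIdeal R := by
      intro P hP hle
      refine le_antisymm (IsLocalRing.le_maximalIdeal hP.ne_top) ?_
      refine hspan.ge.trans ?_
      rw [Ideal.span_le]
      rintro _ ⟨z, rfl⟩
      have hLP : ∀ r ∈ L, r ∈ P := fun r hr => hle (Ideal.subset_span hr)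
      cases z with
      | inl j =>
        show x j ∈ P
        by_cases hj : j ∈ S
        · refine hP.mem_of_pow_mem e (hLP _ ?_)
          simp only [L, List.mem_append, List.mem_map, Finset.mem_toList]
          exact Or.inl ⟨j, hj, rfl⟩
        · refine hLP _ ?_
          simp only [L, List.mem_append, List.mem_map, List.mem_cons, Finset.mem_toList]
          rcases eq_or_ne j i with rfl | hji
          · exact Or.inr (Or.inl rfl)
          · exact Or.inr (Or.inr (Or.inl ⟨j, by simp [hj, hji], rfl⟩))
      | inr z =>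
        refine hLP _ ?_
        simp only [L, List.mem_append, List.mem_map, List.mem_cons, Finset.mem_toList]
        exact Or.inr (Or.inr (Or.inr ⟨z, Finset.mem_univ _, rfl⟩))
    haveI : Ring.KrullDimLE 0 (R ⧸ Ideal.ofList L) := by
      refine Ring.KrullDimLE.mk₀ fun P hP => ?_
      haveI := hP
      have h1 := hmin (P.comap (Ideal.Quotient.mk _)) inferInstance
        (fun r hr => by
          show Ideal.Quotient.mk (Ideal.ofList L) r ∈ P
          rw [Ideal.Quotient.eq_zero_iff_mem.mpr hr]; exact P.zero_mem)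
      have h3 : (P.comap (Ideal.Quotient.mk (Ideal.ofList L))).IsMaximal := h1 ▸ maximalIdeal.isMaximal R
      rw [← Ideal.map_comap_of_surjective _ Ideal.Quotient.mk_surjective P]
      refine Ideal.IsMaximal.map_of_surjective_of_ker_le Ideal.Quotient.mk_surjective ?_
      exact fun r hr => by
        show Ideal.Quotient.mk _ r ∈ P
        rw [RingHom.mem_ker.mp hr]; exact P.zero_mem
    have h0 : ringKrullDim (R ⧸ Ideal.ofList L) ≤ 0 := Ring.krullDimLE_iff.mp inferInstance
    rw [hlen, hD]
    exact (add_le_add_left h0 _).trans (le_of_eq (zero_add _))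
  have hreg := Groth.L07.RegQuot.isWeaklyRegular_of_dim L hLm hdim
  have hi' : S.card < L.length := by
    simp only [L, List.length_append, List.length_map, List.length_cons, Finset.length_toList]
    omega
  have h2 := hreg.regular_mod_prev S.card hi'
  have hget : L[S.card] = x i := by
    simp [L, List.getElem_append_right, Finset.length_toList]
  have htake : Ideal.ofList (L.take S.card) = Ideal.span ((fun j => x j ^ e) '' (S : Set (Fin d))) := by
    refine congrArg Ideal.span ?_
    ext r
    simp [L, List.take_append, Finset.length_toList, List.take_of_length_le]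
  have hsub : (Ideal.ofList (L.take S.card) • (⊤ : Submodule R R)) =
      (Ideal.span ((fun j => x j ^ e) '' (S : Set (Fin d))) : Submodule R R) := by
    rw [htake, smul_eq_mul, Ideal.mul_top]
  rw [hget] at h2
  rw [← hsub] at hy ⊢
  rw [← Submodule.Quotient.mk_eq_zero] at hy ⊢
  refine h2.right_eq_zero_of_smul ?_
  rw [← Submodule.Quotient.mk_smul, smul_eq_mul]
  exact hy

variable {Λ : Type u} [CommRing Λ] [IsNoetherianRing Λ]

/-- One multiplier stabilising a parameter modulo finitely many ideals. -/
theorem exists_stable_family {ι : Type} [Fintype ι] (q : Ideal Λ) [q.IsPrime] (K : ι → Ideal Λ) (p : Λ)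
    (hp : ∀ (l : ι) (r : Λ),
      algebraMap Λ (Localization.AtPrime q) (p * r) ∈ (K l).map (algebraMap Λ (Localization.AtPrime q)) →
      algebraMap Λ (Localization.AtPrime q) r ∈ (K l).map (algebraMap Λ (Localization.AtPrime q))) :
    ∃ s : Λ, s ∉ q ∧ ∀ (l : ι) (r : Λ), (s * p) ^ 2 * r ∈ K l → s * p * r ∈ K l := by
  classical
  let T : ι → ℕ →o Ideal Λ := fun l =>
    ⟨fun j => Submodule.comap (LinearMap.mulLeft Λ (p ^ j)) (K l), fun a b hab r hr => by
      obtain ⟨c, rfl⟩ := Nat.exists_eq_add_of_le hab
      simp only [Submodule.mem_comap, LinearMap.mulLeft_apply] at hr ⊢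
      rw [pow_add, mul_comm (p ^ a), mul_assoc]
      exact (K l).mul_mem_left _ hr⟩
  choose k hk using fun l => monotone_stabilizes_iff_noetherian.mpr inferInstance (T l)
  have hloc : ∀ (l : ι) (j : ℕ) (r : Λ), p ^ j * r ∈ K l →
      algebraMap Λ (Localization.AtPrime q) r ∈ (K l).map (algebraMap Λ (Localization.AtPrime q)) := by
    intro l j
    induction j with
    | zero => intro r hr; exact Ideal.mem_map_of_mem _ (by simpa using hr)
    | succ j ih => intro r hr; exact hp l r (ih (p * r) (by rwa [← mul_assoc, ← pow_succ]))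
  have hkill : ∀ l, ∃ t : Λ, t ∉ q ∧ ∀ r ∈ T l (k l), t * r ∈ K l := by
    intro l
    obtain ⟨g, hg⟩ := IsNoetherian.noetherian (T l (k l))
    have hex : ∀ r ∈ g, ∃ t : Λ, t ∉ q ∧ t * r ∈ K l := by
      intro r hr
      have hrk : r ∈ T l (k l) := hg ▸ Submodule.subset_span hr
      obtain ⟨t, ht, htr⟩ := (IsLocalization.algebraMap_mem_map_algebraMap_iff q.primeCompl
        (Localization.AtPrime q) (K l) r).mp (hloc l (k l) r hrk)
      exact ⟨t, ht, htr⟩
    choose! t ht htr using hex
    refine ⟨∏ r ∈ g, t r, fun h => ?_, fun r hr => ?_⟩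
    · obtain ⟨r, hr, hrq⟩ := (Ideal.IsPrime.prod_mem_iff (p := q)).mp h
      exact ht r hr hrq
    · rw [← hg] at hr
      refine (Submodule.span_le (p := Submodule.comap (LinearMap.mulLeft Λ (∏ r ∈ g, t r)) (K l))).mpr ?_ hr
      intro r hr
      show (∏ r ∈ g, t r) * r ∈ K l
      obtain ⟨c, hc⟩ := Finset.dvd_prod_of_mem t hr
      rw [hc, mul_comm (t r), mul_assoc]
      exact (K l).mul_mem_left _ (htr r hr)
  choose t ht htk using hkill
  let t₀ := ∏ l, t l
  have ht₀ : t₀ ∉ q := fun h => by
    obtain ⟨l, -, hl⟩ := (Ideal.IsPrime.prod_mem_iff (p := q)).mp h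
    exact ht l hl
  have ht₀k : ∀ l, ∀ r ∈ T l (k l), t₀ * r ∈ K l := fun l r hr => by
    obtain ⟨c, hc⟩ := Finset.dvd_prod_of_mem t (Finset.mem_univ l)
    rw [show t₀ = t l * c from hc, mul_comm (t l), mul_assoc]
    exact (K l).mul_mem_left _ (htk l r hr)
  let U : ι → ℕ →o Ideal Λ := fun l =>
    ⟨fun j => Submodule.comap (LinearMap.mulLeft Λ (t₀ ^ j)) (K l), fun a b hab r hr => by
      obtain ⟨c, rfl⟩ := Nat.exists_eq_add_of_le hab
      simp only [Submodule.mem_comap, LinearMap.mulLeft_apply] at hr ⊢
      rw [pow_add, mul_comm (t₀ ^ a), mul_assoc]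
      exact (K l).mul_mem_left _ hr⟩
  choose a ha using fun l => monotone_stabilizes_iff_noetherian.mpr inferInstance (U l)
  let a₀ := Finset.univ.sup a
  refine ⟨t₀ ^ a₀, fun h => ht₀ (Ideal.IsPrime.mem_of_pow_mem inferInstance _ h), fun l r hr => ?_⟩
  have h1 : t₀ ^ (2 * a₀) * r ∈ T l (max (k l) 2) := (T l).monotone (le_max_right _ 2) (by
    show p ^ 2 * (t₀ ^ (2 * a₀) * r) ∈ K l
    rwa [← mul_assoc, show p ^ 2 * t₀ ^ (2 * a₀) = (t₀ ^ a₀ * p) ^ 2 by ring])
  rw [← hk l _ (le_max_left _ 2)] at h1
  have hal : a l ≤ a₀ := Finset.le_sup (Finset.mem_univ l)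
  have h2 : r ∈ U l (2 * a₀ + 1) := by
    show t₀ ^ (2 * a₀ + 1) * r ∈ K l
    rw [pow_succ, mul_comm _ t₀, mul_assoc]
    exact ht₀k l _ h1
  rw [← ha l _ (by omega), ha l a₀ hal] at h2
  rw [mul_comm (t₀ ^ a₀) p, mul_assoc]
  exact (K l).mul_mem_left _ h2

/-- Multipliers stabilising a family with independent images modulo all subsets of predecessors. -/
theorem exists_stable_multiples (q : Ideal Λ) [q.IsPrime] [IsRegularLocalRing (Localization.AtPrime q)]
    {d : ℕ} (b : Fin d → Λ) (hbq : ∀ j, b j ∈ q)
    (hind : ∀ c : Fin d → Localization.AtPrime q,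
      ∑ j, c j * algebraMap Λ (Localization.AtPrime q) (b j) ∈ maximalIdeal (Localization.AtPrime q) ^ 2 →
      ∀ j, c j ∈ maximalIdeal (Localization.AtPrime q))
    (e : ℕ) (he : 0 < e) :
    ∃ s : Fin d → Λ, (∀ j, s j ∉ q) ∧ ∀ (i : Fin d) (S : Finset (Fin d)), (∀ j ∈ S, j < i) → ∀ r : Λ,
      (s i * b i) ^ 2 * r ∈ Ideal.span ((fun j => (s j * b j) ^ e) '' (S : Set (Fin d))) →
      s i * b i * r ∈ Ideal.span ((fun j => (s j * b j) ^ e) '' (S : Set (Fin d))) := by
  classical
  let am := algebraMap Λ (Localization.AtPrime q)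
  have hu : ∀ s : Λ, s ∉ q → IsUnit (am s) := fun s hs =>
    IsLocalization.map_units (Localization.AtPrime q) (⟨s, hs⟩ : q.primeCompl)
  have key : ∀ k ≤ d, ∃ s : Fin d → Λ, (∀ j, s j ∉ q) ∧
      ∀ i : Fin d, (i : ℕ) < k → ∀ S : Finset (Fin d), (∀ j ∈ S, j < i) → ∀ r : Λ,
      (s i * b i) ^ 2 * r ∈ Ideal.span ((fun j => (s j * b j) ^ e) '' (S : Set (Fin d))) →
      s i * b i * r ∈ Ideal.span ((fun j => (s j * b j) ^ e) '' (S : Set (Fin d))) := by
    intro k hk
    induction k with
    | zero => exact ⟨fun _ => 1, fun _ => (Ideal.ne_top_iff_one q).mp (Ideal.IsPrime.ne_top ‹_›),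
        fun i hi => absurd hi (Nat.not_lt_zero _)⟩
    | succ k ih =>
      obtain ⟨s, hs, hsk⟩ := ih (by omega)
      let i₀ : Fin d := ⟨k, by omega⟩
      let x : Fin d → Localization.AtPrime q := fun j => am (s j * b j)
      have hxm : ∀ j, x j ∈ maximalIdeal (Localization.AtPrime q) := fun j =>
        (IsLocalization.AtPrime.to_map_mem_maximal_iff _ q _).mpr (q.mul_mem_left _ (hbq j))
      have hxind : ∀ c : Fin d → Localization.AtPrime q, ∑ j, c j * x j ∈ maximalIdeal _ ^ 2 →
          ∀ j, c j ∈ maximalIdeal (Localization.AtPrime q) := fun c hc j => by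
        have h := hind (fun j => c j * am (s j)) (by
          refine (congrArg (· ∈ maximalIdeal (Localization.AtPrime q) ^ 2) ?_).mp hc
          exact Finset.sum_congr rfl fun j _ => by simp only [x, am, map_mul, mul_assoc]) j
        exact ((maximalIdeal.isMaximal _).isPrime.mem_or_mem h).resolve_right fun h' =>
          (maximalIdeal.isMaximal _).ne_top (Ideal.eq_top_of_isUnit_mem _ h' (hu _ (hs j)))
      obtain ⟨t, ht, hts⟩ := exists_stable_family (ι := {S : Finset (Fin d) // i₀ ∉ S}) q
        (fun S => Ideal.span ((fun j => (s j * b j) ^ e) '' (S.1 : Set (Fin d)))) (s i₀ * b i₀) fun S r hr => by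
          have hmap : (Ideal.span ((fun j => (s j * b j) ^ e) '' (S.1 : Set (Fin d)))).map am =
              Ideal.span ((fun j => x j ^ e) '' (S.1 : Set (Fin d))) := by
            rw [Ideal.map_span, Set.image_image]
            simp only [x, map_pow]
          rw [hmap] at hr ⊢
          rw [map_mul] at hr
          exact mem_of_mul_mem_subset x hxm hxind e he S.1 i₀ S.2 _ hr
      refine ⟨Function.update s i₀ (t * s i₀), fun j => ?_, fun i hi S hS r => ?_⟩
      · by_cases h : j = i₀
        · subst h
          rw [Function.update_self]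
          exact fun hc => (Ideal.IsPrime.mem_or_mem ‹_› hc).elim ht (hs _)
        · rw [Function.update_of_ne h]; exact hs j
      · have hSk : ∀ j ∈ S, j ≠ i₀ := fun j hj h => by
          have := hS j hj
          rw [h, Fin.lt_def] at this
          exact absurd this (by show ¬ k < (i : ℕ); omega)
        have himg : (fun j => (Function.update s i₀ (t * s i₀) j * b j) ^ e) '' (S : Set (Fin d)) =
            (fun j => (s j * b j) ^ e) '' (S : Set (Fin d)) :=
          Set.image_congr fun j hj => by rw [Function.update_of_ne (hSk j hj)]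
        rw [himg]
        rcases Nat.lt_succ_iff_lt_or_eq.mp hi with hik | hik
        · rw [Function.update_of_ne (fun h => by simp [h, i₀] at hik)]
          exact hsk i hik S hS r
        · have hii : i = i₀ := Fin.ext hik
          subst hii
          rw [Function.update_self, mul_assoc t]
          exact hts ⟨S, fun h => hSk _ h rfl⟩ r
  obtain ⟨s, hs, hsd⟩ := key d le_rfl
  exact ⟨s, hs, fun i => hsd i i.2⟩

end Groth.L14.Smoothing.Insep
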