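import Groth.Agent.L14.Smoothing.InsepResolveAux
import Groth.Agent.L14.Smoothing.SepResolve

/-!
The reduced problem modulo powers of the parameters in the inseparable case.
-/

set_option autoImplicit false
set_option linter.style.haveILetI false

noncomputable section

open MvPolynomial IsLocalRing TensorProduct

namespace Groth.L14.Smoothing.Insep

universe u

set_option maxHeartbeats 1000000 in
/-- The problem modulo powers of the parameters resolves through the smooth factor. -/
theorem resolvable_reduced_insep {k A L R : Type u} [Field k] [CommRing A] [Algebra k A]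
    [CommRing L] [IsNoetherianRing L] [Algebra k L] (q : Ideal L) [q.IsPrime]
    [CommRing R] [IsNoetherianRing R] [Algebra k R] [Algebra R L] [IsScalarTower k R L]
    {r d m : ℕ} (a : Fin r → A) (n e N : ℕ) (he : 0 < e)
    [Algebra (MvPolynomial (Fin d) k) R] [IsScalarTower k (MvPolynomial (Fin d) k) R]
    {C : Type u} [CommRing C] [Algebra (MvPolynomial (Fin d) k) C] [Algebra.FinitePresentation (MvPolynomial (Fin d) k) C]
    (ρ : C →+* Sep.Model a n d)
    (hρ : ∀ f, ρ (algebraMap (MvPolynomial (Fin d) k) C f) = Sep.modelParam a n f)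
    (φ : A →ₐ[k] L) (π : Fin d → L) (lam : Fin d → Fin r → L) (hL : Sep.Model a n d →+* L)
    (hLA : ∀ x, hL (algebraMap A (Sep.Model a n d) x) = φ x)
    (hLX : ∀ i, hL (Ideal.Quotient.mk _ (X (Sum.inl i))) = π i)
    (hLZ : ∀ i j, hL (Ideal.Quotient.mk _ (X (Sum.inr (i, j)))) = lam i j)
    (y : Fin m → Localization.AtPrime q) (P : Fin d → MvPolynomial (Fin m) k) (lam0 : Fin d → Fin r → Localization.AtPrime q)
    (hPy : Ideal.span (Set.range fun i => MvPolynomial.aeval y (P i)) = maximalIdeal (Localization.AtPrime q))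
    (huniv : ∀ (Rp : Type u) (_ : CommRing Rp) (_ : Algebra k Rp) (ψ : MvPolynomial (Fin m) k →ₐ[k] Rp),
      (∀ f, IsUnit (MvPolynomial.aeval y f) → IsUnit (ψ f)) → (∀ i, ψ (P i) ^ e = 0) →
      ∀ (h : Rp →+* Localization.AtPrime q ⧸ Ideal.span (Set.range fun i => MvPolynomial.aeval y (P i) ^ e)),
        (∀ f, h (ψ f) = Ideal.Quotient.mk _ (MvPolynomial.aeval y f)) →
        ∃ (B : Type u) (_ : CommRing B) (_ : Algebra Rp B), Algebra.Smooth Rp B ∧
          ∃ (gB : A →+* B) (z : Fin d → Fin r → B)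
            (hB : B →+* Localization.AtPrime q ⧸ Ideal.span (Set.range fun i => MvPolynomial.aeval y (P i) ^ e)),
            (∀ c, gB (algebraMap k A c) = algebraMap Rp B (algebraMap k Rp c)) ∧
            (∀ x, hB (algebraMap Rp B x) = h x) ∧
            (∀ x, hB (gB x) = Ideal.Quotient.mk _ (algebraMap L (Localization.AtPrime q) (φ x))) ∧
            (∀ i, algebraMap Rp B (ψ (P i)) ^ n = ∑ j, z i j * gB (a j)) ∧
            (∀ i j, hB (z i j) = Ideal.Quotient.mk _ (lam0 i j)))
    (β : R) (η : Fin m → R) (hβ : algebraMap R L β ∉ q)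
    (hη : ∀ j, algebraMap L (Localization.AtPrime q) (algebraMap R L (η j)) =
      algebraMap L (Localization.AtPrime q) (algebraMap R L β) * y j)
    (Pt : Fin d → MvPolynomial (Option (Fin m)) k)
    (hPt : ∀ (B : Type u) [CommRing B] [Algebra k B] (v : Fin m → B) (b : B) (i : Fin d),
      MvPolynomial.aeval (fun o => Option.elim o b fun j => b * v j) (Pt i) = b ^ N * MvPolynomial.aeval v (P i))
    (c0 : Fin d → R) (hc0 : ∀ i, algebraMap R L (c0 i) ∉ q)
    (hX : ∀ i, algebraMap (MvPolynomial (Fin d) k) R (X i) =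
      c0 i * MvPolynomial.aeval (fun o => Option.elim o β η) (Pt i))
    (hπ : ∀ i, algebraMap R L (algebraMap (MvPolynomial (Fin d) k) R (X i)) = π i)
    (hlam : ∀ i j, algebraMap L (Localization.AtPrime q) (lam i j) =
      algebraMap L (Localization.AtPrime q) (algebraMap R L (c0 i * β ^ N)) ^ n * lam0 i j)
    (K : Ideal R) (hXK : ∀ i, algebraMap (MvPolynomial (Fin d) k) R (X i) ^ e ∈ K)
    (hKX : K ≤ Ideal.span (Set.range fun i => algebraMap (MvPolynomial (Fin d) k) R (X i) ^ e))
    (φR : R ⊗[MvPolynomial (Fin d) k] C →ₐ[R] L) (hφR : ∀ x, φR ((1 : R) ⊗ₜ x) = hL (ρ x))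
    (φK : ((R ⊗[MvPolynomial (Fin d) k] C) ⧸ K.map (algebraMap R (R ⊗[MvPolynomial (Fin d) k] C))) →ₐ[R ⧸ K]
      (L ⧸ K.map (algebraMap R L)))
    (hφK : ∀ x, φK (Ideal.Quotient.mk _ x) = Ideal.Quotient.mk _ (φR x)) :
    _root_.Smoothing.Resolvable (R ⧸ K) φK (q.map (Ideal.Quotient.mk (K.map (algebraMap R L)))) := by
  classical
  let S := Localization.AtPrime q
  let am : L →+* S := algebraMap L S
  let X0 := MvPolynomial (Fin d) k
  let toS : R →ₐ[k] S := (IsScalarTower.toAlgHom k L S).comp (IsScalarTower.toAlgHom k R L)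
  have hu : ∀ s : L, s ∉ q → IsUnit (am s) := fun s hs => IsLocalization.map_units S (⟨s, hs⟩ : q.primeCompl)
  -- values of the parameters
  have hval : (fun o => toS (Option.elim o β η)) = fun o => Option.elim o (toS β) fun j => toS β * y j :=
    funext fun o => by
      cases o with
      | none => rfl
      | some j => exact hη j
  have hQt : ∀ i, toS (MvPolynomial.aeval (fun o => Option.elim o β η) (Pt i)) =
      toS β ^ N * MvPolynomial.aeval y (P i) := fun i => by
    rw [← hPt S y (toS β) i, ← hval, ← MvPolynomial.comp_aeval_apply]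
  have hπS : ∀ i, am (π i) = am (algebraMap R L (c0 i * β ^ N)) * MvPolynomial.aeval y (P i) := fun i => by
    rw [← hπ, hX]
    show toS (c0 i * _) = toS (c0 i * β ^ N) * _
    rw [map_mul, hQt, map_mul, map_pow, mul_assoc]
  have hcu : ∀ i, IsUnit (am (algebraMap R L (c0 i * β ^ N))) := fun i => by
    simp only [map_mul, map_pow]
    exact (hu _ (hc0 i)).mul ((hu _ hβ).pow N)
  -- the truncation
  let J := K.map (algebraMap R L)
  have hπq : ∀ i, π i ∈ q := fun i => by
    refine (IsLocalization.AtPrime.to_map_mem_maximal_iff S q _).mp ?_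
    rw [show algebraMap L S (π i) = am (π i) from rfl, hπS, ← hPy]
    exact Ideal.mul_mem_left _ _ (Ideal.subset_span ⟨i, rfl⟩)
  have hJπ : J ≤ Ideal.span (Set.range fun i => π i ^ e) := by
    refine (Ideal.map_mono hKX).trans (le_of_eq ?_)
    rw [Ideal.map_span, ← Set.range_comp]
    refine congrArg Ideal.span (congrArg Set.range (funext fun i => ?_))
    show algebraMap R L (_ ^ e) = _
    rw [map_pow, hπ]
  have hJq : J ≤ q := hJπ.trans (Ideal.span_le.mpr (by
    rintro _ ⟨i, rfl⟩
    exact Ideal.pow_mem_of_mem _ (hπq i) _ he))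
  haveI : (q.map (Ideal.Quotient.mk J)).IsPrime :=
    Ideal.map_isPrime_of_surjective Ideal.Quotient.mk_surjective (by rwa [Ideal.mk_ker])
  have hJS : J.map am = Ideal.span (Set.range fun i => MvPolynomial.aeval y (P i) ^ e) := by
    refine le_antisymm ((Ideal.map_mono hJπ).trans ?_) (Ideal.span_le.mpr ?_)
    · rw [Ideal.map_span, Ideal.span_le]
      rintro _ ⟨_, ⟨i, rfl⟩, rfl⟩
      rw [SetLike.mem_coe, map_pow, hπS, mul_pow]
      exact Ideal.mul_mem_left _ _ (Ideal.subset_span ⟨i, rfl⟩)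
    · rintro _ ⟨i, rfl⟩
      have h1 : am (π i) ^ e ∈ J.map am := by
        rw [← map_pow, ← hπ, ← map_pow (algebraMap R L)]
        exact Ideal.mem_map_of_mem _ (Ideal.mem_map_of_mem _ (hXK i))
      rw [hπS, mul_pow] at h1
      exact (Ideal.unit_mul_mem_iff_mem _ ((hcu i).pow e)).mp h1
  let T := S ⧸ J.map am
  letI : Algebra (L ⧸ J) T := (Ideal.quotientMap (J.map am) am Ideal.le_comap_map).toAlgebra
  haveI hloc : IsLocalization.AtPrime T (q.map (Ideal.Quotient.mk J)) :=
    Sep.isLocalization_quotient q J hJq (Lq := S) (fun x => rfl)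
  letI : Algebra (R ⧸ K) T := ((algebraMap (L ⧸ J) T).comp (algebraMap (R ⧸ K) (L ⧸ J))).toAlgebra
  haveI : IsScalarTower (R ⧸ K) (L ⧸ J) T := IsScalarTower.of_algebraMap_eq' rfl
  haveI : IsLocalRing T := IsLocalization.AtPrime.isLocalRing T (q.map (Ideal.Quotient.mk J))
  have hdim : ringKrullDim T = 0 := by
    haveI : Ring.KrullDimLE 0 T := by
      refine Ring.KrullDimLE.mk₀ fun Q hQ => ?_
      have hle : maximalIdeal S ≤ Q.comap (Ideal.Quotient.mk _) := by
        rw [← hPy, Ideal.span_le]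
        rintro _ ⟨i, rfl⟩
        refine Ideal.IsPrime.mem_of_pow_mem (Ideal.IsPrime.comap _) e ?_
        show Ideal.Quotient.mk _ (_ ^ e) ∈ Q
        rw [Ideal.Quotient.eq_zero_iff_mem.mpr (hJS.ge (Ideal.subset_span ⟨i, rfl⟩))]
        exact zero_mem _
      have h1 : (Q.comap (Ideal.Quotient.mk (J.map am))).IsMaximal :=
        (le_antisymm hle (IsLocalRing.le_maximalIdeal (Ideal.IsPrime.ne_top (Ideal.IsPrime.comap _)))) ▸
          IsLocalRing.maximalIdeal.isMaximal S
      rw [← Ideal.map_comap_of_surjective _ Ideal.Quotient.mk_surjective Q]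
      refine Ideal.IsMaximal.map_of_surjective_of_ker_le Ideal.Quotient.mk_surjective ?_
      intro z hz
      show Ideal.Quotient.mk _ z ∈ Q
      rw [RingHom.mem_ker.mp hz]; exact Q.zero_mem
    exact le_antisymm (Ring.krullDimLE_iff.mp inferInstance) ringKrullDim_nonneg_of_nontrivial
  -- the localised base
  let q0 : Ideal (R ⧸ K) := (q.map (Ideal.Quotient.mk J)).comap (algebraMap (R ⧸ K) (L ⧸ J))
  let Rp := Localization.AtPrime q0
  have hunit : ∀ z : q0.primeCompl, IsUnit (algebraMap (R ⧸ K) T z) := fun z => by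
    rw [IsScalarTower.algebraMap_apply (R ⧸ K) (L ⧸ J) T]
    exact IsLocalization.map_units T
      (⟨_, fun h => z.2 h⟩ : (q.map (Ideal.Quotient.mk J)).primeCompl)
  let hRp : Rp →+* T := IsLocalization.lift (M := q0.primeCompl) (g := algebraMap (R ⧸ K) T) hunit
  letI : Algebra Rp T := hRp.toAlgebra
  haveI : IsScalarTower (R ⧸ K) Rp T := IsScalarTower.of_algebraMap_eq fun x => by
    rw [RingHom.algebraMap_toAlgebra (R := Rp), IsLocalization.lift_eq]
  let toRp : R →ₐ[k] Rp := (IsScalarTower.toAlgHom k (R ⧸ K) Rp).comp (Ideal.Quotient.mkₐ k K)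
  have htoT : ∀ x, hRp (toRp x) = Ideal.Quotient.mk _ (toS x) := fun x => by
    show hRp (algebraMap (R ⧸ K) Rp (Ideal.Quotient.mk K x)) = _
    rw [IsLocalization.lift_eq]
    rfl
  have htoRpu : ∀ x, algebraMap R L x ∉ q → IsUnit (toRp x) := fun x hx => by
    refine IsLocalization.map_units Rp (⟨Ideal.Quotient.mk K x, fun h => hx ?_⟩ : q0.primeCompl)
    have h' : Ideal.Quotient.mk J (algebraMap R L x) ∈ q.map (Ideal.Quotient.mk J) := h
    rw [← Ideal.mem_comap, Ideal.comap_map_of_surjective' _ Ideal.Quotient.mk_surjective, Ideal.mk_ker,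
      sup_eq_left.mpr hJq] at h'
    exact h'
  let βu := (htoRpu β hβ).unit
  let v : Fin m → Rp := fun j => ↑βu⁻¹ * toRp (η j)
  have hv : (fun o => toRp (Option.elim o β η)) = fun o => Option.elim o (toRp β) fun j => toRp β * v j :=
    funext fun o => by
      cases o with
      | none => rfl
      | some j =>
        show toRp (η j) = toRp β * (↑βu⁻¹ * toRp (η j))
        rw [← mul_assoc, IsUnit.mul_val_inv, one_mul]
  let ψ : MvPolynomial (Fin m) k →ₐ[k] Rp := MvPolynomial.aeval v
  have hQr : ∀ i, toRp (MvPolynomial.aeval (fun o => Option.elim o β η) (Pt i)) = toRp β ^ N * ψ (P i) := fun i => by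
    rw [← hPt Rp v (toRp β) i, ← hv, ← MvPolynomial.comp_aeval_apply]
  let cb : Fin d → Rp := fun i => toRp (c0 i * β ^ N)
  have hcb : ∀ i, IsUnit (cb i) := fun i => by
    simp only [cb, map_mul, map_pow]
    exact (htoRpu _ (hc0 i)).mul ((htoRpu _ hβ).pow N)
  have hXr : ∀ i, toRp (algebraMap X0 R (X i)) = cb i * ψ (P i) := fun i => by
    rw [hX]
    simp only [cb, map_mul, map_pow, hQr, mul_assoc]
  have hψe : ∀ i, ψ (P i) ^ e = 0 := fun i => by
    have h1 : toRp (algebraMap X0 R (X i)) ^ e = 0 := by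
      rw [← map_pow]
      show algebraMap (R ⧸ K) Rp (Ideal.Quotient.mk K _) = 0
      rw [Ideal.Quotient.eq_zero_iff_mem.mpr (hXK i), map_zero]
    rw [hXr, mul_pow] at h1
    exact ((hcb i).pow e).mul_right_eq_zero.mp h1
  let E : T →+* S ⧸ Ideal.span (Set.range fun i => MvPolynomial.aeval y (P i) ^ e) := (Ideal.quotEquivOfEq hJS).toRingHom
  let E' : (S ⧸ Ideal.span (Set.range fun i => MvPolynomial.aeval y (P i) ^ e)) →+* T :=
    (Ideal.quotEquivOfEq hJS.symm).toRingHom
  have hE : ∀ z, E' (E z) = z := fun z => by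
    obtain ⟨z, rfl⟩ := Ideal.Quotient.mk_surjective z
    rfl
  have hψT : ∀ f, hRp (ψ f) = Ideal.Quotient.mk _ (MvPolynomial.aeval y f) := fun f => by
    refine RingHom.congr_fun (MvPolynomial.ringHom_ext (f := hRp.comp ψ.toRingHom)
      (g := (Ideal.Quotient.mk _).comp (MvPolynomial.aeval y : MvPolynomial (Fin m) k →ₐ[k] S).toRingHom)
      (fun c => ?_) (fun j => ?_)) f
    · show hRp (ψ (MvPolynomial.C c)) = Ideal.Quotient.mk _ (MvPolynomial.aeval y (MvPolynomial.C c))
      rw [MvPolynomial.aeval_C, MvPolynomial.aeval_C, ← toS.commutes c, ← toRp.commutes c]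
      exact htoT _
    · show hRp (ψ (X j)) = Ideal.Quotient.mk _ (MvPolynomial.aeval y (X j))
      rw [MvPolynomial.aeval_X, MvPolynomial.aeval_X]
      refine ((htoRpu β hβ).map hRp).mul_left_cancel ?_
      rw [← map_mul, ← mul_assoc, IsUnit.mul_val_inv, one_mul, htoT, htoT, ← map_mul]
      exact congrArg _ (hη j)
  have hψu : ∀ f, IsUnit (MvPolynomial.aeval y f) → IsUnit (ψ f) := fun f hf => by
    obtain ⟨⟨x, s⟩, hxs⟩ := IsLocalization.surj q0.primeCompl (ψ f)
    have h1 : algebraMap (R ⧸ K) T x = hRp (ψ f) * algebraMap (R ⧸ K) T s := by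
      rw [IsScalarTower.algebraMap_apply (R ⧸ K) Rp T, ← hxs, map_mul, IsScalarTower.algebraMap_apply (R ⧸ K) Rp T]
      rfl
    have h2 : IsUnit (algebraMap (R ⧸ K) T x) := by
      rw [h1, hψT]
      exact (hf.map _).mul (hunit s)
    rw [IsScalarTower.algebraMap_apply (R ⧸ K) (L ⧸ J) T,
      IsLocalization.AtPrime.isUnit_to_map_iff T (q.map (Ideal.Quotient.mk J))] at h2
    have h3 := IsLocalization.map_units Rp (⟨x, h2⟩ : q0.primeCompl)
    rw [← hxs] at h3
    exact isUnit_of_mul_isUnit_left h3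
  obtain ⟨B, _, _, hBs, gB, z, hB, hgBk, hBh, hBg, hBrel, hBz⟩ := huniv Rp inferInstance inferInstance ψ hψu hψe
    (E.comp hRp) fun f => by
      show E (hRp (ψ f)) = _
      rw [hψT]
      rfl
  haveI := hBs
  letI : Algebra k B := ((algebraMap Rp B).comp (algebraMap k Rp)).toAlgebra
  let toB : R →+* B := (algebraMap Rp B).comp toRp.toRingHom
  let πB : Fin d → B := fun i => toB (algebraMap X0 R (X i))
  let lamB : Fin d → Fin r → B := fun i j => algebraMap Rp B (cb i) ^ n * z i j
  have hrelB : ∀ i, πB i ^ n = ∑ j, lamB i j * gB (a j) := fun i => by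
    show algebraMap Rp B (toRp (algebraMap X0 R (X i))) ^ n = ∑ j, algebraMap Rp B (cb i) ^ n * z i j * gB (a j)
    rw [hXr, map_mul, mul_pow, hBrel, Finset.mul_sum]
    simp only [mul_assoc]
  obtain ⟨hM, hMA, hMX, hMZ⟩ := Sep.exists_modelLift gB a n πB lamB hrelB
  letI : Algebra X0 B := (toB.comp (algebraMap X0 R)).toAlgebra
  letI : Algebra R B := toB.toAlgebra
  haveI : IsScalarTower X0 R B := IsScalarTower.of_algebraMap_eq' rfl
  have hparam : ∀ f, hM (Sep.modelParam a n f) = algebraMap X0 B f := fun f => by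
    rw [modelLift_param a n hM gB hgBk hMA πB hMX f]
    refine RingHom.congr_fun (MvPolynomial.ringHom_ext
      (f := (MvPolynomial.aeval πB : X0 →ₐ[k] B).toRingHom) (g := algebraMap X0 B) (fun c => ?_) (fun i => ?_)) f
    · show MvPolynomial.aeval πB (MvPolynomial.C c) = algebraMap Rp B (toRp (algebraMap X0 R (algebraMap k X0 c)))
      rw [MvPolynomial.aeval_C, ← IsScalarTower.algebraMap_apply k X0 R, AlgHom.commutes]
      rfl
    · show MvPolynomial.aeval πB (X i) = _
      rw [MvPolynomial.aeval_X]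
      rfl
  let gC : C →ₐ[X0] B :=
    { hM.comp ρ with
      commutes' := fun f => by
        show hM (ρ (algebraMap X0 C f)) = _
        rw [hρ, hparam] }
  let gR : R ⊗[X0] C →ₐ[R] B := Algebra.TensorProduct.lift (Algebra.ofId R B) gC fun _ _ => Commute.all _ _
  have hkill : ∀ x ∈ K.map (algebraMap R (R ⊗[X0] C)), gR x = 0 := fun x hx => by
    refine (Ideal.map_le_iff_le_comap.mpr fun f hf => ?_ : K.map (algebraMap R (R ⊗[X0] C)) ≤ RingHom.ker gR) hx
    show gR (algebraMap R _ f) = 0
    rw [AlgHom.commutes]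
    show algebraMap Rp B (algebraMap (R ⧸ K) Rp (Ideal.Quotient.mk K f)) = 0
    rw [Ideal.Quotient.eq_zero_iff_mem.mpr hf, map_zero, map_zero]
  let g : ((R ⊗[X0] C) ⧸ K.map (algebraMap R (R ⊗[X0] C))) →+* B := Ideal.Quotient.lift _ gR.toRingHom hkill
  have hmodel : (E'.comp hB).comp hM = (Ideal.Quotient.mk (J.map am)).comp (am.comp hL) := by
    have hRB : ∀ x, hB (algebraMap Rp B x) = E (hRp x) := hBh
    refine modelHom_ext a n _ _ (fun x => ?_) fun s => ?_
    · show E' (hB (hM (algebraMap A _ x))) = Ideal.Quotient.mk _ (am (hL (algebraMap A _ x)))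
      rw [hMA, hBg, hLA]
      rfl
    · cases s with
      | inl i =>
        show E' (hB (hM (Ideal.Quotient.mk _ (X (Sum.inl i))))) = Ideal.Quotient.mk _ (am (hL (Ideal.Quotient.mk _ (X (Sum.inl i)))))
        rw [hMX, hLX]
        show E' (hB (algebraMap Rp B (toRp (algebraMap X0 R (X i))))) = _
        rw [hRB, hE, htoT, ← hπ]
        rfl
      | inr ij =>
        obtain ⟨i, j⟩ := ij
        show E' (hB (hM (Ideal.Quotient.mk _ (X (Sum.inr (i, j)))))) = Ideal.Quotient.mk _ (am (hL (Ideal.Quotient.mk _ (X (Sum.inr (i, j))))))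
        rw [hMZ, hLZ]
        show E' (hB (algebraMap Rp B (toRp (c0 i * β ^ N)) ^ n * z i j)) = _
        rw [map_mul, map_pow, hRB, hBz, map_mul, map_pow, hE, htoT, show am (lam i j) = _ from hlam i j]
        simp only [map_mul, map_pow]
        rfl
  haveI : IsNoetherianRing (R ⧸ K) := inferInstance
  haveI : Algebra.FinitePresentation (R ⧸ K) ((R ⊗[X0] C) ⧸ K.map (algebraMap R (R ⊗[X0] C))) :=
    Algebra.FinitePresentation.equiv (A := (R ⧸ K) ⊗[R] (R ⊗[X0] C))
      (Algebra.TensorProduct.quotIdealMapEquivQuotTensor (R ⊗[X0] C) K).symm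
  refine resolvable_of_factor (Rp := Rp) (Lq := T) φK _ hdim B g (fun x => ?_) (E'.comp hB) (fun x => ?_) fun x => ?_
  · obtain ⟨x, rfl⟩ := Ideal.Quotient.mk_surjective x
    show gR (algebraMap R _ x) = _
    rw [AlgHom.commutes]
    rfl
  · show E' (hB (algebraMap Rp B x)) = hRp x
    rw [hBh]
    exact hE _
  · obtain ⟨x, rfl⟩ := Ideal.Quotient.mk_surjective x
    rw [hφK]
    show E' (hB (gR x)) = Ideal.Quotient.mk (J.map am) (am (φR x))
    induction x using TensorProduct.induction_on with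
    | zero => simp
    | add u v hu hv => simp only [map_add, hu, hv]
    | tmul u w =>
      rw [Algebra.TensorProduct.lift_tmul, map_mul, map_mul,
        show u ⊗ₜ[X0] w = algebraMap R (R ⊗[X0] C) u * ((1 : R) ⊗ₜ w) from by
          rw [Algebra.TensorProduct.algebraMap_apply, Algebra.TensorProduct.tmul_mul_tmul, mul_one, one_mul]; rfl,
        map_mul, AlgHom.commutes, hφR, map_mul, map_mul]
      refine congrArg₂ _ ?_ ?_
      · show E' (hB (algebraMap Rp B (toRp u))) = _
        rw [hBh]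
        exact (hE _).trans (htoT u)
      · exact RingHom.congr_fun hmodel (ρ w)

end Groth.L14.Smoothing.Insep
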