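import Groth.Agent.L14.Smoothing.ConormalSym
import Groth.Agent.L14.Smoothing.DesingStd
import Groth.Agent.L14.Smoothing.Converse
import Mathlib.RingTheory.Polynomial.Basic
import Mathlib.RingTheory.FinitePresentation
import Mathlib.LinearAlgebra.Dimension.Free

/-!
An auxiliary algebra over a parameter ring in which powers of the parameters are strictly standard.
-/

set_option autoImplicit false
set_option linter.style.haveILetI false

noncomputable section

open MvPolynomial

namespace Groth.L14.Smoothing.Sep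

universe u

variable {k A : Type u} [Field k] [CommRing A] [Algebra k A] {d r : ℕ}

/-- The relations `X_i ^ n = ∑ Z_ij a_j`. -/
def modelRel (a : Fin r → A) (n : ℕ) (i : Fin d) : MvPolynomial (Fin d ⊕ Fin d × Fin r) A :=
  X (Sum.inl i) ^ n - ∑ j, X (Sum.inr (i, j)) * C (a j)

/-- The auxiliary algebra. -/
abbrev Model (a : Fin r → A) (n : ℕ) (d : ℕ) : Type u :=
  MvPolynomial (Fin d ⊕ Fin d × Fin r) A ⧸ Ideal.span (Set.range (modelRel (d := d) a n))

/-- The parameters in the auxiliary algebra. -/
def modelParam (a : Fin r → A) (n : ℕ) : MvPolynomial (Fin d) k →ₐ[k] Model a n d :=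
  MvPolynomial.aeval fun i => Ideal.Quotient.mk _ (X (Sum.inl i))

theorem formallySmooth_away (a : Fin r → A) (n : ℕ) (j₀ : Fin r) [Algebra.FormallySmooth k (Localization.Away (a j₀))]
    [Algebra (MvPolynomial (Fin d) k) (Model a n d)]
    (halg : ∀ f, algebraMap (MvPolynomial (Fin d) k) (Model a n d) f = modelParam a n f) :
    Algebra.FormallySmooth (MvPolynomial (Fin d) k)
      (Localization.Away (algebraMap A (Model a n d) (a j₀))) := by
  classical
  let R := MvPolynomial (Fin d) k
  let D := Model a n d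
  let t := algebraMap A D (a j₀)
  let Dt := Localization.Away t
  refine Algebra.FormallySmooth.of_comp_surjective fun B _ _ I hI f => ?_
  letI : Algebra k B := ((algebraMap R B).comp (algebraMap k R)).toAlgebra
  haveI : IsScalarTower k R B := IsScalarTower.of_algebraMap_eq' rfl
  haveI : IsScalarTower k R (B ⧸ I) := IsScalarTower.of_algebraMap_eq fun c => rfl
  let fD : D →+* B ⧸ I := (f : Dt →+* B ⧸ I).comp (algebraMap D Dt)
  have hfR : ∀ g : R, fD (modelParam a n g) = algebraMap R (B ⧸ I) g := fun g => by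
    rw [← halg]
    show f (algebraMap D Dt (algebraMap R D g)) = _
    rw [← IsScalarTower.algebraMap_apply R D Dt]
    exact f.commutes g
  have hfk : ∀ c : k, fD (algebraMap A D (algebraMap k A c)) = algebraMap k (B ⧸ I) c := fun c => by
    rw [IsScalarTower.algebraMap_apply k R (B ⧸ I), ← hfR, AlgHom.commutes,
      IsScalarTower.algebraMap_apply k A D]
  let fA : A →ₐ[k] B ⧸ I := { fD.comp (algebraMap A D) with commutes' := hfk }
  have hfu : ∀ y : Submonoid.powers (a j₀), IsUnit (fA y) := by
    rintro ⟨_, m, rfl⟩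
    rw [map_pow]
    exact ((IsLocalization.Away.algebraMap_isUnit t).map (f : Dt →+* B ⧸ I)).pow m
  let fA' : Localization.Away (a j₀) →ₐ[k] B ⧸ I := IsLocalization.liftAlgHom (M := Submonoid.powers (a j₀)) hfu
  obtain ⟨g, hg⟩ := Algebra.FormallySmooth.exists_lift (R := k) I ⟨2, hI⟩ fA'
  let gA : A →ₐ[k] B := g.comp (IsScalarTower.toAlgHom k A _)
  have hgA : ∀ x, Ideal.Quotient.mk I (gA x) = fA x := fun x => by
    show (Ideal.Quotient.mkₐ k I).comp g (algebraMap A _ x) = fA x
    rw [hg]
    exact IsLocalization.lift_eq _ x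
  have hu : IsUnit (gA (a j₀)) := (IsLocalization.Away.algebraMap_isUnit (a j₀)).map g
  obtain ⟨v, hv⟩ := hu.exists_left_inv
  choose z hz using fun p : Fin d × Fin r => Ideal.Quotient.mk_surjective (I := I) (fD (Ideal.Quotient.mk _ (X (Sum.inr p))))
  let xB : Fin d → B := fun i => algebraMap R B (X i)
  let w : Fin d × Fin r → B := fun p =>
    if p.2 = j₀ then v * (xB p.1 ^ n - ∑ j ∈ Finset.univ.erase j₀, z (p.1, j) * gA (a j)) else z p
  let G : MvPolynomial (Fin d ⊕ Fin d × Fin r) A →+* B := MvPolynomial.eval₂Hom gA.toRingHom (Sum.elim xB w)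
  have hGC : ∀ x, G (C x) = gA x := fun x => MvPolynomial.eval₂Hom_C _ _ x
  have hGX : ∀ s, G (X s) = Sum.elim xB w s := fun s => MvPolynomial.eval₂Hom_X' _ _ s
  have hrel : ∀ i, G (modelRel a n i) = 0 := fun i => by
    rw [modelRel, map_sub, map_pow, map_sum]
    simp only [map_mul, hGC, hGX, Sum.elim_inl, Sum.elim_inr]
    rw [← Finset.add_sum_erase _ _ (Finset.mem_univ j₀), Finset.sum_congr rfl (g := fun j => z (i, j) * gA (a j))
      (fun j hj => by simp [w, (Finset.mem_erase.mp hj).1])]
    simp only [w, if_pos]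
    linear_combination (-(xB i ^ n) + ∑ j ∈ Finset.univ.erase j₀, z (i, j) * gA (a j)) * hv
  let gD : D →+* B := Ideal.Quotient.lift _ G (fun x hx =>
    (Ideal.span_le.mpr (by rintro _ ⟨i, rfl⟩; exact hrel i) :
      Ideal.span (Set.range (modelRel (d := d) a n)) ≤ RingHom.ker G) hx)
  have hxI : ∀ i, Ideal.Quotient.mk I (xB i) = fD (Ideal.Quotient.mk _ (X (Sum.inl i))) := fun i => by
    have := hfR (X i)
    rw [modelParam, MvPolynomial.aeval_X] at this
    rw [this]
    rfl
  have hwI : ∀ p, Ideal.Quotient.mk I (w p) = fD (Ideal.Quotient.mk _ (X (Sum.inr p))) := fun p => by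
    by_cases hp : p.2 = j₀
    · obtain ⟨i, j⟩ := p
      subst hp
      simp only [w, if_pos, map_mul, map_sub, map_pow, map_sum, hz, hgA]
      have h0 := congrArg fD (Ideal.Quotient.eq_zero_iff_mem.mpr
        (Ideal.subset_span ⟨i, rfl⟩ : modelRel a n i ∈ Ideal.span (Set.range (modelRel (d := d) a n))))
      rw [modelRel, map_zero, ← Finset.add_sum_erase _ _ (Finset.mem_univ j)] at h0
      simp only [map_sub, map_add, map_pow, map_mul, map_sum] at h0
      have hA : ∀ x, fD (Ideal.Quotient.mk _ (C x)) = fA x := fun x => rfl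
      simp only [hA, ← hxI] at h0
      have hv' := congrArg (Ideal.Quotient.mk I) hv
      rw [map_mul, map_one, hgA] at hv'
      linear_combination Ideal.Quotient.mk I v * h0 + fD (Ideal.Quotient.mk _ (X (Sum.inr (i, j)))) * hv'
    · simp only [w, if_neg hp, hz]
  have hgD : (Ideal.Quotient.mk I).comp gD = fD := by
    refine Ideal.Quotient.ringHom_ext (MvPolynomial.ringHom_ext (fun x => ?_) (fun s => ?_))
    · show Ideal.Quotient.mk I (G (C x)) = _
      rw [hGC, hgA]
      rfl
    · show Ideal.Quotient.mk I (G (X s)) = _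
      rw [hGX]
      cases s with
      | inl i => exact hxI i
      | inr p => exact hwI p
  have hgu : IsUnit (gD t) := by
    show IsUnit (G (C (a j₀)))
    rw [hGC]; exact hu
  let gt : Dt →+* B := IsLocalization.Away.lift t hgu
  have hgR : gD.comp (modelParam a n (k := k) (d := d)).toRingHom = algebraMap R B := by
    refine MvPolynomial.ringHom_ext (fun c => ?_) (fun i => ?_)
    · show gD (modelParam a n (algebraMap k R c)) = algebraMap R B (algebraMap k R c)
      rw [AlgHom.commutes, IsScalarTower.algebraMap_apply k A D]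
      show G (C (algebraMap k A c)) = _
      rw [hGC, AlgHom.commutes]
      rfl
    · show gD (modelParam a n (X i)) = _
      rw [modelParam, MvPolynomial.aeval_X]
      exact hGX _
  refine ⟨{ gt with commutes' := fun g => ?_ }, AlgHom.coe_ringHom_injective ?_⟩
  · show gt (algebraMap R Dt g) = algebraMap R B g
    rw [IsScalarTower.algebraMap_apply R D Dt, halg, IsLocalization.Away.lift_eq]
    exact RingHom.congr_fun hgR g
  · refine IsLocalization.ringHom_ext (Submonoid.powers t) (RingHom.ext fun x => ?_)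
    show Ideal.Quotient.mk I (gt (algebraMap D Dt x)) = f (algebraMap D Dt x)
    rw [IsLocalization.Away.lift_eq]
    exact RingHom.congr_fun hgD x

/-- The map out of the auxiliary algebra given by a solution of its relations. -/
theorem exists_modelLift {L : Type u} [CommRing L] (f : A →+* L) (a : Fin r → A) (n : ℕ) (π : Fin d → L)
    (lam : Fin d → Fin r → L) (hrel : ∀ i, π i ^ n = ∑ j, lam i j * f (a j)) :
    ∃ h : Model a n d →+* L, (∀ x, h (algebraMap A (Model a n d) x) = f x) ∧
      (∀ i, h (Ideal.Quotient.mk _ (X (Sum.inl i))) = π i) ∧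
      ∀ i j, h (Ideal.Quotient.mk _ (X (Sum.inr (i, j)))) = lam i j := by
  let G : MvPolynomial (Fin d ⊕ Fin d × Fin r) A →+* L :=
    MvPolynomial.eval₂Hom f (Sum.elim π fun p => lam p.1 p.2)
  have hG : ∀ i, G (modelRel a n i) = 0 := fun i => by
    rw [modelRel, map_sub, map_pow, map_sum]
    simp only [map_mul, G, MvPolynomial.eval₂Hom_C, MvPolynomial.eval₂Hom_X', Sum.elim_inl, Sum.elim_inr]
    rw [hrel, sub_eq_zero]
  refine ⟨Ideal.Quotient.lift _ G (fun x hx => (Ideal.span_le.mpr (by rintro _ ⟨i, rfl⟩; exact hG i) :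
      Ideal.span (Set.range (modelRel (d := d) a n)) ≤ RingHom.ker G) hx), fun x => ?_, fun i => ?_, fun i j => ?_⟩
  · exact MvPolynomial.eval₂Hom_C _ _ x
  · exact MvPolynomial.eval₂Hom_X' _ _ _
  · exact MvPolynomial.eval₂Hom_X' _ _ _

/-- A model over the parameter ring, retracting onto the auxiliary algebra, in which powers of the parameters
are strictly standard. -/
theorem exists_standard_model' [Algebra.FinitePresentation k A] (a : Fin r → A)
    (ha : Ideal.span (Set.range a) = _root_.Smoothing.singularIdeal k A) (n d : ℕ) :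
    ∃ (C : Type u) (_ : CommRing C) (_ : Algebra (MvPolynomial (Fin d) k) C),
      Algebra.FinitePresentation (MvPolynomial (Fin d) k) C ∧
      ∃ g : A →+* C, (∀ c, g (algebraMap k A c) = algebraMap (MvPolynomial (Fin d) k) C (MvPolynomial.C c)) ∧
      (∀ j, g (a j) ∈ _root_.Smoothing.singularIdeal (MvPolynomial (Fin d) k) C) ∧
      ∃ M : ℕ, 0 < M ∧
        (∀ i, _root_.Smoothing.IsStrictlyStandard (MvPolynomial (Fin d) k) C
          (algebraMap (MvPolynomial (Fin d) k) C (MvPolynomial.X i ^ M))) ∧
        ∃ ρ : C →+* Model a n d, (∀ x, ρ (g x) = algebraMap A (Model a n d) x) ∧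
          ∀ f, ρ (algebraMap (MvPolynomial (Fin d) k) C f) = modelParam a n f := by
  classical
  let R := MvPolynomial (Fin d) k
  let D := Model a n d
  letI : Algebra R D := (modelParam a n).toRingHom.toAlgebra
  have halg : ∀ f, algebraMap R D f = modelParam a n f := fun _ => rfl
  haveI : IsScalarTower k R D := IsScalarTower.of_algebraMap_eq fun c => ((modelParam a n).commutes c).symm
  haveI : Algebra.FiniteType A D := Algebra.FiniteType.of_surjective (Ideal.Quotient.mkₐ A _) Ideal.Quotient.mk_surjective
  haveI : Algebra.FiniteType k D := Algebra.FiniteType.trans (R := k) (S := A) (A := D) inferInstance inferInstance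
  haveI : Algebra.FiniteType R D := Algebra.FiniteType.of_restrictScalars_finiteType k R D
  haveI : Algebra.FinitePresentation R D := Algebra.FinitePresentation.of_finiteType.mp inferInstance
  have hsmD : ∀ j, Algebra.Smooth R (Localization.Away (algebraMap A D (a j))) := fun j => by
    haveI := Desing.smooth_away_of_mem_singularIdeal (R := k) (D := A) (d := a j)
      (ha ▸ Ideal.subset_span ⟨j, rfl⟩)
    haveI := formallySmooth_away (k := k) a n j halg
    haveI : Algebra.FinitePresentation D (Localization.Away (algebraMap A D (a j))) :=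
      IsLocalization.Away.finitePresentation (algebraMap A D (a j))
    haveI : Algebra.FinitePresentation R (Localization.Away (algebraMap A D (a j))) :=
      Algebra.FinitePresentation.trans R D _
    exact { }
  have hjD : ∀ j, algebraMap A D (a j) ∈ _root_.Smoothing.singularIdeal R D :=
    fun j => Desing.mem_singularIdeal_of_smooth (hsmD j)
  have hsmX : ∀ i, Algebra.Smooth R (Localization.Away (algebraMap R D (X i))) := fun i => by
    refine Desing.smooth_away_of_mem_singularIdeal ?_
    refine Desing.isRadical_singularIdeal R D ⟨n, ?_⟩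
    have h0 : algebraMap R D (X i) ^ n = ∑ j, Ideal.Quotient.mk _ (X (Sum.inr (i, j))) * algebraMap A D (a j) := by
      rw [halg, modelParam, MvPolynomial.aeval_X]
      have := Ideal.Quotient.eq_zero_iff_mem.mpr
        (Ideal.subset_span ⟨i, rfl⟩ : modelRel a n i ∈ Ideal.span (Set.range (modelRel (d := d) a n)))
      rw [modelRel, map_sub, map_pow, map_sum, sub_eq_zero] at this
      simp only [map_mul] at this
      exact this
    rw [h0]
    exact Ideal.sum_mem _ fun j _ => Ideal.mul_mem_left _ _ (hjD j)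
  obtain ⟨C', iC, iDC, iRC, itow, hfp, ⟨ρ⟩, hC⟩ := ConormalSym.exists_smooth_free_retract R D
  haveI := hfp
  have hstd : ∀ i, ∃ e₀ : ℕ, ∀ m, e₀ ≤ m →
      _root_.Smoothing.IsStrictlyStandard R C' (algebraMap R C' (X i) ^ m) := fun i => by
    obtain ⟨h1, h2⟩ := hC _ (hsmX i)
    rw [← IsScalarTower.algebraMap_apply R D C'] at h1 h2
    haveI := h1
    haveI := h2
    let Ct := Localization.Away (algebraMap R C' (X i))
    let b := Module.Free.chooseBasis Ct Ω[Ct⁄R]
    haveI := Fintype.ofFinite (Module.Free.ChooseBasisIndex Ct Ω[Ct⁄R])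
    let e : (Ω[Ct⁄R] × (Fin 0 → Ct)) ≃ₗ[Ct] (Fin (Fintype.card (Module.Free.ChooseBasisIndex Ct Ω[Ct⁄R])) → Ct) :=
      LinearEquiv.prodUnique ≪≫ₗ (b.reindex (Fintype.equivFin _)).equivFun
    exact Groth.L14.Smoothing.pow_isStrictlyStandard (algebraMap R C' (X i)) 0 _ e
  choose e₀ he₀ using hstd
  refine ⟨C', iC, iRC, hfp, (algebraMap D C').comp (algebraMap A D), fun c => ?_, fun j => ?_,
    Finset.univ.sup e₀ + 1, Nat.succ_pos _, fun i => ?_, ?_⟩
  · show algebraMap D C' (algebraMap A D (algebraMap k A c)) = _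
    rw [IsScalarTower.algebraMap_apply R D C', show (MvPolynomial.C c : R) = algebraMap k R c from rfl,
      ← IsScalarTower.algebraMap_apply k R D, ← IsScalarTower.algebraMap_apply k A D]
  · exact Desing.mem_singularIdeal_of_smooth (hC _ (hsmD j)).1
  · rw [map_pow]
    exact he₀ i _ ((Finset.le_sup (f := e₀) (Finset.mem_univ i)).trans (Nat.le_succ _))
  · have hρ : ∀ x, ρ (algebraMap D C' x) = x := ρ.commutes
    refine ⟨ρ.toRingHom, fun x => ?_, fun f => ?_⟩
    · exact hρ _
    · show ρ (algebraMap R C' f) = _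
      rw [IsScalarTower.algebraMap_apply R D C', hρ, halg]

/-- A model over the parameter ring in which powers of the parameters are strictly standard. -/
theorem exists_standard_model [Algebra.FinitePresentation k A] (a : Fin r → A)
    (ha : Ideal.span (Set.range a) = _root_.Smoothing.singularIdeal k A) (n d : ℕ) :
    ∃ (C : Type u) (_ : CommRing C) (_ : Algebra (MvPolynomial (Fin d) k) C),
      Algebra.FinitePresentation (MvPolynomial (Fin d) k) C ∧
      ∃ g : A →+* C, (∀ c, g (algebraMap k A c) = algebraMap (MvPolynomial (Fin d) k) C (MvPolynomial.C c)) ∧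
      (∀ j, g (a j) ∈ _root_.Smoothing.singularIdeal (MvPolynomial (Fin d) k) C) ∧
      ∃ M : ℕ, 0 < M ∧
        (∀ i, _root_.Smoothing.IsStrictlyStandard (MvPolynomial (Fin d) k) C
          (algebraMap (MvPolynomial (Fin d) k) C (MvPolynomial.X i ^ M))) ∧
        ∀ (L : Type u) (_ : CommRing L) (_ : Algebra k L) (φ : A →ₐ[k] L) (π : Fin d → L) (lam : Fin d → Fin r → L),
          (∀ i, π i ^ n = ∑ j, lam i j * φ (a j)) →
          ∃ h : C →+* L, (∀ x, h (g x) = φ x) ∧
            ∀ f, h (algebraMap (MvPolynomial (Fin d) k) C f) = MvPolynomial.aeval π f := by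
  obtain ⟨C, iC, iR, hfp, g, hgk, hga, M, hM, hstd, ρ, hρg, hρf⟩ := exists_standard_model' (k := k) a ha n d
  refine ⟨C, iC, iR, hfp, g, hgk, hga, M, hM, hstd, fun L _ _ φ π lam hrel => ?_⟩
  obtain ⟨h, hhA, hhX, -⟩ := exists_modelLift φ.toRingHom a n π lam hrel
  refine ⟨h.comp ρ, fun x => ?_, fun f => ?_⟩
  · show h (ρ (g x)) = φ x
    rw [hρg]
    exact hhA x
  · show h (ρ _) = _
    rw [hρf]
    refine RingHom.congr_fun (MvPolynomial.ringHom_ext (f := h.comp (modelParam a n (k := k)).toRingHom)
      (g := (MvPolynomial.aeval π : MvPolynomial (Fin d) k →ₐ[k] L).toRingHom) (fun c => ?_) (fun i => ?_)) f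
    · show h (modelParam a n (algebraMap k _ c)) = MvPolynomial.aeval π (algebraMap k _ c)
      rw [AlgHom.commutes, AlgHom.commutes, IsScalarTower.algebraMap_apply k A (Model a n d), hhA]
      exact φ.commutes c
    · show h (modelParam a n (X i)) = MvPolynomial.aeval π (X i)
      rw [modelParam, MvPolynomial.aeval_X, MvPolynomial.aeval_X]
      exact hhX i

end Groth.L14.Smoothing.Sep
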