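import Groth.Agent.L14.Smoothing.InsepParams
import Groth.Agent.L14.Smoothing.SepModel
import Groth.Agent.L14.Smoothing.DelocWeak
import Mathlib.RingTheory.Localization.BaseChange
import Mathlib.RingTheory.MvPolynomial.Ideal

/-!
Auxiliary statements for resolving at a prime with inseparable residue field.
-/

set_option autoImplicit false
set_option linter.style.haveILetI false

noncomputable section

open MvPolynomial IsLocalRing TensorProduct

namespace Groth.L14.Smoothing.Insep

universe u

/-- Homogenisation with respect to a common denominator. -/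
theorem exists_homogenization {k : Type u} [CommRing k] {m d : ℕ} (P : Fin d → MvPolynomial (Fin m) k) :
    ∃ (N : ℕ) (Pt : Fin d → MvPolynomial (Option (Fin m)) k), ∀ (B : Type u) [CommRing B] [Algebra k B]
      (v : Fin m → B) (b : B) (i : Fin d),
      MvPolynomial.aeval (fun o => Option.elim o b fun j => b * v j) (Pt i) = b ^ N * MvPolynomial.aeval v (P i) := by
  classical
  have h : ∀ f : MvPolynomial (Fin m) k, ∃ (N : ℕ) (g : MvPolynomial (Option (Fin m)) k),
      ∀ (B : Type u) [CommRing B] [Algebra k B] (v : Fin m → B) (b : B),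
      MvPolynomial.aeval (fun o => Option.elim o b fun j => b * v j) g = b ^ N * MvPolynomial.aeval v f := by
    intro f
    induction f using MvPolynomial.induction_on with
    | C c => exact ⟨0, C c, fun B _ _ v b => by simp⟩
    | add f g hf hg =>
      obtain ⟨N, f', hf⟩ := hf
      obtain ⟨N', g', hg⟩ := hg
      refine ⟨N + N', X none ^ N' * f' + X none ^ N * g', fun B _ _ v b => ?_⟩
      simp only [map_add, map_mul, map_pow, MvPolynomial.aeval_X, Option.elim_none, hf B v b, hg B v b]
      ring
    | mul_X f j hf =>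
      obtain ⟨N, f', hf⟩ := hf
      refine ⟨N + 1, f' * X (some j), fun B _ _ v b => ?_⟩
      simp only [map_mul, MvPolynomial.aeval_X, Option.elim_some, hf B v b]
      ring
  choose N g hg using fun i => h (P i)
  refine ⟨Finset.univ.sup N, fun i => X none ^ (Finset.univ.sup N - N i) * g i, fun B _ _ v b i => ?_⟩
  rw [map_mul, map_pow, MvPolynomial.aeval_X, Option.elim_none, hg i B v b, ← mul_assoc, ← pow_add,
    Nat.sub_add_cancel (Finset.le_sup (Finset.mem_univ i))]

/-- Stability of `X_i u_i` modulo powers of its predecessors, coefficientwise. -/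
theorem stable_X_mul {A : Type u} [CommRing A] {d : ℕ} (u : Fin d → A) (e : ℕ) (he : 0 < e)
    (hu : ∀ (i : Fin d) (S : Finset (Fin d)), (∀ j ∈ S, j < i) → ∀ r : A,
      u i ^ 2 * r ∈ Ideal.span ((fun j => u j ^ e) '' (S : Set (Fin d))) →
      u i * r ∈ Ideal.span ((fun j => u j ^ e) '' (S : Set (Fin d))))
    (i : Fin d) (r : MvPolynomial (Fin d) A)
    (hr : (X i * C (u i)) ^ 2 * r ∈
      Ideal.span ((fun j => ((X j * C (u j)) ^ e : MvPolynomial (Fin d) A)) '' {j | j < i})) :
    X i * C (u i) * r ∈ Ideal.span ((fun j => ((X j * C (u j)) ^ e : MvPolynomial (Fin d) A)) '' {j | j < i}) := by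
  classical
  let Sset : (Fin d →₀ ℕ) → Finset (Fin d) := fun μ => Finset.univ.filter fun j => j < i ∧ e ≤ μ j
  have hfwd : ∀ x ∈ Ideal.span ((fun j => ((X j * C (u j)) ^ e : MvPolynomial (Fin d) A)) '' {j | j < i}), ∀ μ,
      coeff μ x ∈ Ideal.span ((fun j => u j ^ e) '' (Sset μ : Set (Fin d))) := by
    intro x hx
    induction hx using Submodule.span_induction with
    | mem z hz =>
      obtain ⟨j, hj, rfl⟩ := hz
      intro μ
      show coeff μ ((X j * C (u j)) ^ e) ∈ _
      rw [mul_pow, ← map_pow, X_pow_eq_monomial, mul_comm, C_mul_monomial, mul_one, coeff_monomial]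
      split_ifs with h
      · refine Ideal.subset_span ⟨j, ?_, rfl⟩
        simp only [Sset, Finset.coe_filter, Finset.mem_univ, true_and, Set.mem_setOf_eq]
        exact ⟨hj, by rw [← h, Finsupp.single_eq_same]⟩
      · exact zero_mem _
    | zero => intro μ; rw [coeff_zero]; exact zero_mem _
    | add a b _ _ ha hb => intro μ; rw [coeff_add]; exact add_mem (ha μ) (hb μ)
    | smul c a _ ha =>
      intro μ
      rw [smul_eq_mul, coeff_mul]
      refine Ideal.sum_mem _ fun z hz => Ideal.mul_mem_left _ _ ?_
      refine Ideal.span_mono ?_ (ha z.2)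
      refine Set.image_mono fun j hj => ?_
      simp only [Sset, Finset.coe_filter, Finset.mem_univ, true_and, Set.mem_setOf_eq] at hj ⊢
      refine ⟨hj.1, hj.2.trans ?_⟩
      rw [← Finset.HasAntidiagonal.mem_antidiagonal.mp hz]
      simp
  have hbwd : ∀ x : MvPolynomial (Fin d) A,
      (∀ μ, coeff μ x ∈ Ideal.span ((fun j => u j ^ e) '' (Sset μ : Set (Fin d)))) →
      x ∈ Ideal.span ((fun j => ((X j * C (u j)) ^ e : MvPolynomial (Fin d) A)) '' {j | j < i}) := by
    intro x hx
    rw [x.as_sum]
    refine Ideal.sum_mem _ fun μ _ => ?_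
    have h := hx μ
    generalize coeff μ x = w at h
    induction h using Submodule.span_induction with
    | mem z hz =>
      obtain ⟨j, hj, rfl⟩ := hz
      simp only [Sset, Finset.coe_filter, Finset.mem_univ, true_and, Set.mem_setOf_eq] at hj
      have hle : Finsupp.single j e ≤ μ := Finsupp.single_le_iff.mpr hj.2
      have : monomial μ (u j ^ e) = monomial (μ - Finsupp.single j e) (1 : A) * (X j * C (u j)) ^ e := by
        rw [mul_pow, ← map_pow, X_pow_eq_monomial, mul_comm (monomial (Finsupp.single j e) (1 : A)), C_mul_monomial,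
          mul_one, monomial_mul, one_mul, tsub_add_cancel_of_le hle]
      rw [this]
      exact Ideal.mul_mem_left _ _ (Ideal.subset_span ⟨j, hj.1, rfl⟩)
    | zero => rw [monomial_zero]; exact zero_mem _
    | add a b _ _ ha hb => rw [map_add]; exact add_mem ha hb
    | smul c a _ ha => rw [smul_eq_mul, ← C_mul_monomial]; exact Ideal.mul_mem_left _ _ ha
  have hSeq : ∀ (μ : Fin d →₀ ℕ) (a : ℕ), Sset (μ + Finsupp.single i a) = Sset μ := fun μ a => by
    refine Finset.filter_congr fun j _ => and_congr_right fun hj => ?_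
    rw [Finsupp.add_apply, Finsupp.single_eq_of_ne (ne_of_lt hj), add_zero]
  have hX : ∀ (a : ℕ) (μ : Fin d →₀ ℕ), coeff (μ + Finsupp.single i a) ((X i * C (u i)) ^ a * r) = u i ^ a * coeff μ r :=
    fun a μ => by
      rw [mul_pow, ← map_pow, X_pow_eq_monomial, mul_comm (monomial _ _) (C _), C_mul_monomial, mul_one,
        add_comm μ, coeff_monomial_mul]
  refine hbwd _ fun ν => ?_
  by_cases hν : 1 ≤ ν i
  · have hν' : ν - Finsupp.single i 1 + Finsupp.single i 1 = ν := tsub_add_cancel_of_le (Finsupp.single_le_iff.mpr hν)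
    rw [← hν', ← pow_one (X i * C (u i)), hX, pow_one, hSeq]
    refine hu i _ (fun j hj => (Finset.mem_filter.mp hj).2.1) _ ?_
    rw [← hX 2, ← hSeq _ 2]
    exact hfwd _ hr _
  · rw [X, mul_comm (monomial _ _) (C _), C_mul_monomial, mul_one, coeff_monomial_mul', if_neg (by rwa [Finsupp.single_le_iff])]
    exact zero_mem _

/-- Elements generating the maximal ideal of a regular local ring in minimal number are independent modulo `m²`. -/
theorem indep_of_span {S : Type u} [CommRing S] [IsRegularLocalRing S] {d : ℕ} (hd : ringKrullDim S = d)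
    (x : Fin d → S) (hx : Ideal.span (Set.range x) = maximalIdeal S)
    (c : Fin d → S) (hc : ∑ j, c j * x j ∈ maximalIdeal S ^ 2) (j : Fin d) : c j ∈ maximalIdeal S := by
  have hxm : ∀ i, x i ∈ maximalIdeal S := fun i => hx ▸ Ideal.subset_span ⟨i, rfl⟩
  let v : Fin d → CotangentSpace S := fun i => (maximalIdeal S).toCotangent ⟨x i, hxm i⟩
  have hspanv : ⊤ ≤ Submodule.span (ResidueField S) (Set.range v) := by
    refine ge_of_eq ?_
    rw [show v = (maximalIdeal S).toCotangent ∘ fun i => (⟨x i, hxm i⟩ : maximalIdeal S) from rfl,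
      Set.range_comp, IsLocalRing.CotangentSpace.span_image_eq_top_iff]
    refine Submodule.map_injective_of_injective (f := Submodule.subtype (maximalIdeal S)) Subtype.val_injective ?_
    rw [Submodule.map_span, Submodule.map_top, Submodule.range_subtype, ← Set.range_comp]
    exact hx
  have hfr : Module.finrank (ResidueField S) (CotangentSpace S) = d := by
    have h := (IsRegularLocalRing.iff_finrank_cotangentSpace S).mp inferInstance
    rw [hd] at h
    exact_mod_cast h
  have hli : LinearIndependent (ResidueField S) v :=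
    linearIndependent_of_top_le_span_of_card_eq_finrank hspanv (by rw [Fintype.card_fin, hfr])
  have h0 : ∑ i, residue S (c i) • v i = 0 := by
    have h1 : (maximalIdeal S).toCotangent (∑ i, c i • (⟨x i, hxm i⟩ : maximalIdeal S)) = 0 := by
      rw [Ideal.toCotangent_eq_zero]
      simpa using hc
    rw [map_sum] at h1
    refine Eq.trans (Finset.sum_congr rfl fun i _ => ?_) h1
    rw [map_smul]
    rfl
  exact (residue_eq_zero_iff _).mp (Fintype.linearIndependent_iff.mp hli _ h0 j)

/-- Preimages of independent parameters, up to units, are independent. -/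
theorem indep_of_map {R S : Type u} [CommRing R] [IsLocalRing R] [CommRing S] [IsRegularLocalRing S]
    (f : R →+* S) [IsLocalHom f] {d : ℕ} (hd : ringKrullDim S = d) (x : Fin d → S)
    (hx : Ideal.span (Set.range x) = maximalIdeal S) (b : Fin d → R) (U : Fin d → S) (hU : ∀ i, IsUnit (U i))
    (hb : ∀ i, f (b i) = U i * x i) (c : Fin d → R) (hc : ∑ j, c j * b j ∈ maximalIdeal R ^ 2) (j : Fin d) :
    c j ∈ maximalIdeal R := by
  have h1 : ∑ i, f (c i) * U i * x i ∈ maximalIdeal S ^ 2 := by
    have h2 := Ideal.mem_map_of_mem f hc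
    rw [Ideal.map_pow, map_sum] at h2
    refine (congrArg (· ∈ maximalIdeal S ^ 2) (Finset.sum_congr rfl fun i _ => ?_)).mp
      (Ideal.pow_right_mono (((IsLocalRing.local_hom_TFAE f).out 0 2).mp ‹IsLocalHom f›) 2 h2)
    rw [map_mul, hb, mul_assoc]
  have h3 := indep_of_span hd x hx _ h1 j
  by_contra hcj
  rw [IsLocalRing.mem_maximalIdeal, mem_nonunits_iff] at hcj h3
  exact h3 (((not_not.mp hcj).map f).mul (hU j))

variable {k A : Type u} [Field k] [CommRing A] [Algebra k A] {d r : ℕ}

/-- A map out of the auxiliary algebra evaluates the parameters. -/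
theorem modelLift_param {L : Type u} [CommRing L] [Algebra k L] (a : Fin r → A) (n : ℕ)
    (h : Sep.Model a n d →+* L) (f : A →+* L) (hf : ∀ c, f (algebraMap k A c) = algebraMap k L c)
    (hA : ∀ x, h (algebraMap A (Sep.Model a n d) x) = f x) (π : Fin d → L)
    (hX : ∀ i, h (Ideal.Quotient.mk _ (X (Sum.inl i))) = π i) (g : MvPolynomial (Fin d) k) :
    h (Sep.modelParam a n g) = MvPolynomial.aeval π g := by
  refine RingHom.congr_fun (MvPolynomial.ringHom_ext (f := h.comp (Sep.modelParam a n (k := k)).toRingHom)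
    (g := (MvPolynomial.aeval π : MvPolynomial (Fin d) k →ₐ[k] L).toRingHom) (fun c => ?_) (fun i => ?_)) g
  · show h (Sep.modelParam a n (algebraMap k _ c)) = MvPolynomial.aeval π (algebraMap k _ c)
    rw [AlgHom.commutes, AlgHom.commutes, IsScalarTower.algebraMap_apply k A (Sep.Model a n d), hA, hf]
  · show h (Sep.modelParam a n (X i)) = MvPolynomial.aeval π (X i)
    rw [Sep.modelParam, MvPolynomial.aeval_X, MvPolynomial.aeval_X]
    exact hX i

/-- Extensionality for maps out of the auxiliary algebra. -/
theorem modelHom_ext {L : Type u} [CommRing L] (a : Fin r → A) (n : ℕ) (f g : Sep.Model a n d →+* L)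
    (hA : ∀ x, f (algebraMap A (Sep.Model a n d) x) = g (algebraMap A (Sep.Model a n d) x))
    (hX : ∀ s, f (Ideal.Quotient.mk _ (X s)) = g (Ideal.Quotient.mk _ (X s))) : f = g :=
  Ideal.Quotient.ringHom_ext (MvPolynomial.ringHom_ext hA hX)

/-- The singular ideal maps into that of a base change. -/
theorem mem_singularIdeal_baseChange {R R' C : Type u} [CommRing R] [CommRing R'] [Algebra R R'] [CommRing C]
    [Algebra R C] [Algebra.FinitePresentation R C] {c : C} (hc : c ∈ _root_.Smoothing.singularIdeal R C) :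
    (1 : R') ⊗ₜ[R] c ∈ _root_.Smoothing.singularIdeal R' (R' ⊗[R] C) := by
  haveI := Desing.smooth_away_of_mem_singularIdeal hc
  exact Desing.mem_singularIdeal_of_smooth
    (Algebra.Smooth.of_equiv (IsLocalization.Away.tensorProductEquivTMulRight R R' c (Localization.Away c)))

/-- At a prime of dimension zero, a smooth factorisation over the localised base resolves. -/
theorem resolvable_of_factor {R A L : Type u} [CommRing R] [IsNoetherianRing R] [CommRing A] [Algebra R A]
    [Algebra.FinitePresentation R A] [CommRing L] [Algebra R L] (φ : A →ₐ[R] L) (q : Ideal L) [q.IsPrime]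
    {Rp Lq : Type u} [CommRing Rp] [Algebra R Rp] [IsLocalization.AtPrime Rp (q.comap (algebraMap R L))]
    [CommRing Lq] [Algebra L Lq] [IsLocalization.AtPrime Lq q] [Algebra R Lq] [IsScalarTower R L Lq]
    [Algebra Rp Lq] [IsScalarTower R Rp Lq] (hdim : ringKrullDim Lq = 0)
    (B : Type u) [CommRing B] [Algebra Rp B] [Algebra.Smooth Rp B] (g : A →+* B)
    (hg : ∀ x, g (algebraMap R A x) = algebraMap Rp B (algebraMap R Rp x))
    (h : B →+* Lq) (hh : ∀ x, h (algebraMap Rp B x) = algebraMap Rp Lq x)
    (hgh : ∀ x, h (g x) = algebraMap L Lq (φ x)) : _root_.Smoothing.Resolvable R φ q := by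
  by_cases hq : _root_.Smoothing.singRad R φ ≤ q
  swap
  · exact ⟨A, inferInstance, inferInstance, inferInstance, AlgHom.id R A, φ, AlgHom.comp_id φ, le_rfl, hq⟩
  haveI : IsLocalRing Lq := IsLocalization.AtPrime.isLocalRing Lq q
  haveI : Ring.KrullDimLE 0 Lq := Ring.krullDimLE_iff.mpr (by rw [hdim]; exact le_rfl)
  haveI : (q.map (algebraMap L Lq)).IsPrime := by
    rw [IsLocalization.AtPrime.map_eq_maximalIdeal q Lq]; infer_instance
  have hmin : q ∈ (_root_.Smoothing.singRad R φ).minimalPrimes := by
    refine ⟨⟨inferInstance, hq⟩, fun P ⟨hP, _⟩ hPq => ?_⟩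
    have hdisj : Disjoint (q.primeCompl : Set L) P := Set.disjoint_left.mpr fun x hx hxP => hx (hPq hxP)
    haveI := IsLocalization.isPrime_of_isPrime_disjoint q.primeCompl Lq P hP hdisj
    have h1 : P.map (algebraMap L Lq) = maximalIdeal Lq := (Ring.KrullDimLE.eq_maximalIdeal_of_isPrime _)
    have h2 := IsLocalization.comap_map_of_isPrime_disjoint q.primeCompl Lq hP hdisj
    rw [← h2, h1, IsLocalization.AtPrime.comap_maximalIdeal Lq q]
  refine DelocWeak.resolvable_of_dim_zero (Rₚ := Rp) (Λq := Lq) φ q hmin hdim ?_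
  letI : Algebra R B := ((algebraMap Rp B).comp (algebraMap R Rp)).toAlgebra
  haveI : IsScalarTower R Rp B := IsScalarTower.of_algebraMap_eq' rfl
  let gB : A →ₐ[R] B := { g with commutes' := hg }
  let G : Rp ⊗[R] A →ₐ[Rp] B := Algebra.TensorProduct.lift (Algebra.ofId Rp B) gB fun _ _ => Commute.all _ _
  let H : B →ₐ[Rp] Lq := { h with commutes' := hh }
  have htop : _root_.Smoothing.singRad Rp H = ⊤ := by
    rw [Ideal.eq_top_iff_one]
    refine Ideal.le_radical ?_
    rw [← map_one H]
    exact Ideal.mem_map_of_mem _ (DesingApply.mem_singularIdeal_of_forall fun Q _ _ => inferInstance)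
  refine ⟨B, inferInstance, inferInstance, inferInstance, G, H, ?_, htop ▸ le_top,
    fun hle => Ideal.IsPrime.ne_top inferInstance (top_le_iff.mp (htop ▸ hle))⟩
  refine Algebra.TensorProduct.ext' fun x y => ?_
  show h (G (x ⊗ₜ y)) = _
  rw [Algebra.TensorProduct.lift_tmul, Algebra.TensorProduct.lift_tmul, map_mul]
  exact congrArg₂ _ (hh x) (hgh y)

end Groth.L14.Smoothing.Insep
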