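import Groth.Prelude.Def_Smoothing
import Mathlib.RingTheory.Extension.Presentation.Submersive
import Mathlib.RingTheory.Smooth.StandardSmooth
import Mathlib.Tactic

/-!
Presentations indexed by arbitrary finite types.
-/

set_option autoImplicit false
set_option linter.style.haveILetI false

noncomputable section

open MvPolynomial

namespace Groth.L14.Smoothing.Generic

universe u

variable {R : Type u} [CommRing R]

/-- A way to build strictly standard elements from an arbitrarily indexed presentation. -/
theorem isStrictlyStandard_of_presentation {V L : Type} {T : Type*} [Fintype V] [Fintype L] [DecidableEq L]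
    [Finite T] (hLV : Fintype.card L ≤ Fintype.card V) (G : L ⊕ T → MvPolynomial V R)
    (a : MvPolynomial V R ⧸ Ideal.span (Set.range G))
    (hminor : a ∈ Ideal.span (Set.range fun col : L → V => Ideal.Quotient.mk (Ideal.span (Set.range G))
      (Matrix.det (Matrix.of fun j k : L => pderiv (col k) (G (Sum.inl j))))))
    (hkill : ∀ p : MvPolynomial V R, Ideal.Quotient.mk _ p = a → ∀ t : T, p * G (Sum.inr t) ∈
      Ideal.span (Set.range (G ∘ Sum.inl)) ⊔ Ideal.span (Set.range G) ^ 2) :
    _root_.Smoothing.IsStrictlyStandard R (MvPolynomial V R ⧸ Ideal.span (Set.range G)) a := by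
  classical
  let c := Fintype.card L
  let eL : L ≃ Fin c := Fintype.equivFin L
  let eT : T ≃ Fin (Nat.card T) := Finite.equivFin T
  let eV : V ≃ Fin (Fintype.card V) := Fintype.equivFin V
  let eR : L ⊕ T ≃ Fin (c + Nat.card T) := (Equiv.sumCongr eL eT).trans finSumFinEquiv
  let ρ : MvPolynomial V R ≃ₐ[R] MvPolynomial (Fin (Fintype.card V)) R := renameEquiv R eV
  let rel : Fin (c + Nat.card T) → MvPolynomial (Fin (Fintype.card V)) R := fun i => ρ (G (eR.symm i))
  have hker : RingHom.ker ((Ideal.Quotient.mkₐ R (Ideal.span (Set.range G))).comp ρ.symm.toAlgHom).toRingHom =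
      Ideal.span (Set.range rel) := by
    ext x
    have h1 : Ideal.span (Set.range rel) = (Ideal.span (Set.range G)).map ρ := by
      rw [Ideal.map_span, ← Set.range_comp]
      refine congrArg Ideal.span (Set.ext fun z => ⟨?_, ?_⟩)
      · rintro ⟨i, rfl⟩; exact ⟨_, rfl⟩
      · rintro ⟨i, rfl⟩; exact ⟨eR i, by simp [rel]⟩
    rw [h1, Ideal.mem_map_iff_of_surjective _ ρ.surjective]
    show Ideal.Quotient.mk _ (ρ.symm x) = 0 ↔ _
    rw [Ideal.Quotient.eq_zero_iff_mem]
    exact ⟨fun h => ⟨_, h, ρ.apply_symm_apply x⟩, fun ⟨y, hy, hyx⟩ => by rwa [← hyx, ρ.symm_apply_apply]⟩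
  let P : _root_.Smoothing.MarkedPresentation R (MvPolynomial V R ⧸ Ideal.span (Set.range G)) :=
    { n := Fintype.card V
      m := c + Nat.card T
      c := c
      hcn := hLV
      hcm := Nat.le_add_right _ _
      rel := rel
      hom := (Ideal.Quotient.mkₐ R _).comp ρ.symm.toAlgHom
      surj := Ideal.Quotient.mk_surjective.comp ρ.symm.surjective
      ker_eq := hker }
  refine ⟨P, ?_, fun p hp j hj => ?_⟩
  · refine Ideal.span_mono ?_ hminor
    rintro _ ⟨col, rfl⟩
    refine ⟨fun k => eV (col (eL.symm k)), ?_⟩
    have hm : _root_.Smoothing.jacobianMinor P.rel (Fin.castLE P.hcm) (fun k => eV (col (eL.symm k))) =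
        ρ (Matrix.det (Matrix.of fun j k : L => pderiv (col k) (G (Sum.inl j)))) := by
      rw [_root_.Smoothing.jacobianMinor, AlgEquiv.map_det, ← Matrix.det_submatrix_equiv_self eL.symm]
      congr 1
      refine Matrix.ext fun j k => ?_
      have h1 : eR.symm (Fin.castLE P.hcm j) = Sum.inl (eL.symm j) := by
        rw [Equiv.symm_apply_eq]
        ext
        simp [eR]
      simp only [Matrix.of_apply, AlgEquiv.mapMatrix_apply, Matrix.submatrix_apply, Matrix.map_apply, P, rel]
      rw [h1]
      exact pderiv_rename eV.injective _ _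
    show P.hom _ = _
    rw [hm]
    exact congrArg (Ideal.Quotient.mk _) (ρ.symm_apply_apply _)
  · obtain ⟨t, ht⟩ : ∃ t, eR.symm j = Sum.inr t := by
      rcases h : eR.symm j with l | t
      · rw [Equiv.symm_apply_eq] at h
        have : (j : ℕ) < c := by rw [h]; simp [eR]
        exact absurd (lt_of_lt_of_le this (le_of_eq rfl)) (not_lt.mpr hj)
      · exact ⟨t, rfl⟩
    have hk := hkill (ρ.symm p) hp t
    have h2 := Ideal.mem_map_of_mem ρ hk
    rw [map_mul, ρ.apply_symm_apply, Ideal.map_sup, Ideal.map_pow, Ideal.map_span, Ideal.map_span] at h2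
    have hrj : ρ (G (Sum.inr t)) = rel j := by simp only [rel, ht]
    rw [hrj] at h2
    refine SetLike.le_def.mp ?_ h2
    refine sup_le_sup (Ideal.span_mono ?_) (Ideal.pow_right_mono (Ideal.span_mono ?_) 2)
    · rintro _ ⟨_, ⟨l, rfl⟩, rfl⟩
      exact ⟨eR (Sum.inl l), by simp [P, eR], by simp [P, rel]⟩
    · rintro _ ⟨_, ⟨l, rfl⟩, rfl⟩
      exact ⟨eR l, by simp [P, rel]⟩

/-- A basic open where a square minor is invertible is standard smooth. -/
theorem isStandardSmooth_away_of_minor {ι σ : Type} [Finite ι] [Fintype σ] [DecidableEq σ]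
    (F : σ → MvPolynomial ι R) (col : σ → ι) (hcol : Function.Injective col)
    (L : Type u) [CommRing L] [Algebra (MvPolynomial ι R ⧸ Ideal.span (Set.range F)) L] [Algebra R L]
    [IsScalarTower R (MvPolynomial ι R ⧸ Ideal.span (Set.range F)) L]
    [IsLocalization.Away (Ideal.Quotient.mk (Ideal.span (Set.range F))
      (Matrix.det (Matrix.of fun j k : σ => pderiv (col k) (F j)))) L] :
    Algebra.IsStandardSmooth R L := by
  classical
  let Q := Algebra.PreSubmersivePresentation.naive (v := F) col hcol
  let b := Ideal.Quotient.mk (Ideal.span (Set.range F)) (Matrix.det (Matrix.of fun j k : σ => pderiv (col k) (F j)))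
  have hQ : Q.jacobian = b := by
    rw [Algebra.PreSubmersivePresentation.jacobian_eq_jacobiMatrix_det]
    have : Q.jacobiMatrix = (Matrix.of fun j k : σ => pderiv (col k) (F j)).transpose := by
      ext i j
      simp only [Q, Algebra.PreSubmersivePresentation.jacobiMatrix_naive, Matrix.transpose_apply, Matrix.of_apply]
    rw [this, Matrix.det_transpose]
    rfl
  have hbu : IsUnit (algebraMap _ L b) := IsLocalization.Away.algebraMap_isUnit b
  let P : Algebra.SubmersivePresentation R L _ _ :=
    { toPreSubmersivePresentation := .comp (.localizationAway L b) Q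
      jacobian_isUnit := by
        rw [Algebra.PreSubmersivePresentation.comp_jacobian_eq_jacobian_smul_jacobian,
          Algebra.PreSubmersivePresentation.localizationAway_jacobian, Algebra.smul_def, hQ]
        exact hbu.mul hbu }
  exact P.isStandardSmooth

end Groth.L14.Smoothing.Generic
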