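import Groth.Agent.L14.Smoothing.NeronStep
import Groth.Agent.L14.Smoothing.DesingStd
import Mathlib.RingTheory.Smooth.Locus
import Mathlib.RingTheory.FinitePresentation
import Mathlib.RingTheory.Localization.Away.Basic
import Groth.Prelude.Def_BlowUp2

/-!
Smoothness of the Neron blowup at the special point.
-/

set_option autoImplicit false
set_option linter.style.haveILetI false

noncomputable section

open MvPolynomial

namespace Groth.L14.Smoothing.Neron

universe u

/-- A map that becomes bijective after inverting an element pushes smoothness forward. -/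
theorem smooth_away_map {R C D : Type u} [CommRing R] [CommRing C] [Algebra R C]
    [CommRing D] [Algebra R D] (f : C →ₐ[R] D) (e : C) (hsur : ∀ d, ∃ (k : ℕ) (c : C), f c = f e ^ k * d)
    (hker : ∀ c, f c = 0 → ∃ k : ℕ, e ^ k * c = 0) [Algebra.Smooth R (Localization.Away e)] :
    Algebra.Smooth R (Localization.Away (f e)) := by
  let L := Localization.Away (f e)
  have hu : IsUnit ((algebraMap D L) (f e)) := IsLocalization.Away.algebraMap_isUnit (f e)
  have hpow : ∀ y : Submonoid.powers e, IsUnit (((IsScalarTower.toAlgHom R D L).comp f) y) := by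
    rintro ⟨_, k, rfl⟩
    show IsUnit (algebraMap D L (f (e ^ k)))
    rw [map_pow, map_pow]
    exact hu.pow k
  let F : Localization.Away e →ₐ[R] L := IsLocalization.liftAlgHom (M := Submonoid.powers e) hpow
  have hF : ∀ c, F (algebraMap C _ c) = algebraMap D L (f c) := fun c => by
    show IsLocalization.liftAlgHom hpow (algebraMap C _ c) = _
    rw [IsLocalization.liftAlgHom_apply, IsLocalization.lift_eq]
    rfl
  have hbij : Function.Bijective F := by
    refine ⟨(injective_iff_map_eq_zero _).mpr fun x hx => ?_, fun y => ?_⟩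
    · obtain ⟨⟨c, s⟩, hc⟩ := IsLocalization.surj (Submonoid.powers e) x
      have h0 : algebraMap D L (f c) = 0 := by rw [← hF, ← hc, map_mul, hx, zero_mul]
      obtain ⟨⟨_, k, rfl⟩, hk⟩ := (IsLocalization.map_eq_zero_iff (Submonoid.powers (f e)) L _).mp h0
      obtain ⟨j, hj⟩ := hker (e ^ k * c) (by rw [map_mul, map_pow]; exact hk)
      have h1 : algebraMap C (Localization.Away e) c = 0 := by
        refine (IsLocalization.map_eq_zero_iff (Submonoid.powers e) _ _).mpr ⟨⟨e ^ (j + k), j + k, rfl⟩, ?_⟩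
        show e ^ (j + k) * c = 0
        rw [pow_add, mul_assoc, hj]
      exact (IsLocalization.map_units (Localization.Away e) s).mul_left_eq_zero.mp (hc.trans h1)
    · obtain ⟨n, d, hd⟩ := IsLocalization.Away.surj (f e) y
      obtain ⟨k, c, hc⟩ := hsur d
      refine ⟨algebraMap C _ c * IsLocalization.Away.invSelf e ^ (k + n), ?_⟩
      have hi : algebraMap D L (f e) * F (IsLocalization.Away.invSelf e) = 1 := by
        rw [← hF, ← map_mul, IsLocalization.Away.mul_invSelf, map_one]
      rw [map_mul, hF, map_pow, hc, map_mul, map_pow, ← hd,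
        show algebraMap D L (f e) ^ k * (y * algebraMap D L (f e) ^ n) * F (IsLocalization.Away.invSelf e) ^ (k + n) =
          y * (algebraMap D L (f e) * F (IsLocalization.Away.invSelf e)) ^ (k + n) by ring, hi, one_pow, mul_one]
  exact Algebra.Smooth.of_equiv (AlgEquiv.ofBijective F hbij)

/-- At a smooth point the differentials of the relations are a direct summand. -/
theorem saturated_of_smooth {R A Λ : Type u} [CommRing R] [CommRing A] [Algebra R A] [CommRing Λ] [IsDomain Λ]
    [IsLocalRing Λ] {ι : Type} [Fintype ι] (q : MvPolynomial ι R →ₐ[R] A) (hq : Function.Surjective q) (φ : A →+* Λ)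
    [Algebra.IsSmoothAt R ((IsLocalRing.maximalIdeal Λ).comap φ)] (a : Λ) (ha : a ≠ 0) (w : ι → Λ)
    (hw : a • w ∈ Submodule.span Λ (dAt (φ.comp q.toRingHom) '' {b | q b = 0})) :
    w ∈ Submodule.span Λ (dAt (φ.comp q.toRingHom) '' {b | q b = 0}) := by
  classical
  let p := (IsLocalRing.maximalIdeal Λ).comap φ
  let p' := p.comap q.toRingHom
  let P := Localization.AtPrime p'
  let S := Localization.AtPrime p
  let ψ := φ.comp q.toRingHom
  let M := Submodule.span Λ (dAt ψ '' {b | q b = 0})
  have hu : ∀ y : p'.primeCompl, IsUnit (((IsScalarTower.toAlgHom R A S).comp q) y.1) :=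
    fun y => IsLocalization.map_units S (⟨q y.1, y.2⟩ : p.primeCompl)
  let h : P →ₐ[R] S := IsLocalization.liftAlgHom (M := p'.primeCompl) hu
  have hh : ∀ x, h (algebraMap _ P x) = algebraMap A S (q x) := fun x => IsLocalization.lift_eq _ x
  have hsur : Function.Surjective h := fun y => by
    obtain ⟨⟨c, d⟩, hcd⟩ := IsLocalization.surj p.primeCompl y
    obtain ⟨c', rfl⟩ := hq c
    obtain ⟨d', hd'⟩ := hq d.1
    have hdq : d' ∈ p'.primeCompl := by
      show ¬ q.toRingHom d' ∈ p
      rw [show q.toRingHom d' = q d' from rfl, hd']; exact d.2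
    refine ⟨IsLocalization.mk' P c' ⟨d', hdq⟩, ?_⟩
    have h1 : h (IsLocalization.mk' P c' ⟨d', hdq⟩) * algebraMap A S d.1 = algebraMap A S (q c') := by
      rw [← hd', ← hh, ← map_mul, IsLocalization.mk'_spec, hh]
    rw [← hcd] at h1
    exact (IsLocalization.map_units S d).mul_right_cancel h1
  obtain ⟨u, hu0, hsec⟩ := exists_jacobian_section (IsScalarTower.toAlgHom R (MvPolynomial ι R) P) h hsur
  have hψu : ∀ s ∈ p'.primeCompl, IsUnit (ψ s) := fun s hs => by
    by_contra hn
    exact hs hn
  have hkerI : RingHom.ker h = (RingHom.ker q).map (algebraMap (MvPolynomial ι R) P) := by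
    refine le_antisymm (fun z hz => ?_) ?_
    · obtain ⟨⟨c, d⟩, hcd⟩ := IsLocalization.surj p'.primeCompl z
      have h0 : algebraMap A S (q c) = 0 := by rw [← hh, ← hcd, map_mul, RingHom.mem_ker.mp hz, zero_mul]
      obtain ⟨⟨t, ht⟩, htc⟩ := (IsLocalization.map_eq_zero_iff p.primeCompl S _).mp h0
      obtain ⟨t', rfl⟩ := hq t
      have h3 : algebraMap _ P (t' * c) ∈ (RingHom.ker q).map (algebraMap (MvPolynomial ι R) P) :=
        Ideal.mem_map_of_mem _ (show t' * c ∈ RingHom.ker q by rw [RingHom.mem_ker, map_mul]; exact htc)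
      rw [map_mul, ← hcd, mul_left_comm] at h3
      exact (Ideal.unit_mul_mem_iff_mem _ ((IsLocalization.map_units P (⟨t', ht⟩ : p'.primeCompl)).mul
        (IsLocalization.map_units P d))).mp (by convert h3 using 1; ring)
    · rw [Ideal.map_le_iff_le_comap]
      intro x hx
      show h (algebraMap _ P x) = 0
      rw [hh, RingHom.mem_ker.mp hx, map_zero]
  have hclear : ∀ i, ∃ (c : MvPolynomial ι R) (s : p'.primeCompl), q c = 0 ∧
      u i * algebraMap _ P (s : MvPolynomial ι R) = algebraMap _ P c := fun i => by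
    have : u i ∈ (RingHom.ker q).map (algebraMap (MvPolynomial ι R) P) := hkerI ▸ hu0 i
    obtain ⟨⟨c, s⟩, hc⟩ := (IsLocalization.mem_map_algebraMap_iff p'.primeCompl P).mp this
    exact ⟨c, s, c.2, hc⟩
  choose c s hc0 hcs using hclear
  choose v hv using fun i => (hψu _ (s i).2).exists_left_inv
  let T : (ι → Λ) →ₗ[Λ] (ι → Λ) := Fintype.linearCombination Λ fun i => v i • dAt ψ (c i)
  have hTM : ∀ z, T z ∈ M := fun z => by
    rw [Fintype.linearCombination_apply]
    exact Submodule.sum_mem _ fun i _ => Submodule.smul_mem _ _ (Submodule.smul_mem _ _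
      (Submodule.subset_span ⟨c i, hc0 i, rfl⟩))
  have hsq0 : ∀ b ∈ RingHom.ker q ^ 2, ψ b = 0 ∧ dAt ψ b = 0 := fun b hb => by
    rw [pow_two] at hb
    refine Submodule.mul_induction_on hb (fun x hx y hy => ?_) (fun x y hx hy => ?_)
    · have hx0 : ψ x = 0 := by show φ (q x) = 0; rw [RingHom.mem_ker.mp hx, map_zero]
      have hy0 : ψ y = 0 := by show φ (q y) = 0; rw [RingHom.mem_ker.mp hy, map_zero]
      exact ⟨by rw [map_mul, hx0, zero_mul], by rw [dAt_mul, hx0, hy0, zero_smul, zero_smul, add_zero]⟩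
    · exact ⟨by rw [map_add, hx.1, hy.1, add_zero], by rw [dAt_add, hx.2, hy.2, add_zero]⟩
  have hfix : ∀ f, q f = 0 → T (dAt ψ f) = dAt ψ f := by
    intro f hf
    have h1 := hsec f (show h (algebraMap _ P f) = 0 by rw [hh, hf, map_zero])
    rw [hkerI, ← Ideal.map_pow] at h1
    let σ : MvPolynomial ι R := ∏ i, (s i : MvPolynomial ι R)
    let σ' : ι → MvPolynomial ι R := fun i => ∏ j ∈ Finset.univ.erase i, (s j : MvPolynomial ι R)
    have hσ : ∀ i, σ = (s i : MvPolynomial ι R) * σ' i := fun i =>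
      (Finset.mul_prod_erase _ (fun j => (s j : MvPolynomial ι R)) (Finset.mem_univ i)).symm
    let E := σ * f - ∑ i, pderiv i f * σ' i * c i
    have h2 : algebraMap _ P E ∈ (RingHom.ker q ^ 2).map (algebraMap (MvPolynomial ι R) P) := by
      convert Ideal.mul_mem_left _ (algebraMap _ P σ) h1 using 1
      rw [mul_sub, Finset.mul_sum]
      simp only [E, map_sub, map_mul, map_sum, IsScalarTower.coe_toAlgHom']
      congr 1
      refine Finset.sum_congr rfl fun i _ => ?_
      rw [hσ i, map_mul, ← hcs i]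
      ring
    obtain ⟨t, ht, htE⟩ := (IsLocalization.algebraMap_mem_map_algebraMap_iff p'.primeCompl P _ _).mp h2
    obtain ⟨h3, h4⟩ := hsq0 _ htE
    have hψ0 : ∀ b, q b = 0 → ψ b = 0 := fun b hb => by show φ (q b) = 0; rw [hb, map_zero]
    have hE0 : ψ E = 0 := by
      simp only [E, map_sub, map_mul, map_sum, hψ0 f hf, hψ0 _ (hc0 _), mul_zero, Finset.sum_const_zero, sub_zero]
    rw [dAt_mul, hE0, zero_smul, add_zero] at h4
    have h5 : dAt ψ E = 0 := (smul_eq_zero.mp h4).resolve_left (hψu t ht).ne_zero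
    have hprod : ∀ i, dAt ψ (pderiv i f * σ' i * c i) = (ψ (pderiv i f) * ψ (σ' i)) • dAt ψ (c i) := fun i => by
      rw [dAt_mul, hψ0 _ (hc0 i), zero_smul, add_zero, map_mul]
    simp only [E, dAt_sub, dAt_sum, hprod] at h5
    rw [dAt_mul, hψ0 f hf, zero_smul, add_zero, sub_eq_zero] at h5
    have hσu : IsUnit (ψ σ) := by
      rw [map_prod]
      exact IsUnit.prod_iff.mpr fun i _ => hψu _ (s i).2
    apply hσu.smul_left_cancel.mp
    rw [h5, Fintype.linearCombination_apply, Finset.smul_sum]
    refine Finset.sum_congr rfl fun i _ => ?_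
    rw [smul_smul, smul_smul]
    congr 1
    rw [hσ i, map_mul, show dAt ψ f i = ψ (pderiv i f) from rfl,
      show ψ ↑(s i) * ψ (σ' i) * ψ (pderiv i f) * v i = (v i * ψ ↑(s i)) * (ψ (pderiv i f) * ψ (σ' i)) by ring,
      hv, one_mul]
  have hMfix : ∀ m ∈ M, T m = m := fun m hm => by
    induction hm using Submodule.span_induction with
    | mem z hz => obtain ⟨f, hf, rfl⟩ := hz; exact hfix f hf
    | zero => exact map_zero T
    | add x y _ _ hx hy => rw [map_add, hx, hy]
    | smul r x _ hx => rw [map_smul, hx]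
  have := hMfix _ hw
  rw [map_smul] at this
  rw [← smul_right_injective _ ha this]
  exact hTM w

section Generic

variable {R Λ A A' : Type u} [CommRing R] [IsDomain R] [IsDiscreteValuationRing R]
  [CommRing Λ] [IsDomain Λ] [IsDiscreteValuationRing Λ] [Algebra R Λ]
  [CommRing A] [Algebra R A] [Algebra A Λ] [IsScalarTower R A Λ] [CommRing A'] [Algebra R A'] [Algebra A A']
  [IsScalarTower R A A']

theorem rel_mem_ker {n0 n : ℕ} (π : R) (q : MvPolynomial (Fin n0) R →ₐ[R] A) (g : Fin n → MvPolynomial (Fin n0) R)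
    (G : MvPolynomial (Fin n0 ⊕ Fin n) R →ₐ[R] A') (hGinl : ∀ b, G (rename Sum.inl b) = algebraMap A A' (q b))
    (hGy : ∀ j, algebraMap A A' (algebraMap R A π) * G (X (Sum.inr j)) = algebraMap A A' (q (g j))) :
    Ideal.span (Set.range (rel π g)) ≤ RingHom.ker G := by
  rw [Ideal.span_le]
  rintro _ ⟨j, rfl⟩
  show G (rel π g j) = 0
  rw [rel, map_sub, map_mul, show G (C π) = algebraMap R A' π from G.commutes π,
    IsScalarTower.algebraMap_apply R A A', hGinl, hGy, sub_self]

theorem isSmoothAt_blowup_generic {n0 n : ℕ} (π : R) (hπ0 : algebraMap R Λ π ≠ 0)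
    [Algebra.FinitePresentation R A] [Algebra.FinitePresentation R A']
    [Algebra.IsSmoothAt R ((IsLocalRing.maximalIdeal Λ).comap (algebraMap A Λ))]
    (q : MvPolynomial (Fin n0) R →ₐ[R] A) (g : Fin n → MvPolynomial (Fin n0) R)
    (G : MvPolynomial (Fin n0 ⊕ Fin n) R →ₐ[R] A') (hGsur : Function.Surjective G)
    (hJ : Ideal.span (Set.range (rel π g)) ≤ RingHom.ker G)
    (hGinl : ∀ b, G (rename Sum.inl b) = algebraMap A A' (q b))
    (hinj : Function.Injective (algebraMap A A')) (φ' : A' →ₐ[A] Λ) [(RingHom.ker φ'.toRingHom).IsPrime] :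
    Algebra.IsSmoothAt R (RingHom.ker φ'.toRingHom) := by
  let aπ := algebraMap R A π
  let p := (IsLocalRing.maximalIdeal Λ).comap (algebraMap A Λ)
  have hφA : ∀ a, φ' (algebraMap A A' a) = algebraMap A Λ a := φ'.commutes
  have hGπ : G (C π) = algebraMap A A' aπ := by
    rw [show G (C π) = algebraMap R A' π from G.commutes π, IsScalarTower.algebraMap_apply R A A']
  obtain ⟨t, ht, hts⟩ := Algebra.IsSmoothAt.exists_notMem_smooth R p
  haveI := hts
  haveI : Algebra.Smooth R (Localization.Away (t * aπ)) := Desing.smooth_away_of_mem_singularIdeal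
    (Ideal.mul_mem_right _ _ (Desing.mem_singularIdeal_of_smooth (D := A) (d := t) hts))
  haveI := smooth_away_map (IsScalarTower.toAlgHom R A A') (t * aπ) (fun d => by
    obtain ⟨e, rfl⟩ := hGsur d
    obtain ⟨N, b, hb⟩ := exists_congr π g e
    refine ⟨N, t ^ N * q b, ?_⟩
    have h1 : G (C π ^ N * e - rename Sum.inl b) = 0 := hJ hb
    rw [map_sub, sub_eq_zero, map_mul, map_pow, hGπ, hGinl] at h1
    show algebraMap A A' (t ^ N * q b) = algebraMap A A' (t * aπ) ^ N * G e
    rw [map_mul, ← h1, map_pow, map_mul, mul_pow, mul_assoc])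
    (fun c hc => ⟨0, by rw [hinj (hc.trans (map_zero (algebraMap A A')).symm), mul_zero]⟩)
  refine Algebra.basicOpen_subset_smoothLocus_iff_smooth.mpr this
    (show (⟨RingHom.ker φ'.toRingHom, inferInstance⟩ : PrimeSpectrum A') ∈
      PrimeSpectrum.basicOpen (algebraMap A A' (t * aπ)) from fun h => ?_)
  have h0 : φ' (algebraMap A A' (t * aπ)) = 0 := h
  rw [hφA, map_mul] at h0
  rcases mul_eq_zero.mp h0 with h1 | h1
  · exact ht (Ideal.mem_comap.mpr (by rw [h1]; exact zero_mem _))
  · exact hπ0 (by rwa [IsScalarTower.algebraMap_apply R A Λ])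

/-- Smoothness at the special point of a presented blowup. -/
theorem isSmoothAt_of_blowupData [IsLocalHom (algebraMap R Λ)] {n0 n : ℕ} (π : R) (H : SepPoint R (Λ := Λ) π)
    (hπ0 : algebraMap R Λ π ≠ 0)
    [Algebra.FinitePresentation R A] [Algebra.FinitePresentation R A']
    [Algebra.IsSmoothAt R ((IsLocalRing.maximalIdeal Λ).comap (algebraMap A Λ))]
    (q : MvPolynomial (Fin n0) R →ₐ[R] A) (hq : Function.Surjective q) (x : Fin n0 → Λ)
    (hxX : ∀ i, x i = algebraMap A Λ (q (X i)))
    (g : Fin n → MvPolynomial (Fin n0) R) (hg : ∀ a, a ∈ Ideal.span (Set.range g) ↔ ¬ IsUnit (evH R x a))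
    (G : MvPolynomial (Fin n0 ⊕ Fin n) R →ₐ[R] A') (hGsur : Function.Surjective G)
    (hGinl : ∀ b, G (rename Sum.inl b) = algebraMap A A' (q b))
    (hGy : ∀ j, algebraMap A A' (algebraMap R A π) * G (X (Sum.inr j)) = algebraMap A A' (q (g j)))
    (hinj : Function.Injective (algebraMap A A'))
    (htf : ∀ z : A', algebraMap A A' (algebraMap R A π) * z = 0 → z = 0)
    (φ' : A' →ₐ[A] Λ) : Algebra.IsSmoothAt R ((IsLocalRing.maximalIdeal Λ).comap φ'.toRingHom) := by
  have hJ := rel_mem_ker π q g G hGinl hGy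
  haveI : (RingHom.ker φ'.toRingHom).IsPrime := RingHom.ker_isPrime _
  have hq' := isSmoothAt_blowup_generic π hπ0 q g G hGsur hJ hGinl hinj φ'
  have hφA : ∀ a, φ' (algebraMap A A' a) = algebraMap A Λ a := φ'.commutes
  have hGπ : G (C π) = algebraMap A A' (algebraMap R A π) := by
    rw [show G (C π) = algebraMap R A' π from G.commutes π, IsScalarTower.algebraMap_apply R A A']
  let y : Fin n → Λ := fun j => φ' (G (X (Sum.inr j)))
  have hψ : (algebraMap A Λ).comp q.toRingHom = evH R x := by
    have h1 : (IsScalarTower.toAlgHom R A Λ).comp q = MvPolynomial.aeval x :=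
      MvPolynomial.algHom_ext fun i => by simp [hxX]
    exact congrArg AlgHom.toRingHom h1
  have hx : ∀ b, evH R x b = algebraMap A Λ (q b) := fun b => (RingHom.congr_fun hψ b).symm
  have hy : ∀ j, algebraMap R Λ π * y j = evH R x (g j) := fun j => by
    rw [hx, IsScalarTower.algebraMap_apply R A Λ, ← hφA (algebraMap R A π), ← hφA, ← map_mul, hGy]
  obtain ⟨ϖ, hϖ⟩ := IsDiscreteValuationRing.exists_irreducible Λ
  refine isSmoothAt_of_saturated G hGsur φ'.toRingHom hq' ϖ hϖ fun w hw => ?_
  have hψ' : φ'.toRingHom.comp G.toRingHom = evH R (Sum.elim x y) := by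
    have h1 : (φ'.restrictScalars R).comp G = MvPolynomial.aeval (Sum.elim x y) :=
      MvPolynomial.algHom_ext fun i => by
        cases i with
        | inl i =>
          have h2 := hGinl (X i)
          rw [rename_X] at h2
          simp only [AlgHom.comp_apply, AlgHom.restrictScalars_apply, h2, aeval_X, Sum.elim_inl]
          rw [hφA, hxX]
        | inr j => simp [y]
    exact congrArg AlgHom.toRingHom h1
  rw [hψ'] at hw ⊢
  let MA := Submodule.span Λ (dAt (evH R x) '' {b | q b = 0})
  have hsat : ∀ (a : Λ), a ≠ 0 → ∀ v, a • v ∈ MA → v ∈ MA := fun a ha v hv => by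
    have := saturated_of_smooth q hq (algebraMap A Λ) a ha v
    rw [hψ] at this
    exact this hv
  let M' := Submodule.span Λ (dAt (evH R (Sum.elim x y)) '' {e | G e = 0})
  have hμle : ∀ v ∈ M', muX π x g v ∈ MA := by
    intro v hv
    induction hv using Submodule.span_induction with
    | mem v hv =>
      obtain ⟨e, he, rfl⟩ := hv
      obtain ⟨N, b, hb⟩ := exists_congr π g e
      have hqb : q b = 0 := by
        have h1 : G (C π ^ N * e - rename Sum.inl b) = 0 := hJ hb
        rw [map_sub, map_mul, show G e = 0 from he, mul_zero, zero_sub, neg_eq_zero, hGinl] at h1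
        exact hinj (h1.trans (map_zero (algebraMap A A')).symm)
      refine hsat _ (pow_ne_zero N hπ0) _ ?_
      rw [(of_congr π x g y hy hb).2]
      exact Submodule.smul_mem _ _ (Submodule.subset_span ⟨b, hqb, rfl⟩)
    | zero => rw [map_zero]; exact zero_mem _
    | add a b _ _ ha hb => rw [map_add]; exact add_mem ha hb
    | smul r a _ ha => rw [map_smul]; exact Submodule.smul_mem _ _ ha
  have hMA : MA ≤ M'.map (muX π x g) := by
    rw [Submodule.span_le]
    rintro _ ⟨f, hf, rfl⟩
    obtain ⟨e, he⟩ := exists_lift_of_mem π g ((hg f).mpr (by rw [hx, show q f = 0 from hf, map_zero]; exact not_isUnit_zero))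
    obtain ⟨-, h2⟩ := of_congr π x g y hy (N := 1) (by rw [pow_one]; exact he)
    rw [pow_one] at h2
    refine ⟨_, Submodule.subset_span ⟨e, ?_, rfl⟩, smul_right_injective _ hπ0 h2⟩
    have h1 : G (C π * e - rename Sum.inl f) = 0 := hJ he
    rw [map_sub, map_mul, hGinl, show q f = 0 from hf, map_zero, sub_zero, hGπ] at h1
    exact htf _ h1
  have h1 : muX π x g w ∈ MA := hsat ϖ hϖ.ne_zero _ (by rw [← map_smul]; exact hμle _ hw)
  obtain ⟨w', hw', hww⟩ := hMA h1
  have h2 := mem_span_of_mu_eq_zero π x g y hy hg H hπ0 (RingHom.ker G) hJ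
    (fun e he => htf _ (by rw [← hGπ, ← map_mul]; exact he)) (w - w') (by rw [map_sub, hww, sub_self])
  have := Submodule.add_mem _ h2 hw'
  rwa [sub_add_cancel] at this

end Generic

/-- The Neron blowup is smooth at the special point. -/
theorem isSmoothAt_affineAlgebra {R Λ A : Type u} [CommRing R] [IsDomain R] [IsDiscreteValuationRing R]
    [CommRing Λ] [IsDomain Λ] [IsDiscreteValuationRing Λ] [Algebra R Λ] [IsLocalHom (algebraMap R Λ)]
    [CommRing A] [Algebra R A] [Module.Flat R A] [Algebra.FiniteType R A] [Algebra A Λ] [IsScalarTower R A Λ]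
    (π : R) (H : SepPoint R (Λ := Λ) π) (hπ0 : algebraMap R Λ π ≠ 0)
    [hsm : Algebra.IsSmoothAt R ((IsLocalRing.maximalIdeal Λ).comap (algebraMap A Λ))]
    (φ' : BlowUp.affineAlgebra A ((IsLocalRing.maximalIdeal Λ).comap (algebraMap A Λ)) (algebraMap R A π) →ₐ[A] Λ) :
    Algebra.IsSmoothAt R ((IsLocalRing.maximalIdeal Λ).comap φ'.toRingHom) := by
  classical
  let aπ := algebraMap R A π
  let p := (IsLocalRing.maximalIdeal Λ).comap (algebraMap A Λ)
  let A' := BlowUp.affineAlgebra A p aπ
  let Aπ := Localization.Away aπ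
  have hπA : IsUnit (algebraMap A Aπ aπ) := IsLocalization.Away.algebraMap_isUnit aπ
  have hinjA : Function.Injective (algebraMap A Aπ) := by
    refine IsLocalization.injective (M := Submonoid.powers aπ) Aπ (fun z hz => ?_)
    obtain ⟨k, rfl⟩ := hz
    refine mem_nonZeroDivisors_iff_right.mpr fun x hx => ?_
    have hπk : π ^ k ∈ nonZeroDivisors R := mem_nonZeroDivisors_of_ne_zero (pow_ne_zero _ fun h => hπ0 (by rw [h, map_zero]))
    have h1 : IsSMulRegular A (π ^ k) := Module.Flat.isSMulRegular_of_nonZeroDivisors hπk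
    refine h1 ?_
    show π ^ k • x = π ^ k • (0 : A)
    rw [smul_zero, Algebra.smul_def, map_pow, mul_comm]
    exact hx
  have hinj : Function.Injective (algebraMap A A') := fun a b h => hinjA (congrArg (fun z : A' => (z : Aπ)) h)
  have htf : ∀ z : A', algebraMap A A' aπ * z = 0 → z = 0 := fun z hz => by
    apply Subtype.ext
    have := congrArg (fun z : A' => (z : Aπ)) hz
    exact (hπA.mul_right_eq_zero).mp this
  obtain ⟨n0, q, hq⟩ := Algebra.FiniteType.iff_quotient_mvPolynomial''.mp (inferInstance : Algebra.FiniteType R A)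
  let x : Fin n0 → Λ := fun i => algebraMap A Λ (q (X i))
  have hx : ∀ b, evH R x b = algebraMap A Λ (q b) := fun b => by
    have h1 : (IsScalarTower.toAlgHom R A Λ).comp q = MvPolynomial.aeval x :=
      MvPolynomial.algHom_ext fun i => by simp [x]
    exact (AlgHom.congr_fun h1 b).symm
  let p' := p.comap q.toRingHom
  obtain ⟨n, g, hgp⟩ := Submodule.fg_iff_exists_fin_generating_family.mp (IsNoetherian.noetherian p')
  have hgspan : Ideal.span (Set.range g) = p' := hgp
  have hg : ∀ a, a ∈ Ideal.span (Set.range g) ↔ ¬ IsUnit (evH R x a) := fun a => by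
    rw [hgspan, hx]
    exact IsLocalRing.mem_maximalIdeal _
  have hgp' : ∀ j, q (g j) ∈ p := fun j => (hgspan ▸ Ideal.subset_span ⟨j, rfl⟩ : g j ∈ p')
  let y' : Fin n → A' := fun j => ⟨IsLocalization.mk' Aπ (q (g j)) (⟨aπ, Submonoid.mem_powers aπ⟩ : Submonoid.powers aπ),
    Algebra.subset_adjoin ⟨q (g j), hgp' j, rfl⟩⟩
  have hy' : ∀ j, algebraMap A A' aπ * y' j = algebraMap A A' (q (g j)) := fun j => by
    apply Subtype.ext
    show algebraMap A Aπ aπ * IsLocalization.mk' Aπ (q (g j)) _ = algebraMap A Aπ (q (g j))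
    rw [mul_comm]
    exact IsLocalization.mk'_spec Aπ (q (g j)) (⟨aπ, Submonoid.mem_powers aπ⟩ : Submonoid.powers aπ)
  let G : MvPolynomial (Fin n0 ⊕ Fin n) R →ₐ[R] A' :=
    MvPolynomial.aeval (Sum.elim (fun i => algebraMap A A' (q (X i))) y')
  have hGinl : ∀ b, G (rename Sum.inl b) = algebraMap A A' (q b) := fun b => by
    have h1 : G.comp (rename Sum.inl) = (IsScalarTower.toAlgHom R A A').comp q :=
      MvPolynomial.algHom_ext fun i => by simp [G]
    exact AlgHom.congr_fun h1 b
  have hGπ : G (C π) = algebraMap A A' aπ := by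
    rw [show G (C π) = algebraMap R A' π from G.commutes π, IsScalarTower.algebraMap_apply R A A']
  have hGsur : Function.Surjective G := by
    rintro ⟨z, hz⟩
    induction hz using Algebra.adjoin_induction with
    | mem z hz =>
      obtain ⟨a, ha, rfl⟩ := hz
      obtain ⟨a', rfl⟩ := hq a
      obtain ⟨c, hc⟩ := Ideal.mem_span_range_iff_exists_fun.mp (hgspan.symm ▸ (show a' ∈ p' from ha))
      refine ⟨∑ j, rename Sum.inl (c j) * X (Sum.inr j), ?_⟩
      have hπz : algebraMap A A' aπ * G (∑ j, rename Sum.inl (c j) * X (Sum.inr j)) = algebraMap A A' (q a') := by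
        rw [← hc, map_sum, Finset.mul_sum, map_sum, map_sum]
        refine Finset.sum_congr rfl fun j _ => ?_
        rw [map_mul, hGinl, map_mul, map_mul, ← hy', show G (X (Sum.inr j)) = y' j by simp [G]]
        ring
      apply Subtype.ext
      apply hπA.mul_left_cancel
      show _ = algebraMap A Aπ aπ * IsLocalization.mk' Aπ (q a') _
      rw [mul_comm (algebraMap A Aπ aπ) (IsLocalization.mk' Aπ (q a') _), IsLocalization.mk'_spec]
      exact congrArg (fun z : A' => (z : Aπ)) hπz
    | algebraMap r =>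
      obtain ⟨r', rfl⟩ := hq r
      exact ⟨rename Sum.inl r', hGinl r'⟩
    | add z w _ _ hz hw =>
      obtain ⟨e, he⟩ := hz
      obtain ⟨e', he'⟩ := hw
      exact ⟨e + e', by rw [map_add, he, he']; rfl⟩
    | mul z w _ _ hz hw =>
      obtain ⟨e, he⟩ := hz
      obtain ⟨e', he'⟩ := hw
      exact ⟨e * e', by rw [map_mul, he, he']; rfl⟩
  haveI : Algebra.FiniteType R A' := Algebra.FiniteType.of_surjective G hGsur
  haveI : Algebra.FinitePresentation R A' := Algebra.FinitePresentation.of_finiteType.mp inferInstance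
  haveI : Algebra.FinitePresentation R A := Algebra.FinitePresentation.of_finiteType.mp inferInstance
  exact isSmoothAt_of_blowupData π H hπ0 q hq x (fun i => rfl) g hg G hGsur hGinl
    (fun j => by rw [show G (X (Sum.inr j)) = y' j by simp [G]]; exact hy' j) hinj htf φ'

end Groth.L14.Smoothing.Neron
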