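import Groth.Agent.L14.Smoothing.NeronStep
import Mathlib.RingTheory.Smooth.Basic
import Mathlib.RingTheory.Localization.FractionRing
import Mathlib.RingTheory.Polynomial.Basic
import Mathlib.RingTheory.FinitePresentation

/-!
Neron desingularization for extensions of discrete valuation rings.
-/

set_option autoImplicit false
set_option linter.style.haveILetI false

noncomputable section

open MvPolynomial

namespace Groth.L14.Smoothing.Neron

universe u

variable {R Λ : Type u} [CommRing R] [CommRing Λ] [Algebra R Λ]

/-- A finitely generated subalgebra of a separable extension is smooth at the generic point. -/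
theorem isSmoothAt_generic [IsDomain R] [IsDomain Λ] {K L : Type u} [Field K] [Algebra R K] [IsFractionRing R K]
    [Field L] [Algebra Λ L] [IsFractionRing Λ L] [Algebra K L] [Algebra R L] [IsScalarTower R K L]
    [IsScalarTower R Λ L] [Algebra.IsGeometricallyReduced K L] (hinj : Function.Injective (algebraMap R Λ))
    (A : Subalgebra R Λ) (q : Ideal A) [q.IsPrime] (hq : q = ⊥) : Algebra.IsSmoothAt R q := by
  let F := FractionRing A
  have hAL : Function.Injective ((algebraMap Λ L).comp A.val.toRingHom) :=
    (IsFractionRing.injective Λ L).comp Subtype.val_injective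
  let toL : F →+* L := IsFractionRing.lift hAL
  have htoL : ∀ a : A, toL (algebraMap A F a) = algebraMap Λ L a := fun a => IsFractionRing.lift_algebraMap hAL a
  have hRA : Function.Injective (algebraMap R A) := fun a b h => hinj (congrArg (fun z : A => (z : Λ)) h)
  have hRF : Function.Injective (algebraMap R F) := by
    rw [IsScalarTower.algebraMap_eq R A F]
    exact (IsFractionRing.injective A F).comp hRA
  letI : Algebra K F := (IsFractionRing.lift hRF : K →+* F).toAlgebra
  haveI : IsScalarTower R K F := IsScalarTower.of_algebraMap_eq fun r => by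
    rw [RingHom.algebraMap_toAlgebra, IsFractionRing.lift_algebraMap]
  have hc : toL.comp (algebraMap K F) = algebraMap K L := IsLocalization.ringHom_ext (nonZeroDivisors R) (by
    ext r
    simp only [RingHom.comp_apply, ← IsScalarTower.algebraMap_apply]
    rw [IsScalarTower.algebraMap_apply R A F, htoL, IsScalarTower.algebraMap_apply R Λ L]
    rfl)
  let toLA : F →ₐ[K] L := { toL with commutes' := fun k => RingHom.congr_fun hc k }
  haveI : Algebra.IsGeometricallyReduced K F := Algebra.IsGeometricallyReduced.of_injective toLA toL.injective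
  haveI : Algebra.FormallySmooth K F := Groth.L06.FormSmooth.formallySmooth_of_geometricallyReduced K F
  haveI : Algebra.FormallySmooth R K := Algebra.FormallySmooth.of_isLocalization (nonZeroDivisors R)
  haveI : Algebra.FormallySmooth R F := Algebra.FormallySmooth.comp R K F
  have hM : q.primeCompl = nonZeroDivisors A := by
    ext a
    rw [mem_nonZeroDivisors_iff_ne_zero]
    subst hq
    exact not_congr (Submodule.mem_bot A)
  haveI : IsLocalization q.primeCompl F := by rw [hM]; infer_instance
  let e : F ≃ₐ[R] Localization.AtPrime q :=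
    ((IsLocalization.algEquiv q.primeCompl F (Localization.AtPrime q)).restrictScalars R)
  exact Algebra.FormallySmooth.of_equiv (A := F) e

/-- Smooth factorization at a saturated point. -/
theorem exists_smooth_of_saturated [IsDomain R] [IsDiscreteValuationRing R] [IsDomain Λ] [IsDiscreteValuationRing Λ]
    {K L : Type u} [Field K] [Algebra R K] [IsFractionRing R K]
    [Field L] [Algebra Λ L] [IsFractionRing Λ L] [Algebra K L] [Algebra R L] [IsScalarTower R K L]
    [IsScalarTower R Λ L] [Algebra.IsGeometricallyReduced K L] (hinj : Function.Injective (algebraMap R Λ))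
    {ι : Type} [Fintype ι] (x : ι → Λ) (ϖ : Λ) (hϖ : Irreducible ϖ)
    (hsat : ∀ w : ι → Λ, ϖ • w ∈ relDiff (R := R) x → w ∈ relDiff (R := R) x) :
    ∃ (B : Type u) (_ : CommRing B) (_ : Algebra R B), Algebra.Smooth R B ∧
      ∃ (g : (MvPolynomial.aeval x : MvPolynomial ι R →ₐ[R] Λ).range →ₐ[R] B) (h : B →ₐ[R] Λ),
        ∀ a, h (g a) = a := by
  let A := (MvPolynomial.aeval x : MvPolynomial ι R →ₐ[R] Λ).range
  let g0 : MvPolynomial ι R →ₐ[R] A := (MvPolynomial.aeval x : MvPolynomial ι R →ₐ[R] Λ).rangeRestrict
  have hg0 : Function.Surjective g0 := AlgHom.rangeRestrict_surjective _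
  let φ : A →+* Λ := A.val.toRingHom
  haveI : (RingHom.ker φ).IsPrime := RingHom.ker_isPrime φ
  have hker : RingHom.ker φ = ⊥ := (RingHom.injective_iff_ker_eq_bot φ).mp Subtype.val_injective
  have hq : Algebra.IsSmoothAt R (RingHom.ker φ) := isSmoothAt_generic (K := K) (L := L) hinj A _ hker
  have hrel : Submodule.span Λ (dAt (φ.comp g0.toRingHom) '' {a | g0 a = 0}) = relDiff (R := R) x := by
    rw [relDiff]
    congr 1
    congr 1
    ext a
    exact ⟨fun h => congrArg Subtype.val h, fun h => Subtype.ext h⟩
  have hsm := isSmoothAt_of_saturated g0 hg0 φ hq ϖ hϖ (by rw [hrel]; exact hsat)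
  haveI : Algebra.FiniteType R A := Algebra.FiniteType.of_surjective g0 hg0
  haveI : Algebra.FinitePresentation R A := Algebra.FinitePresentation.of_finiteType.mp inferInstance
  obtain ⟨f, hf, hsmooth⟩ := Algebra.IsSmoothAt.exists_notMem_smooth R ((IsLocalRing.maximalIdeal Λ).comap φ)
  have hu : IsUnit (A.val f) := by
    by_contra hn
    exact hf hn
  let h : Localization.Away f →ₐ[R] Λ := IsLocalization.liftAlgHom (M := Submonoid.powers f) (f := A.val)
    (show ∀ y : Submonoid.powers f, IsUnit (A.val y) by
      rintro ⟨_, k, rfl⟩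
      rw [map_pow]
      exact hu.pow k)
  exact ⟨Localization.Away f, inferInstance, inferInstance, hsmooth, IsScalarTower.toAlgHom R A _, h,
    fun a => IsLocalization.lift_eq _ a⟩

/-- Neron desingularization. -/
theorem exists_smooth_range [IsDomain R] [IsDiscreteValuationRing R] [IsDomain Λ] [IsDiscreteValuationRing Λ]
    [IsLocalHom (algebraMap R Λ)]
    {K L : Type u} [Field K] [Algebra R K] [IsFractionRing R K]
    [Field L] [Algebra Λ L] [IsFractionRing Λ L] [Algebra K L] [Algebra R L] [IsScalarTower R K L]
    [IsScalarTower R Λ L] [Algebra.IsGeometricallyReduced K L] (hinj : Function.Injective (algebraMap R Λ))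
    (π : R) (H : SepPoint R (Λ := Λ) π) (d : ℕ∞) :
    ∀ (ι : Type) [Fintype ι] (x : ι → Λ), delta R x = d →
      ∃ (B : Type u) (_ : CommRing B) (_ : Algebra R B), Algebra.Smooth R B ∧
        ∃ (g : (MvPolynomial.aeval x : MvPolynomial ι R →ₐ[R] Λ).range →ₐ[R] B) (h : B →ₐ[R] Λ),
          ∀ a, h (g a) = a := by
  induction d using WellFoundedLT.induction with
  | ind d ih =>
    intro ι _ x hd
    have hirr : Irreducible (algebraMap R Λ π) := (IsDiscreteValuationRing.irreducible_iff_uniformizer _).mpr H.maxL
    by_cases hsat : ∀ w : ι → Λ, algebraMap R Λ π • w ∈ relDiff (R := R) x → w ∈ relDiff (R := R) x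
    · exact exists_smooth_of_saturated (K := K) (L := L) hinj x _ hirr hsat
    push_neg at hsat
    obtain ⟨w0, hw0, hw0'⟩ := hsat
    let p := (IsLocalRing.maximalIdeal Λ).comap (evH R x)
    obtain ⟨n, g, hgp⟩ := Submodule.fg_iff_exists_fin_generating_family.mp (IsNoetherian.noetherian p)
    have hg : ∀ a, a ∈ Ideal.span (Set.range g) ↔ ¬ IsUnit (evH R x a) := fun a => by
      rw [show Ideal.span (Set.range g) = p from hgp]
      exact IsLocalRing.mem_maximalIdeal _
    have hdiv : ∀ j, algebraMap R Λ π ∣ evH R x (g j) := fun j => by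
      rw [← Ideal.mem_span_singleton, ← H.maxL]
      exact (hg _).mp (Ideal.subset_span ⟨j, rfl⟩)
    choose y hy using hdiv
    have hlt := delta_lt π x g y (fun j => (hy j).symm) hg H hirr.ne_zero w0 hw0 hw0'
    obtain ⟨B, iB, iA, hB, g', h', hgh⟩ := ih _ (hd ▸ hlt) (ι ⊕ Fin n) (Sum.elim x y) rfl
    have hle : (MvPolynomial.aeval x : MvPolynomial ι R →ₐ[R] Λ).range ≤
        (MvPolynomial.aeval (Sum.elim x y) : MvPolynomial (ι ⊕ Fin n) R →ₐ[R] Λ).range := by
      rintro _ ⟨a, rfl⟩
      exact ⟨rename Sum.inl a, psi_rename x y a⟩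
    exact ⟨B, iB, iA, hB, g'.comp (Subalgebra.inclusion hle), h', fun a => hgh _⟩

end Groth.L14.Smoothing.Neron
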