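import Groth.Agent.L14.Smoothing.NeronSmooth
import Groth.Agent.L06.FormSmoothField2
import Mathlib.LinearAlgebra.Basis.VectorSpace
import Mathlib.Algebra.MvPolynomial.PDeriv
import Mathlib.RingTheory.LocalRing.ResidueField.Basic

/-!
Separable residue extensions: relations with vanishing differential lie in `(π) + p²`.
-/

set_option autoImplicit false
set_option linter.style.haveILetI false

noncomputable section

open MvPolynomial

namespace Groth.L14.Smoothing.Neron

universe u

/-- Solutions of a linear system defined over a subfield are spanned by solutions over it. -/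
theorem mem_span_solutions {κ k : Type u} [Field κ] [Field k] [Algebra κ k] {ι σ : Type} [Fintype σ]
    (c : σ → ι → κ) (v : σ → k) (hv : ∀ i, ∑ j, v j * algebraMap κ k (c j i) = 0) :
    v ∈ Submodule.span k ((fun w : σ → κ => fun j => algebraMap κ k (w j)) ''
      {w | ∀ i, ∑ j, w j * c j i = 0}) := by
  classical
  let b := Module.Free.chooseBasis κ k
  let s : Finset (Module.Free.ChooseBasisIndex κ k) := Finset.univ.biUnion fun j => (b.repr (v j)).support
  have hw : ∀ m i, ∑ j, b.repr (v j) m * c j i = 0 := fun m i => by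
    have h1 : ∑ j, c j i • v j = 0 := by
      rw [← hv i]
      exact Finset.sum_congr rfl fun j _ => by rw [Algebra.smul_def, mul_comm]
    have h2 := congrArg (fun x => b.repr x m) h1
    simp only [map_sum, map_smul, map_zero, Finsupp.coe_finsetSum, Finset.sum_apply, Finsupp.smul_apply,
      Finsupp.zero_apply, smul_eq_mul] at h2
    rw [← h2]
    exact Finset.sum_congr rfl fun j _ => mul_comm _ _
  have : v = ∑ m ∈ s, b m • fun j => algebraMap κ k (b.repr (v j) m) := by
    funext j
    rw [Finset.sum_apply]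
    conv_lhs => rw [← b.linearCombination_repr (v j), Finsupp.linearCombination_apply, Finsupp.sum]
    rw [Finset.sum_subset (s₂ := s) (fun m hm => Finset.mem_biUnion.mpr ⟨j, Finset.mem_univ j, hm⟩)
      (fun m _ hm => by rw [Finsupp.notMem_support_iff.mp hm, zero_smul])]
    exact Finset.sum_congr rfl fun m _ => by rw [Pi.smul_apply, smul_eq_mul, Algebra.smul_def, mul_comm]
  rw [this]
  exact Submodule.sum_mem _ fun m _ => Submodule.smul_mem _ _ (Submodule.subset_span ⟨_, hw m, rfl⟩)

theorem eq_zero_of_mem_sq {Q : Type u} [CommRing Q] (I : Ideal Q) (h : ∀ x ∈ I, ∀ y ∈ I, x * y = 0) {z : Q}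
    (hz : z ∈ I ^ 2) : z = 0 :=
  Ideal.mem_bot.mp (((pow_two I).trans_le (Ideal.mul_le.mpr fun x hx y hy => Ideal.mem_bot.mpr (h x hx y hy))) hz)

/-- A square-zero thickening of a separable point detects functions by their differential. -/
theorem eq_zero_of_sq_zero {k0 k Q : Type u} [Field k0] [CommRing Q] [Algebra k0 Q] [Field k] [Algebra k0 k]
    [Algebra.IsGeometricallyReduced k0 k] (ev : Q →ₐ[k0] k) (hunit : ∀ x, ev x ≠ 0 → IsUnit x)
    (hsq : ∀ x y, ev x = 0 → ev y = 0 → x * y = 0) {ι : Type} [Fintype ι] (a : MvPolynomial ι k0 →ₐ[k0] Q)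
    (f : MvPolynomial ι k0) (hf : ev (a f) = 0) (hd : ∀ i, ev (a (pderiv i f)) = 0) : a f = 0 := by
  let S := ev.range
  have hS : IsField S := by
    refine ⟨⟨0, 1, zero_ne_one⟩, mul_comm, fun {b} hb => ?_⟩
    obtain ⟨x, hx⟩ := b.2
    obtain ⟨y, hy⟩ := (hunit x fun h0 => hb (Subtype.ext (hx.symm.trans h0))).exists_right_inv
    refine ⟨⟨ev y, Set.mem_range_self _⟩, Subtype.ext ?_⟩
    show (b : k) * ev y = 1
    rw [← hx]
    show ev x * ev y = 1
    rw [← map_mul, hy, map_one]
  letI : Field S := hS.toField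
  haveI : Algebra.IsGeometricallyReduced k0 S :=
    Algebra.IsGeometricallyReduced.of_injective S.val Subtype.val_injective
  haveI : Algebra.FormallySmooth k0 S := Groth.L06.FormSmooth.formallySmooth_of_geometricallyReduced k0 S
  obtain ⟨u, hu0, hsec⟩ := exists_jacobian_section (S := S) a ev.rangeRestrict ev.rangeRestrict_surjective
  have h0 : ∀ x, ev.rangeRestrict x = 0 → ev x = 0 := fun x hx => congrArg Subtype.val hx
  have h2 := eq_zero_of_mem_sq _ (fun x hx y hy => hsq x y (h0 x hx) (h0 y hy)) (hsec f (Subtype.ext hf))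
  rw [sub_eq_zero] at h2
  rw [h2]
  exact Finset.sum_eq_zero fun i _ => hsq _ _ (hd i) (h0 _ (hu0 i))

/-- For a separable residue point, a relation with vanishing differential is in `(π) + p²`. -/
theorem exists_mul_mem_of_dAt_eq_zero {R k : Type u} [CommRing R] [IsLocalRing R] [Field k]
    [Algebra (IsLocalRing.ResidueField R) k] [Algebra.IsGeometricallyReduced (IsLocalRing.ResidueField R) k]
    {ι : Type} [Fintype ι] (π : R) (hπ : IsLocalRing.maximalIdeal R = Ideal.span {π})
    (χ : MvPolynomial ι R →+* k)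
    (hχ : ∀ r, χ (C r) = algebraMap (IsLocalRing.ResidueField R) k (IsLocalRing.residue R r))
    (f : MvPolynomial ι R) (hf : χ f = 0) (hd : dAt χ f = 0) :
    ∃ s, χ s ≠ 0 ∧ s * f ∈ Ideal.span {C π} ⊔ RingHom.ker χ ^ 2 := by
  classical
  let k0 := IsLocalRing.ResidueField R
  haveI : (RingHom.ker χ).IsPrime := RingHom.ker_isPrime χ
  let p := RingHom.ker χ
  let P := Localization.AtPrime p
  let m := IsLocalRing.maximalIdeal P
  let J : Ideal P := Ideal.span {algebraMap (MvPolynomial ι R) P (C π)} ⊔ m ^ 2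
  let Q := P ⧸ J
  have hπk : χ (C π) = 0 := by
    rw [hχ, (IsLocalRing.residue_eq_zero_iff π).mpr (hπ ▸ Ideal.mem_span_singleton_self π), map_zero]
  have hu : ∀ y : p.primeCompl, IsUnit (χ y) := fun y => isUnit_iff_ne_zero.mpr y.2
  let ev : P →+* k := IsLocalization.lift hu
  have hev : ∀ x, ev (algebraMap _ P x) = χ x := fun x => IsLocalization.lift_eq hu x
  have hevm : ∀ x : P, ev x = 0 ↔ x ∈ m := fun x => by
    constructor
    · intro hx
      by_contra hn
      exact ((IsLocalRing.notMem_maximalIdeal.mp hn).map ev).ne_zero hx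
    · intro hx
      obtain ⟨⟨c, d⟩, hcd⟩ := IsLocalization.surj p.primeCompl x
      have h1 : algebraMap _ P c ∈ m := hcd ▸ Ideal.mul_mem_right _ _ hx
      have h2 : χ c = 0 := RingHom.mem_ker.mp ((IsLocalization.AtPrime.to_map_mem_maximal_iff P p c).mp h1)
      have := congrArg ev hcd
      rw [map_mul, hev, hev, h2] at this
      exact (mul_eq_zero.mp this).resolve_right (hu d).ne_zero
  let jm : R →+* Q := ((Ideal.Quotient.mk J).comp (algebraMap (MvPolynomial ι R) P)).comp C
  let j0 : k0 →+* Q := Ideal.Quotient.lift (IsLocalRing.maximalIdeal R) jm (fun r hr => by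
    rw [hπ, Ideal.mem_span_singleton] at hr
    obtain ⟨t, rfl⟩ := hr
    show Ideal.Quotient.mk J (algebraMap _ P (C (π * t))) = 0
    rw [Ideal.Quotient.eq_zero_iff_mem, map_mul, map_mul]
    exact Ideal.mul_mem_right _ _ (Ideal.mem_sup_left (Ideal.mem_span_singleton_self _)))
  letI : Algebra k0 Q := @RingHom.toAlgebra k0 Q _ (Ideal.Quotient.commRing J).toCommSemiring j0
  let evQ : Q →+* k := Ideal.Quotient.lift J ev (fun x hx => by
    refine (hevm x).mpr ((sup_le ?_ (Ideal.pow_le_self two_ne_zero) : J ≤ m) hx)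
    rw [Ideal.span_le, Set.singleton_subset_iff]
    exact (hevm _).mp (by rw [hev, hπk]))
  let evA : Q →ₐ[k0] k :=
    { evQ with
      commutes' := fun x => by
        obtain ⟨r, rfl⟩ := Ideal.Quotient.mk_surjective x
        show ev (algebraMap _ P (C r)) = algebraMap k0 k (IsLocalRing.residue R r)
        rw [hev, hχ] }
  let a : MvPolynomial ι k0 →ₐ[k0] Q :=
    MvPolynomial.aeval fun i => Ideal.Quotient.mk J (algebraMap (MvPolynomial ι R) P (X i))
  have ha : ∀ g, a (map (IsLocalRing.residue R) g) = Ideal.Quotient.mk J (algebraMap _ P g) := by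
    intro g
    induction g using MvPolynomial.induction_on with
    | C r => rw [map_C]; exact a.commutes (IsLocalRing.residue R r)
    | add x y hx hy => simp only [map_add, hx, hy]
    | mul_X x i hx =>
      simp only [map_mul, map_X, hx]
      rw [show a (X i) = Ideal.Quotient.mk J (algebraMap _ P (X i)) from MvPolynomial.aeval_X _ _]
  have hzero : a (map (IsLocalRing.residue R) f) = 0 := by
    refine eq_zero_of_sq_zero evA (fun x hx => ?_) (fun x y hx hy => ?_) a _ ?_ (fun i => ?_)
    · obtain ⟨x', rfl⟩ := Ideal.Quotient.mk_surjective x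
      exact (IsLocalRing.notMem_maximalIdeal.mp fun hm => hx ((hevm x').mpr hm)).map _
    · obtain ⟨x', rfl⟩ := Ideal.Quotient.mk_surjective x
      obtain ⟨y', rfl⟩ := Ideal.Quotient.mk_surjective y
      rw [← map_mul, Ideal.Quotient.eq_zero_iff_mem]
      refine Ideal.mem_sup_right ?_
      rw [pow_two]
      exact Ideal.mul_mem_mul ((hevm x').mp hx) ((hevm y').mp hy)
    · rw [ha]
      exact (hev f).trans hf
    · rw [pderiv_map, ha]
      exact (hev _).trans (congrFun hd i)
  rw [ha, Ideal.Quotient.eq_zero_iff_mem] at hzero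
  have hmap : (Ideal.span {C π} ⊔ p ^ 2).map (algebraMap _ P) = J := by
    rw [Ideal.map_sup, Ideal.map_span, Set.image_singleton, Ideal.map_pow, Localization.AtPrime.map_eq_maximalIdeal]
  rw [← hmap] at hzero
  obtain ⟨s, hs, hsf⟩ := (IsLocalization.algebraMap_mem_map_algebraMap_iff p.primeCompl P _ _).mp hzero
  exact ⟨s, hs, hsf⟩

end Groth.L14.Smoothing.Neron
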