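import Groth.Agent.L14.Smoothing.NeronSep
import Mathlib.RingTheory.Length
import Mathlib.LinearAlgebra.Quotient.Pi
import Mathlib.RingTheory.OrderOfVanishing.Basic
import Mathlib.RingTheory.Polynomial.Basic
import Mathlib.Algebra.Module.Torsion.Basic

/-!
One Neron blowup decreases the torsion of the differentials.
-/

set_option autoImplicit false
set_option linter.style.haveILetI false

noncomputable section

open MvPolynomial
open scoped Classical

namespace Groth.L14.Smoothing.Neron

universe u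

theorem dAt_sub {R K : Type u} [CommRing R] [CommRing K] {ι : Type} (ψ : MvPolynomial ι R →+* K)
    (a b : MvPolynomial ι R) : dAt ψ (a - b) = dAt ψ a - dAt ψ b := by
  funext i; simp [dAt]

theorem dAt_sum {R K : Type u} [CommRing R] [CommRing K] {ι κ : Type} (ψ : MvPolynomial ι R →+* K)
    (s : Finset κ) (a : κ → MvPolynomial ι R) : dAt ψ (∑ j ∈ s, a j) = ∑ j ∈ s, dAt ψ (a j) := by
  funext i; simp [dAt]

variable {R Λ : Type u} [CommRing R] [CommRing Λ] [Algebra R Λ]

/-- Evaluation at a point. -/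
abbrev evH (R : Type u) {Λ : Type u} [CommRing R] [CommRing Λ] [Algebra R Λ] {ι : Type} (x : ι → Λ) :
    MvPolynomial ι R →+* Λ :=
  (MvPolynomial.aeval x : MvPolynomial ι R →ₐ[R] Λ).toRingHom

/-- The submodule spanned by the differentials of the relations among the `x i`. -/
def relDiff {ι : Type} (x : ι → Λ) : Submodule Λ (ι → Λ) :=
  Submodule.span Λ (dAt (evH R x) '' {a | evH R x a = 0})

/-- The torsion of the differentials at the point `x`. -/
def delta (R : Type u) {Λ : Type u} [CommRing R] [CommRing Λ] [Algebra R Λ] {ι : Type} (x : ι → Λ) : ℕ∞ :=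
  Module.length Λ (Submodule.torsion Λ ((ι → Λ) ⧸ relDiff (R := R) x))

variable {ι : Type} {n : ℕ}

/-- The map on differentials of a blowup. -/
def mu (ϖ : Λ) (D : Fin n → (ι → Λ)) : (ι ⊕ Fin n → Λ) →ₗ[Λ] (ι → Λ) :=
  ϖ • LinearMap.funLeft Λ Λ Sum.inl + (Fintype.linearCombination Λ D).comp (LinearMap.funLeft Λ Λ Sum.inr)

theorem mu_apply (ϖ : Λ) (D : Fin n → (ι → Λ)) (z : ι ⊕ Fin n → Λ) :
    mu ϖ D z = ϖ • (z ∘ Sum.inl) + ∑ j, z (Sum.inr j) • D j := by
  simp [mu, Fintype.linearCombination_apply, LinearMap.funLeft]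

/-- The blowup relations. -/
def rel (π : R) (g : Fin n → MvPolynomial ι R) (j : Fin n) : MvPolynomial (ι ⊕ Fin n) R :=
  C π * X (Sum.inr j) - rename Sum.inl (g j)

theorem exists_congr (π : R) (g : Fin n → MvPolynomial ι R) (e : MvPolynomial (ι ⊕ Fin n) R) :
    ∃ (N : ℕ) (b : MvPolynomial ι R), C π ^ N * e - rename Sum.inl b ∈ Ideal.span (Set.range (rel π g)) := by
  induction e using MvPolynomial.induction_on with
  | C r => exact ⟨0, C r, by simp⟩
  | add p q hp hq =>
    obtain ⟨N, b, hb⟩ := hp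
    obtain ⟨M, c, hc⟩ := hq
    refine ⟨N + M, C π ^ M * b + C π ^ N * c, ?_⟩
    convert Ideal.add_mem _ (Ideal.mul_mem_left _ (C π ^ M) hb) (Ideal.mul_mem_left _ (C π ^ N) hc) using 1
    simp only [map_add, map_mul, map_pow, rename_C]
    ring
  | mul_X p a hp =>
    obtain ⟨N, b, hb⟩ := hp
    cases a with
    | inl i =>
      refine ⟨N, b * X i, ?_⟩
      convert Ideal.mul_mem_right (X (Sum.inl i)) _ hb using 1
      simp only [map_mul, rename_X]
      ring
    | inr j =>
      refine ⟨N + 1, b * g j, ?_⟩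
      convert Ideal.add_mem _ (Ideal.mul_mem_right (C π * X (Sum.inr j)) _ hb)
        (Ideal.mul_mem_left _ (rename Sum.inl b) (Ideal.subset_span ⟨j, rfl⟩ :
          rel π g j ∈ Ideal.span (Set.range (rel π g)))) using 1
      simp only [rel, map_mul]
      ring

theorem exists_lift_of_mem (π : R) (g : Fin n → MvPolynomial ι R) {b : MvPolynomial ι R}
    (hb : b ∈ Ideal.span (Set.range g)) :
    ∃ e, C π * e - rename Sum.inl b ∈ Ideal.span (Set.range (rel π g)) := by
  obtain ⟨c, rfl⟩ := Ideal.mem_span_range_iff_exists_fun.mp hb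
  refine ⟨∑ j, rename Sum.inl (c j) * X (Sum.inr j), ?_⟩
  rw [Finset.mul_sum, map_sum, ← Finset.sum_sub_distrib]
  refine Ideal.sum_mem _ fun j _ => ?_
  convert Ideal.mul_mem_left _ (rename Sum.inl (c j)) (Ideal.subset_span ⟨j, rfl⟩ :
    rel π g j ∈ Ideal.span (Set.range (rel π g))) using 1
  simp only [rel, map_mul]
  ring

theorem exists_lift_of_mem_sq (π : R) (g : Fin n → MvPolynomial ι R) {b : MvPolynomial ι R}
    (hb : b ∈ Ideal.span (Set.range g) ^ 2) :
    ∃ e, C π ^ 2 * e - rename Sum.inl b ∈ Ideal.span (Set.range (rel π g)) := by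
  rw [pow_two] at hb
  refine Submodule.mul_induction_on hb (fun a ha c hc => ?_) (fun a c ha hc => ?_)
  ·
    obtain ⟨e, he⟩ := exists_lift_of_mem π g ha
    obtain ⟨e', he'⟩ := exists_lift_of_mem π g hc
    refine ⟨e * e', ?_⟩
    convert Ideal.add_mem _ (Ideal.mul_mem_right (C π * e') _ he)
      (Ideal.mul_mem_left _ (rename Sum.inl a) he') using 1
    simp only [map_mul]
    ring
  · obtain ⟨e, he⟩ := ha
    obtain ⟨e', he'⟩ := hc
    refine ⟨e + e', ?_⟩
    convert Ideal.add_mem _ he he' using 1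
    simp only [map_add]
    ring

variable (π : R) (x : ι → Λ) (g : Fin n → MvPolynomial ι R) (y : Fin n → Λ)

/-- The blowup map attached to `g`. -/
abbrev muX : (ι ⊕ Fin n → Λ) →ₗ[Λ] (ι → Λ) := mu (algebraMap R Λ π) (fun j => dAt (evH R x) (g j))

theorem psi_rename (b : MvPolynomial ι R) : (evH R (Sum.elim x y)) (rename Sum.inl b) = (evH R x) b := by
  simp [aeval_rename]

theorem dAt_rename_inl (b : MvPolynomial ι R) (i : ι) : dAt (evH R (Sum.elim x y)) (rename Sum.inl b) (Sum.inl i) = dAt (evH R x) b i := by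
  simp only [dAt, pderiv_rename Sum.inl_injective]
  exact psi_rename x y _

theorem dAt_rename_inr (b : MvPolynomial ι R) (j : Fin n) : dAt (evH R (Sum.elim x y)) (rename Sum.inl b) (Sum.inr j) = 0 := by
  classical
  simp only [dAt]
  rw [pderiv_eq_zero_of_notMem_vars, map_zero]
  intro h
  have := vars_rename Sum.inl b h
  simp at this

theorem mu_rename (b : MvPolynomial ι R) :
    (muX π x g) (dAt (evH R (Sum.elim x y)) (rename Sum.inl b)) = algebraMap R Λ π • dAt (evH R x) b := by
  rw [mu_apply]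
  simp only [dAt_rename_inr, zero_smul, Finset.sum_const_zero, add_zero]
  congr 1
  funext i
  exact dAt_rename_inl x y b i

variable (hy : ∀ j, algebraMap R Λ π * y j = (evH R x) (g j))

theorem dAt_rel (j : Fin n) : dAt (evH R (Sum.elim x y)) (rel π g j) =
    algebraMap R Λ π • Pi.single (Sum.inr j) 1 - dAt (evH R (Sum.elim x y)) (rename Sum.inl (g j)) := by
  classical
  rw [rel, dAt_sub, sub_left_inj]
  funext i
  by_cases hi : i = Sum.inr j
  · subst hi; simp [dAt]
  · simp [dAt, hi, Ne.symm hi, pderiv_X]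

include hy in
theorem psi_rel (j : Fin n) : (evH R (Sum.elim x y)) (rel π g j) = 0 := by
  rw [rel, map_sub, map_mul, psi_rename, ← hy j]
  simp

theorem mu_rel (j : Fin n) : (muX π x g) (dAt (evH R (Sum.elim x y)) (rel π g j)) = 0 := by
  classical
  rw [dAt_rel, map_sub, map_smul, mu_rename, ← smul_sub]
  have : (muX π x g) (Pi.single (Sum.inr j) 1) = dAt (evH R x) (g j) := by
    rw [mu_apply]
    funext i
    simp [Pi.single_apply, Function.comp_def]
  rw [this, sub_self, smul_zero]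

include hy in
theorem of_mem_J {e : MvPolynomial (ι ⊕ Fin n) R} (he : e ∈ Ideal.span (Set.range (rel π g))) :
    (evH R (Sum.elim x y)) e = 0 ∧ (muX π x g) (dAt (evH R (Sum.elim x y)) e) = 0 := by
  induction he using Submodule.span_induction with
  | mem x' hx' =>
    obtain ⟨j, rfl⟩ := hx'
    exact ⟨psi_rel π x g y hy j, mu_rel π x g y j⟩
  | zero => exact ⟨map_zero _, by rw [show dAt (evH R (Sum.elim x y)) (0 : MvPolynomial (ι ⊕ Fin n) R) = 0 by funext i; simp [dAt], map_zero]⟩
  | add a b _ _ ha hb =>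
    exact ⟨by rw [map_add, ha.1, hb.1, add_zero], by rw [dAt_add, map_add, ha.2, hb.2, add_zero]⟩
  | smul r a _ ha =>
    refine ⟨by rw [smul_eq_mul, map_mul, ha.1, mul_zero], ?_⟩
    rw [smul_eq_mul, dAt_mul, ha.1, zero_smul, add_zero, map_smul, ha.2, smul_zero]

include hy in
/-- Transport of values and differentials along a congruence. -/
theorem of_congr {N : ℕ} {e : MvPolynomial (ι ⊕ Fin n) R} {b : MvPolynomial ι R}
    (h : C π ^ N * e - rename Sum.inl b ∈ Ideal.span (Set.range (rel π g))) :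
    algebraMap R Λ π ^ N * (evH R (Sum.elim x y)) e = (evH R x) b ∧
      algebraMap R Λ π ^ N • (muX π x g) (dAt (evH R (Sum.elim x y)) e) = algebraMap R Λ π • dAt (evH R x) b := by
  have h1 := of_mem_J π x g y hy h
  rw [map_sub, psi_rename, sub_eq_zero, map_mul, map_pow, dAt_sub, map_sub, mu_rename, sub_eq_zero] at h1
  have hC : (evH R (Sum.elim x y)) (C π) = algebraMap R Λ π := by simp
  refine ⟨by rw [← hC]; exact h1.1, ?_⟩
  rw [← h1.2, dAt_mul, ← map_pow C, dAt_C, smul_zero, add_zero, map_pow, map_pow, hC, map_smul]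

variable [IsDomain Λ]

include hy in
theorem mu_relDiff_le (hπ0 : algebraMap R Λ π ≠ 0) {w : ι ⊕ Fin n → Λ}
    (hw : w ∈ relDiff (R := R) (Sum.elim x y)) :
    ∃ a : Λ, a ≠ 0 ∧ a • (muX π x g) w ∈ relDiff (R := R) x := by
  induction hw using Submodule.span_induction with
  | mem w hw =>
    obtain ⟨e, he, rfl⟩ := hw
    obtain ⟨N, b, hb⟩ := exists_congr π g e
    obtain ⟨h1, h2⟩ := of_congr π x g y hy hb
    refine ⟨algebraMap R Λ π ^ N, pow_ne_zero _ hπ0, ?_⟩
    rw [h2]
    refine Submodule.smul_mem _ _ (Submodule.subset_span ⟨b, ?_, rfl⟩)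
    show (evH R x) b = 0
    rw [← h1, show (evH R (Sum.elim x y)) e = 0 from he, mul_zero]
  | zero => exact ⟨1, one_ne_zero, by simp⟩
  | add a b _ _ ha hb =>
    obtain ⟨r, hr, hra⟩ := ha
    obtain ⟨s, hs, hsb⟩ := hb
    refine ⟨r * s, mul_ne_zero hr hs, ?_⟩
    rw [map_add, smul_add]
    exact Submodule.add_mem _ (by rw [mul_comm, mul_smul]; exact Submodule.smul_mem _ _ hra)
      (by rw [mul_smul]; exact Submodule.smul_mem _ _ hsb)
  | smul r a _ ha =>
    obtain ⟨s, hs, hsa⟩ := ha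
    exact ⟨s, hs, by rw [map_smul, smul_comm]; exact Submodule.smul_mem _ r hsa⟩

variable (hg : ∀ a, a ∈ Ideal.span (Set.range g) ↔ ¬ IsUnit ((evH R x) a))

include hy hg in
theorem relDiff_le_map (hπ0 : algebraMap R Λ π ≠ 0) :
    relDiff (R := R) x ≤ (relDiff (R := R) (Sum.elim x y)).map (muX π x g) := by
  rw [relDiff, Submodule.span_le]
  rintro _ ⟨f, hf, rfl⟩
  have hf0 : (evH R x) f = 0 := hf
  obtain ⟨e, he⟩ := exists_lift_of_mem π g ((hg f).mpr (by rw [hf0]; exact not_isUnit_zero))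
  obtain ⟨h1, h2⟩ := of_congr π x g y hy (N := 1) (by rw [pow_one]; exact he)
  rw [pow_one] at h1 h2
  refine ⟨_, Submodule.subset_span ⟨e, ?_, rfl⟩, smul_right_injective _ hπ0 h2⟩
  exact (mul_eq_zero.mp (h1.trans hf0)).resolve_left hπ0

omit y hy hg [IsDomain Λ] in
/-- Solutions over the residue field are spanned by polynomial solutions. -/
theorem mem_span_poly_solutions {k : Type u} [Field k] {σ : Type} [Fintype σ] (χ : MvPolynomial ι R →+* k)
    (c : σ → ι → MvPolynomial ι R) (v : σ → k) (hv : ∀ i, ∑ j, v j * χ (c j i) = 0) :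
    v ∈ Submodule.span k ((fun p : σ → MvPolynomial ι R => fun j => χ (p j)) ''
      {p | ∀ i, χ (∑ j, p j * c j i) = 0}) := by
  haveI : (RingHom.ker χ).IsPrime := RingHom.ker_isPrime χ
  let Q := MvPolynomial ι R ⧸ RingHom.ker χ
  let κ := FractionRing Q
  let χ1 : Q →+* k := RingHom.kerLift χ
  have hinj : Function.Injective χ1 := RingHom.kerLift_injective χ
  let χ2 : κ →+* k := IsFractionRing.lift hinj
  have hχ2 : ∀ a, χ2 (algebraMap Q κ (Ideal.Quotient.mk _ a)) = χ a := fun a => by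
    rw [IsFractionRing.lift_algebraMap]; rfl
  letI : Algebra κ k := χ2.toAlgebra
  have h := mem_span_solutions (κ := κ) (fun j i => algebraMap Q κ (Ideal.Quotient.mk _ (c j i))) v (fun i => by
    rw [← hv i]
    exact Finset.sum_congr rfl fun j _ => congrArg (v j * ·) (hχ2 _))
  refine (Submodule.span_le.mpr ?_) h
  rintro _ ⟨w, hw, rfl⟩
  obtain ⟨b, hb⟩ := IsLocalization.exist_integer_multiples_of_finite (nonZeroDivisors Q) w
  choose q hq using hb
  choose p hp using fun j => Ideal.Quotient.mk_surjective (q j)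
  have hbk : χ1 (b : Q) ≠ 0 := fun h0 => nonZeroDivisors.coe_ne_zero b (hinj (h0.trans (map_zero χ1).symm))
  have hj : ∀ j, χ (p j) = χ1 (b : Q) * χ2 (w j) := fun j => by
    rw [← hχ2, hp, hq, Algebra.smul_def, map_mul, IsFractionRing.lift_algebraMap]
  have hp' : ∀ i, χ (∑ j, p j * c j i) = 0 := fun i => by
    have := congrArg χ2 (hw i)
    simp only [map_sum, map_mul, map_zero, hχ2] at this
    simp only [map_sum, map_mul, hj, mul_assoc, ← Finset.mul_sum, this, mul_zero]
  have : (fun j => algebraMap κ k (w j)) = (χ1 (b : Q))⁻¹ • fun j => χ (p j) := by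
    funext j
    rw [Pi.smul_apply, smul_eq_mul, hj, ← mul_assoc, inv_mul_cancel₀ hbk, one_mul]
    rfl
  show (fun j => algebraMap κ k (w j)) ∈ _
  rw [this]
  exact Submodule.smul_mem _ _ (Submodule.subset_span ⟨p, hp', rfl⟩)

omit y hy hg [IsDomain Λ] in
/-- Lifting along the residue map. -/
theorem exists_lift_of_span [IsLocalRing Λ] {σ : Type} {W : Type u} [AddCommGroup W] [Module Λ W]
    (Z : Submodule Λ W) (L : W →ₗ[Λ] (σ → Λ)) (S : Set (σ → IsLocalRing.ResidueField Λ))
    (hS : ∀ s ∈ S, ∃ z ∈ Z, ∀ j, IsLocalRing.residue Λ (L z j) = s j)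
    {v : σ → IsLocalRing.ResidueField Λ} (hv : v ∈ Submodule.span (IsLocalRing.ResidueField Λ) S) :
    ∃ z ∈ Z, ∀ j, IsLocalRing.residue Λ (L z j) = v j := by
  induction hv using Submodule.span_induction with
  | mem s hs => exact hS s hs
  | zero => exact ⟨0, Z.zero_mem, fun j => by simp⟩
  | add a b _ _ ha hb =>
    obtain ⟨z, hz, hza⟩ := ha
    obtain ⟨z', hz', hzb⟩ := hb
    exact ⟨z + z', Z.add_mem hz hz', fun j => by simp [hza, hzb]⟩
  | smul r a _ ha =>
    obtain ⟨z, hz, hza⟩ := ha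
    obtain ⟨r', rfl⟩ := IsLocalRing.residue_surjective r
    exact ⟨r' • z, Z.smul_mem _ hz, fun j => by simp [hza]⟩

/-- The hypotheses on the residue extension. -/
structure SepPoint (R : Type u) {Λ : Type u} [CommRing R] [IsLocalRing R] [CommRing Λ] [IsLocalRing Λ] [Algebra R Λ]
    [IsLocalHom (algebraMap R Λ)] (π : R) : Prop where
  maxR : IsLocalRing.maximalIdeal R = Ideal.span {π}
  maxL : IsLocalRing.maximalIdeal Λ = Ideal.span {algebraMap R Λ π}
  sep : Algebra.IsGeometricallyReduced (IsLocalRing.ResidueField R) (IsLocalRing.ResidueField Λ)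

variable [IsLocalRing R] [IsLocalRing Λ] [IsLocalHom (algebraMap R Λ)] (H : SepPoint R (Λ := Λ) π) [Fintype ι]

omit y hy in
include H hg in
theorem exists_sep (f : MvPolynomial ι R) (hf : ¬ IsUnit (evH R x f))
    (hd : ∀ i, ¬ IsUnit (dAt (evH R x) f i)) :
    ∃ s a h, IsUnit (evH R x s) ∧ s * f = C π * a + h ∧ h ∈ Ideal.span (Set.range g) ^ 2 := by
  let χ := (IsLocalRing.residue Λ).comp (evH R x)
  haveI := H.sep
  have hz : ∀ a, χ a = 0 ↔ ¬ IsUnit (evH R x a) := fun a => IsLocalRing.residue_eq_zero_iff _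
  obtain ⟨s, hs, hsf⟩ := exists_mul_mem_of_dAt_eq_zero π H.maxR χ (fun r => by
    show IsLocalRing.residue Λ (MvPolynomial.aeval x (C r)) = _
    rw [aeval_C]
    rfl) f ((hz f).mpr hf) (funext fun i => (IsLocalRing.residue_eq_zero_iff _).mpr (hd i))
  have hker : RingHom.ker χ = Ideal.span (Set.range g) := Ideal.ext fun a => (hz a).trans (hg a).symm
  rw [hker] at hsf
  obtain ⟨u, hu, h, hh, hsum⟩ := Submodule.mem_sup.mp hsf
  obtain ⟨a, rfl⟩ := Ideal.mem_span_singleton'.mp hu
  exact ⟨s, a, h, by_contra fun hn => hs ((hz s).mpr hn), by rw [← hsum]; ring, hh⟩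

include H hy hg in
theorem mem_span_of_mu_eq_zero (hπ0 : algebraMap R Λ π ≠ 0) (I' : Ideal (MvPolynomial (ι ⊕ Fin n) R))
    (hJ : Ideal.span (Set.range (rel π g)) ≤ I') (hI' : ∀ e, C π * e ∈ I' → e ∈ I')
    (z : ι ⊕ Fin n → Λ) (hz : muX π x g z = 0) :
    z ∈ Submodule.span Λ (dAt (evH R (Sum.elim x y)) '' I') := by
  let res := IsLocalRing.residue Λ
  let χ := res.comp (evH R x)
  have hπr : res (algebraMap R Λ π) = 0 :=
    (IsLocalRing.residue_eq_zero_iff _).mpr (H.maxL ▸ Ideal.mem_span_singleton_self _)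
  have hv : ∀ i, ∑ j, res (z (Sum.inr j)) * χ (pderiv i (g j)) = 0 := fun i => by
    have h := congrArg res (congrFun hz i)
    rw [muX, mu_apply] at h
    simp only [Pi.add_apply, Pi.smul_apply, Function.comp_apply, smul_eq_mul, Finset.sum_apply, map_add, map_mul,
      map_sum, hπr, zero_mul, zero_add, Pi.zero_apply, map_zero, res] at h
    exact h
  have hsp := mem_span_poly_solutions χ (fun j i => pderiv i (g j)) (fun j => res (z (Sum.inr j))) hv
  let Z := Submodule.span Λ (dAt (evH R (Sum.elim x y)) '' I') ⊓ LinearMap.ker (muX π x g)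
  obtain ⟨z0, ⟨hz0, hz0'⟩, hz0r⟩ := exists_lift_of_span Z (LinearMap.funLeft Λ Λ Sum.inr) _ (fun s' hs' => by
    obtain ⟨p, hp, rfl⟩ := hs'
    obtain ⟨s, a, h, hs, hsf, hh⟩ := exists_sep π x g hg H (∑ j, p j * g j)
      (by
        rw [map_sum]
        exact (IsLocalRing.mem_maximalIdeal _).mp (Ideal.sum_mem _ fun j _ => by
          rw [map_mul]
          exact Ideal.mul_mem_left _ _ ((hg _).mp (Ideal.subset_span ⟨j, rfl⟩))))
      (fun i => by
        rw [← mem_nonunits_iff, ← IsLocalRing.mem_maximalIdeal, ← IsLocalRing.residue_eq_zero_iff]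
        have hgr : ∀ j, χ (g j) = 0 := fun j => (IsLocalRing.residue_eq_zero_iff _).mpr ((hg _).mp (Ideal.subset_span ⟨j, rfl⟩))
        show χ (pderiv i (∑ j, p j * g j)) = 0
        have h1 := hp i
        rw [map_sum] at h1
        simp only [map_sum, Derivation.leibniz, smul_eq_mul, map_add, map_mul, hgr, zero_mul, add_zero]
        simpa [map_mul] using h1)
    obtain ⟨eh, heh⟩ := exists_lift_of_mem_sq π g hh
    let e := ∑ j, rename Sum.inl (s * p j) * X (Sum.inr j) - rename Sum.inl a - C π * eh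
    have he : C π ^ 1 * e - rename Sum.inl (0 : MvPolynomial ι R) ∈ Ideal.span (Set.range (rel π g)) := by
      have h1 : ∑ j, rename Sum.inl (s * p j) * rel π g j ∈ Ideal.span (Set.range (rel π g)) :=
        Ideal.sum_mem _ fun j _ => Ideal.mul_mem_left _ _ (Ideal.subset_span ⟨j, rfl⟩)
      convert Ideal.sub_mem _ h1 heh using 1
      have hj : ∑ j, rename (R := R) (Sum.inl : ι → ι ⊕ Fin n) (s * p j) * rename Sum.inl (g j) =
          C π * rename Sum.inl a + rename Sum.inl h := by
        simp only [← map_mul, ← map_sum, mul_assoc, ← Finset.mul_sum, hsf]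
        simp only [map_add, map_mul, rename_C]
      simp only [rel, mul_sub, Finset.sum_sub_distrib, hj, map_zero, e, Finset.mul_sum]
      ring_nf
    obtain ⟨h1, h2⟩ := of_congr π x g y hy he
    rw [pow_one, show dAt (evH R x) (0 : MvPolynomial ι R) = 0 by funext i; simp [dAt], smul_zero] at h2
    have hres : ∀ j, res (dAt (evH R (Sum.elim x y)) e (Sum.inr j)) = res (evH R x s) * χ (p j) := fun j => by
      have h3 : ∀ b : MvPolynomial ι R, pderiv (Sum.inr j : ι ⊕ Fin n) (rename Sum.inl b) = 0 := fun b => by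
        apply pderiv_eq_zero_of_notMem_vars
        intro h
        have := vars_rename Sum.inl b h
        simp at this
      simp only [dAt, e, map_sub, map_sum, Derivation.leibniz, h3, pderiv_C, smul_zero, add_zero, zero_smul,
        smul_eq_mul, mul_zero, pderiv_X, sub_zero]
      rw [Finset.sum_eq_single j (fun b _ hb => by simp [hb]) (fun h => absurd (Finset.mem_univ j) h)]
      simp only [map_mul, Pi.single_eq_same, mul_one, psi_rename]
      simp [hπr, χ, res]
    obtain ⟨t, ht⟩ := hs.exists_left_inv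
    refine ⟨t • dAt (evH R (Sum.elim x y)) e, ⟨Submodule.smul_mem _ _ (Submodule.subset_span
      ⟨e, hI' e (hJ (by rwa [map_zero, sub_zero, pow_one] at he)), rfl⟩), ?_⟩, fun j => ?_⟩
    · show muX π x g (t • _) = 0
      rw [map_smul, smul_right_injective _ hπ0 (h2.trans (smul_zero _).symm), smul_zero]
    · show res (t * _) = _
      rw [map_mul, hres, ← mul_assoc, ← map_mul, ht, map_one, one_mul]) hsp
  have hdiv : ∀ j, algebraMap R Λ π ∣ z (Sum.inr j) - z0 (Sum.inr j) := fun j => by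
    rw [← Ideal.mem_span_singleton, ← H.maxL, ← IsLocalRing.residue_eq_zero_iff, map_sub]
    exact sub_eq_zero.mpr (hz0r j).symm
  choose t ht using hdiv
  let R' := ∑ j, t j • dAt (evH R (Sum.elim x y)) (rel π g j)
  have hR' : R' ∈ Submodule.span Λ (dAt (evH R (Sum.elim x y)) '' I') :=
    Submodule.sum_mem _ fun j _ => Submodule.smul_mem _ _ (Submodule.subset_span ⟨_, hJ (Ideal.subset_span ⟨j, rfl⟩), rfl⟩)
  have hR'μ : muX π x g R' = 0 := by
    simp only [R', map_sum, map_smul, mu_rel, smul_zero, Finset.sum_const_zero]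
  have hr : ∀ j, (z - z0 - R') (Sum.inr j) = 0 := fun j => by
    simp only [R', Pi.sub_apply, Finset.sum_apply, Pi.smul_apply, dAt_rel, dAt_rename_inr, sub_zero, smul_eq_mul,
      Pi.single_apply]
    rw [Finset.sum_eq_single j (fun b _ hb => by simp [Ne.symm hb]) (fun h => absurd (Finset.mem_univ j) h)]
    simp [ht]; ring
  have hl : muX π x g (z - z0 - R') = 0 := by
    rw [map_sub, map_sub, hz, LinearMap.mem_ker.mp hz0', hR'μ]; simp
  rw [muX, mu_apply] at hl
  simp only [hr, zero_smul, Finset.sum_const_zero, add_zero] at hl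
  have hzero : z - z0 - R' = 0 := by
    funext i
    cases i with
    | inl i => exact congrFun ((smul_eq_zero.mp hl).resolve_left hπ0) i
    | inr j => exact hr j
  rw [sub_eq_zero, sub_eq_iff_eq_add] at hzero
  rw [hzero]
  exact Submodule.add_mem _ hR' hz0

include H hy hg in
theorem mem_relDiff_of_mu_eq_zero (hπ0 : algebraMap R Λ π ≠ 0) (z : ι ⊕ Fin n → Λ) (hz : muX π x g z = 0) :
    z ∈ relDiff (R := R) (Sum.elim x y) :=
  mem_span_of_mu_eq_zero π x g y hy hg H hπ0 (RingHom.ker (evH R (Sum.elim x y)))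
    (fun _ he => (of_mem_J π x g y hy he).1)
    (fun e he => by
      rw [RingHom.mem_ker, map_mul] at he
      have hC : evH R (Sum.elim x y) (C π) = algebraMap R Λ π := by simp
      rw [hC] at he
      exact (mul_eq_zero.mp he).resolve_left hπ0) z hz

include H hy hg in
theorem exists_mem_map_notMem (hπ0 : algebraMap R Λ π ≠ 0) (w0 : ι → Λ)
    (hw0 : algebraMap R Λ π • w0 ∈ relDiff (R := R) x) (hw0' : w0 ∉ relDiff (R := R) x) :
    ∃ w ∈ (relDiff (R := R) (Sum.elim x y)).map (muX π x g), w ∉ relDiff (R := R) x := by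
  by_contra hcon
  push_neg at hcon
  apply hw0'
  let res := IsLocalRing.residue Λ
  let χ := res.comp (evH R x)
  obtain ⟨N, l, G, hsum⟩ := Submodule.mem_span_set'.mp hw0
  choose b hb0 hb using fun i => (G i).2
  have hπr : res (algebraMap R Λ π) = 0 :=
    (IsLocalRing.residue_eq_zero_iff _).mpr (H.maxL ▸ Ideal.mem_span_singleton_self _)
  have hv : ∀ i, ∑ j, res (l j) * χ (pderiv i (b j)) = 0 := fun i => by
    have h := congrArg res (congrFun hsum i)
    simp only [← hb, Pi.smul_apply, smul_eq_mul, Finset.sum_apply, map_mul, map_sum, hπr, zero_mul, res] at h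
    exact h
  let Φ : (Fin N → Λ) →ₗ[Λ] (ι → Λ) := Fintype.linearCombination Λ fun j => dAt (evH R x) (b j)
  let Z : Submodule Λ (Fin N → Λ) := (relDiff (R := R) x).map (algebraMap R Λ π • LinearMap.id) |>.comap Φ
  have hsp := mem_span_poly_solutions χ (fun j i => pderiv i (b j)) (fun j => res (l j)) hv
  obtain ⟨l0, hl0, hl0r⟩ := exists_lift_of_span Z LinearMap.id _ (fun s' hs' => by
    obtain ⟨p, hp, rfl⟩ := hs'
    let f := ∑ j, p j * b j
    have hf : evH R x f = 0 := by
      simp only [f, map_sum, map_mul]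
      exact Finset.sum_eq_zero fun j _ => by rw [show evH R x (b j) = 0 from hb0 j, mul_zero]
    have hdf : dAt (evH R x) f = Φ (fun j => evH R x (p j)) := by
      simp only [f, Φ, Fintype.linearCombination_apply, dAt_sum, dAt_mul]
      refine Finset.sum_congr rfl fun j _ => ?_
      rw [show evH R x (b j) = 0 from hb0 j, zero_smul, add_zero]
    have hdiv : ∀ i, ¬ IsUnit (dAt (evH R x) f i) := fun i => by
      rw [← mem_nonunits_iff, ← IsLocalRing.mem_maximalIdeal, ← IsLocalRing.residue_eq_zero_iff, hdf]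
      have h1 := hp i
      rw [map_sum] at h1
      simpa [Φ, Fintype.linearCombination_apply, Finset.sum_apply, dAt, χ] using h1
    obtain ⟨s, a, h, hs, hsf, hh⟩ := exists_sep π x g hg H f (by rw [hf]; exact not_isUnit_zero) hdiv
    obtain ⟨eh, heh⟩ := exists_lift_of_mem_sq π g hh
    have hψh := (of_congr π x g y hy heh).1
    have ha : a ∈ Ideal.span (Set.range g) := by
      rw [hg, ← mem_nonunits_iff, ← IsLocalRing.mem_maximalIdeal, H.maxL, Ideal.mem_span_singleton]
      have h0 := congrArg (evH R x) hsf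
      rw [map_mul, hf, mul_zero, map_add, map_mul, ← hψh] at h0
      have hC : evH R x (C π) = algebraMap R Λ π := by simp
      rw [hC, pow_two, mul_assoc, ← mul_add] at h0
      have := (mul_eq_zero.mp h0.symm).resolve_left hπ0
      exact ⟨-evH R (Sum.elim x y) eh, by rw [eq_neg_of_add_eq_zero_left this]; ring⟩
    obtain ⟨ea, hea⟩ := exists_lift_of_mem π g ha
    have he : C π ^ 2 * (ea + eh) - rename Sum.inl (s * f) ∈ Ideal.span (Set.range (rel π g)) := by
      convert Ideal.add_mem _ (Ideal.mul_mem_left _ (C π) hea) heh using 1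
      rw [hsf, map_add, map_mul, rename_C]
      ring
    obtain ⟨h1, h2⟩ := of_congr π x g y hy he
    rw [map_mul, hf, mul_zero] at h1
    rw [dAt_mul, hf, zero_smul, add_zero] at h2
    have hw : muX π x g (dAt (evH R (Sum.elim x y)) (ea + eh)) ∈ relDiff (R := R) x :=
      hcon _ ⟨_, Submodule.subset_span ⟨_, (mul_eq_zero.mp h1).resolve_left (pow_ne_zero _ hπ0), rfl⟩, rfl⟩
    obtain ⟨t, ht⟩ := hs.exists_left_inv
    refine ⟨fun j => evH R x (p j), ?_, fun j => rfl⟩
    show Φ (fun j => evH R x (p j)) ∈ (relDiff (R := R) x).map (algebraMap R Λ π • LinearMap.id)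
    rw [← hdf]
    refine ⟨t • muX π x g (dAt (evH R (Sum.elim x y)) (ea + eh)), Submodule.smul_mem _ _ hw, ?_⟩
    show algebraMap R Λ π • t • muX π x g (dAt (evH R (Sum.elim x y)) (ea + eh)) = _
    apply smul_right_injective _ hπ0
    show algebraMap R Λ π • algebraMap R Λ π • t • _ = algebraMap R Λ π • _
    rw [smul_comm (algebraMap R Λ π) t, smul_comm (algebraMap R Λ π) t, smul_smul (algebraMap R Λ π),
      ← pow_two, h2, smul_comm t, smul_smul t, ht, one_smul]) hsp
  have hdiv : ∀ j, algebraMap R Λ π ∣ l j - l0 j := fun j => by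
    rw [← Ideal.mem_span_singleton, ← H.maxL, ← IsLocalRing.residue_eq_zero_iff, map_sub]
    exact sub_eq_zero.mpr (hl0r j).symm
  choose t ht using hdiv
  obtain ⟨m, hm, hmeq⟩ := hl0
  have hΦl : Φ l = algebraMap R Λ π • w0 := by
    rw [← hsum]
    simp only [Φ, Fintype.linearCombination_apply, hb]
  have h2 : Φ l = algebraMap R Λ π • (m + Φ t) := by
    rw [smul_add, ← map_smul]
    have : algebraMap R Λ π • m = Φ l0 := hmeq
    rw [this, ← map_add]
    congr 1
    funext j
    simp only [Pi.add_apply, Pi.smul_apply, smul_eq_mul, ← ht]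
    ring
  rw [smul_right_injective _ hπ0 (hΦl.symm.trans h2)]
  refine Submodule.add_mem _ hm ?_
  simp only [Φ, Fintype.linearCombination_apply]
  exact Submodule.sum_mem _ fun j _ => Submodule.smul_mem _ _ (Submodule.subset_span ⟨b j, hb0 j, rfl⟩)

omit [IsLocalHom (algebraMap R Λ)] [IsLocalRing R] in
theorem delta_ne_top [IsDiscreteValuationRing Λ] : delta R x ≠ ⊤ := by
  let T := Submodule.torsion Λ ((ι → Λ) ⧸ relDiff (R := R) x)
  obtain ⟨N, v, hv⟩ := Submodule.fg_iff_exists_fin_generating_family.mp (Module.Finite.fg_top : (⊤ : Submodule Λ T).FG)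
  choose a ha using fun i => (v i).2
  let d : Λ := ∏ i, (a i : Λ)
  have hd : d ∈ nonZeroDivisors Λ := Submonoid.prod_mem _ fun i _ => (a i).2
  have hkill : ∀ i, d • v i = 0 := fun i => by
    obtain ⟨c, hc⟩ := Finset.dvd_prod_of_mem (fun i => (a i : Λ)) (Finset.mem_univ i)
    apply Subtype.ext
    show d • ((v i : T) : (ι → Λ) ⧸ relDiff (R := R) x) = 0
    rw [show d = c * (a i : Λ) by rw [mul_comm]; exact hc, mul_smul, show (a i : Λ) • ((v i : T) : (ι → Λ) ⧸ relDiff (R := R) x) = 0 from ha i, smul_zero]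
  let Q := Fin N → Λ ⧸ Ideal.span {d}
  let f0 : (Fin N → Λ) →ₗ[Λ] T := Fintype.linearCombination Λ v
  have hf0 : Function.Surjective f0 := by
    rw [← LinearMap.range_eq_top, Fintype.range_linearCombination, hv]
  let K : Submodule Λ (Fin N → Λ) := Submodule.pi Set.univ fun _ => Ideal.span {d}
  have hK : K ≤ LinearMap.ker f0 := fun u hu => by
    rw [LinearMap.mem_ker]
    refine (Fintype.linearCombination_apply Λ v u).trans (Finset.sum_eq_zero fun i _ => ?_)
    obtain ⟨c, hc⟩ := Ideal.mem_span_singleton'.mp (hu i trivial)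
    rw [← hc, mul_smul, hkill, smul_zero]
  let f1 := (K.liftQ f0 hK).comp (Submodule.quotientPi (fun _ : Fin N => (Ideal.span {d} : Ideal Λ))).symm.toLinearMap
  have hf1 : Function.Surjective f1 := fun y => by
    obtain ⟨u, rfl⟩ := hf0 y
    exact ⟨Submodule.quotientPi _ (Submodule.Quotient.mk u), by simp only [f1, LinearMap.comp_apply, LinearEquiv.coe_coe, LinearEquiv.symm_apply_apply]; rfl⟩
  refine ne_top_of_le_ne_top ?_ (Module.length_le_of_surjective f1 hf1)
  rw [Module.length_pi_of_fintype]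
  exact WithTop.sum_ne_top.mpr fun _ _ => Module.length_ne_top_iff.mpr (isFiniteLength_quotient_span_singleton Λ hd)

include H hy hg in
theorem delta_lt [IsDiscreteValuationRing Λ] (hπ0 : algebraMap R Λ π ≠ 0) (w0 : ι → Λ)
    (hw0 : algebraMap R Λ π • w0 ∈ relDiff (R := R) x) (hw0' : w0 ∉ relDiff (R := R) x) :
    delta R (Sum.elim x y) < delta R x := by
  let M := relDiff (R := R) x
  let M' := relDiff (R := R) (Sum.elim x y)
  let P := M'.map (muX π x g)
  have hsat : ∀ w ∈ P, ∃ a : Λ, a ≠ 0 ∧ a • w ∈ M := by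
    rintro _ ⟨z, hz, rfl⟩
    exact mu_relDiff_le π x g y hy hπ0 hz
  let q : (ι → Λ) ⧸ M →ₗ[Λ] (ι → Λ) ⧸ P := Submodule.factor (relDiff_le_map π x g y hy hg hπ0)
  let T := Submodule.torsion Λ ((ι → Λ) ⧸ M)
  let T2 := Submodule.torsion Λ ((ι → Λ) ⧸ P)
  let T' := Submodule.torsion Λ ((ι ⊕ Fin n → Λ) ⧸ M')
  let μb : (ι ⊕ Fin n → Λ) ⧸ M' →ₗ[Λ] (ι → Λ) ⧸ P := M'.mapQ P (muX π x g) (Submodule.le_comap_map _ _)
  have hμT : ∀ z ∈ T', μb z ∈ T2 := by
    rintro z ⟨a, ha⟩
    exact ⟨a, by show (a : Λ) • μb z = 0; rw [← map_smul, show (a : Λ) • z = 0 from ha, map_zero]⟩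
  have hμinj : Function.Injective μb := by
    refine (injective_iff_map_eq_zero _).mpr fun z hz => ?_
    obtain ⟨z, rfl⟩ := Submodule.Quotient.mk_surjective _ z
    obtain ⟨z', hz', he⟩ := (Submodule.Quotient.mk_eq_zero _).mp hz
    rw [Submodule.Quotient.mk_eq_zero]
    have := Submodule.add_mem _ (mem_relDiff_of_mu_eq_zero π x g y hy hg H hπ0 (z - z')
      (by rw [map_sub, he, sub_self])) hz'
    rwa [sub_add_cancel] at this
  have h1 : delta R (Sum.elim x y) ≤ Module.length Λ T2 := by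
    refine Module.length_le_of_injective ((μb.comp T'.subtype).codRestrict T2 fun z => hμT _ z.2) ?_
    exact fun z z' h => Subtype.ext (hμinj (congrArg Subtype.val h))
  have hqT : ∀ z ∈ T, q z ∈ T2 := by
    rintro z ⟨a, ha⟩
    exact ⟨a, by show (a : Λ) • q z = 0; rw [← map_smul, show (a : Λ) • z = 0 from ha, map_zero]⟩
  let qT : T →ₗ[Λ] T2 := (q.comp T.subtype).codRestrict T2 fun z => hqT _ z.2
  have hqsur : Function.Surjective qT := by
    rintro ⟨z, a, ha⟩
    obtain ⟨w, rfl⟩ := Submodule.Quotient.mk_surjective _ z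
    have ha' : (a : Λ) • w ∈ P := (Submodule.Quotient.mk_eq_zero _).mp ha
    obtain ⟨b, hb, hbw⟩ := hsat _ ha'
    refine ⟨⟨Submodule.Quotient.mk w, ⟨b * a, mem_nonZeroDivisors_of_ne_zero (mul_ne_zero hb (nonZeroDivisors.coe_ne_zero a))⟩, ?_⟩, rfl⟩
    show (b * (a : Λ)) • Submodule.Quotient.mk w = (0 : (ι → Λ) ⧸ M)
    rw [mul_smul, ← Submodule.Quotient.mk_smul, ← Submodule.Quotient.mk_smul]
    exact (Submodule.Quotient.mk_eq_zero _).mpr hbw
  obtain ⟨w, hwP, hwM⟩ := exists_mem_map_notMem π x g y hy hg H hπ0 w0 hw0 hw0'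
  obtain ⟨a, ha, haw⟩ := hsat w hwP
  have hwT : Submodule.Quotient.mk w ∈ T := ⟨⟨a, mem_nonZeroDivisors_of_ne_zero ha⟩, (Submodule.Quotient.mk_eq_zero M).mpr haw⟩
  haveI : Nontrivial (LinearMap.ker qT) := by
    refine ⟨⟨⟨⟨_, hwT⟩, ?_⟩, 0, fun h => hwM ?_⟩⟩
    · exact Subtype.ext ((Submodule.Quotient.mk_eq_zero P).mpr hwP)
    · exact (Submodule.Quotient.mk_eq_zero M).mp (congrArg (fun z : LinearMap.ker qT => ((z : T) : (ι → Λ) ⧸ M)) h)
  have hexact : Function.Exact (LinearMap.ker qT).subtype qT := fun z =>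
    ⟨fun hz => ⟨⟨z, hz⟩, rfl⟩, by rintro ⟨⟨z, hz⟩, rfl⟩; exact hz⟩
  have hlen : Module.length Λ T = Module.length Λ (LinearMap.ker qT) + Module.length Λ T2 :=
    Module.length_eq_add_of_exact (R := Λ) (M := T) (N := LinearMap.ker qT) (P := T2)
      (LinearMap.ker qT).subtype qT Subtype.val_injective hqsur hexact
  have hfin : delta R x ≠ ⊤ := delta_ne_top x
  refine h1.trans_lt ?_
  rw [show delta R x = _ from hlen]
  have h2 : Module.length Λ T2 ≠ ⊤ := ne_top_of_le_ne_top hfin (Module.length_le_of_surjective qT hqsur)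
  conv_lhs => rw [← zero_add (Module.length Λ T2)]
  exact WithTop.add_lt_add_right h2 Module.length_pos

end Groth.L14.Smoothing.Neron
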