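import Groth.Agent.L03.FieldFS
import Groth.Agent.L03.GeomReduced
import Mathlib.RingTheory.Kaehler.JacobiZariski
import Mathlib.RingTheory.Unramified.Field
import Mathlib.FieldTheory.KummerExtension
import Mathlib.FieldTheory.PurelyInseparable.Basic
import Mathlib.RingTheory.TensorProduct.Free

/-!
For `K/k` in characteristic `p` with finite dimensional `H¹` of the cotangent complex: a subfield `L ⊆ k` with
`K/L` formally smooth such that `k` is generated by `L`, the `p^N`-th powers and finitely many elements.
-/

set_option autoImplicit false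
universe u

open TensorProduct

namespace Groth.L14.Smoothing

section powers

variable {k : Type u} [Field k] (p : ℕ) [Fact p.Prime] [CharP k p]

/-- A subring containing all `p`-th powers is a subfield. -/
def subfieldOfPow (R : Subring k) (h : ∀ x : k, x ^ p ∈ R) : Subfield k :=
  { R with
    inv_mem' := fun y hy => by
      rcases eq_or_ne y 0 with rfl | hy0
      · rw [inv_zero]; exact R.zero_mem
      have : y⁻¹ = y ^ (p - 1) * (y⁻¹) ^ p := by
        rw [inv_pow, ← div_eq_mul_inv, eq_div_iff (pow_ne_zero _ hy0), ← pow_sub_one_mul (Fact.out (p := p.Prime)).ne_zero]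
        field_simp
      rw [this]
      exact R.mul_mem (R.pow_mem hy _) (h _) }

theorem mem_subfieldOfPow (R : Subring k) (h : ∀ x : k, x ^ p ∈ R) (x : k) :
    x ∈ subfieldOfPow p R h ↔ x ∈ R := Iff.rfl

/-- A subfield containing the `p`-th powers over which `k` has no differentials is everything. -/
theorem eq_top_of_formallyUnramified (F : Subfield k) (hpow : ∀ x : k, x ^ p ∈ F)
    [Algebra.FormallyUnramified F k] : F = ⊤ := by
  by_contra hne
  obtain ⟨x, hx⟩ : ∃ x, x ∉ F := by
    by_contra h; push Not at h; exact hne (eq_top_iff.2 fun y _ => h y)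
  obtain ⟨M, hFM, hM⟩ := zorn_le_nonempty₀ {E : Subfield k | F ≤ E ∧ x ∉ E} (fun c hc hch y hy => by
    refine ⟨sSup c, ⟨le_trans (hc hy).1 (le_sSup hy), ?_⟩, fun z hz => le_sSup hz⟩
    rw [Subfield.mem_sSup_of_directedOn ⟨y, hy⟩ hch.directedOn]
    rintro ⟨z, hz, hxz⟩
    exact (hc hz).2 hxz) F ⟨le_rfl, hx⟩
  letI : Algebra F M := (Subfield.inclusion hFM).toAlgebra
  haveI : IsScalarTower F M k := IsScalarTower.of_algebraMap_eq fun _ => rfl
  haveI : Algebra.FormallyUnramified M k := Algebra.FormallyUnramified.of_restrictScalars F M k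
  have hxM : x ∉ M := hM.prop.2
  have hdeg : ∀ y : k, y ∉ M → Module.finrank M (IntermediateField.adjoin M {y}) = p := by
    intro y hy
    have hirr : Irreducible (Polynomial.X ^ p - Polynomial.C (⟨y ^ p, hFM (hpow y)⟩ : M)) := by
      refine X_pow_sub_C_irreducible_of_prime Fact.out fun b hb => hy ?_
      have h1 : (b : k) ^ p = y ^ p := congrArg Subtype.val hb
      have h2 : (frobenius k p) (b : k) = frobenius k p y := h1
      exact (frobenius_inj k p h2) ▸ b.2
    have hint : IsIntegral M y := ⟨Polynomial.X ^ p - Polynomial.C ⟨y ^ p, hFM (hpow y)⟩,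
      Polynomial.monic_X_pow_sub_C _ (Fact.out (p := p.Prime)).ne_zero, by simp [Polynomial.eval₂_sub]; exact sub_self _⟩
    rw [IntermediateField.adjoin.finrank hint, ← minpoly.eq_of_irreducible_of_monic hirr (by simp; exact sub_self _)
      (Polynomial.monic_X_pow_sub_C _ (Fact.out (p := p.Prime)).ne_zero), Polynomial.natDegree_X_pow_sub_C]
  have htop : (IntermediateField.adjoin M {x} : IntermediateField M k) = ⊤ := by
    refine eq_top_iff.2 fun y _ => ?_
    by_cases hy : y ∈ M
    · exact IntermediateField.algebraMap_mem _ (⟨y, hy⟩ : M)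
    have hxy : x ∈ IntermediateField.adjoin M {y} := by
      by_contra hxy
      have h := hM.le_of_ge (y := (IntermediateField.adjoin M {y}).toSubfield)
        ⟨hFM.trans fun z hz => IntermediateField.algebraMap_mem _ (⟨z, hz⟩ : M), hxy⟩
        (fun z hz => IntermediateField.algebraMap_mem _ (⟨z, hz⟩ : M))
      exact hy (h (IntermediateField.mem_adjoin_simple_self M y))
    haveI : FiniteDimensional M (IntermediateField.adjoin M {y}) :=
      .of_finrank_pos (by rw [hdeg y hy]; exact (Fact.out (p := p.Prime)).pos)
    rw [IntermediateField.eq_of_le_of_finrank_eq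
      (IntermediateField.adjoin_le_iff.2 (Set.singleton_subset_iff.2 hxy)) (by rw [hdeg y hy, hdeg x hxM])]
    exact IntermediateField.mem_adjoin_simple_self M y
  haveI : FiniteDimensional M k := by
    refine .of_finrank_pos ?_
    rw [← IntermediateField.finrank_top', ← htop, hdeg x hxM]
    exact (Fact.out (p := p.Prime)).pos
  haveI : Algebra.IsSeparable M k := Algebra.FormallyUnramified.isSeparable M k
  haveI : ExpChar k p := ExpChar.prime Fact.out
  haveI : IsPurelyInseparable M k := by
    haveI : ExpChar M p := Subfield.expChar M p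
    exact (isPurelyInseparable_iff_pow_mem M p).2 fun y => ⟨1, ⟨⟨y ^ p, hFM (hpow y)⟩, by rw [pow_one]; rfl⟩⟩
  obtain ⟨m, hm⟩ := IsPurelyInseparable.surjective_algebraMap_of_isSeparable M k x
  exact hxM (hm ▸ m.2)

/-- A set generating `k` over the `p`-th powers generates it over the `p^N`-th powers. -/
theorem closure_pow_eq_top (B : Set k) (h1 : Subring.closure (Set.range (fun x : k => x ^ p) ∪ B) = ⊤) :
    ∀ N : ℕ, Subring.closure (Set.range (fun x : k => x ^ p ^ N) ∪ B) = ⊤ := by
  intro N
  induction N with
  | zero =>
    refine eq_top_iff.2 fun x _ => Subring.subset_closure (Or.inl ⟨x, ?_⟩)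
    simp
  | succ N ih =>
    rw [eq_top_iff, ← h1, Subring.closure_le]
    rintro z (⟨x, rfl⟩ | hz)
    · have : Subring.closure (Set.range (fun x : k => x ^ p ^ N) ∪ B) ≤
          (Subring.closure (Set.range (fun x : k => x ^ p ^ (N + 1)) ∪ B)).comap (frobenius k p) := by
        rw [Subring.closure_le]
        rintro z (⟨y, rfl⟩ | hz)
        · refine Subring.subset_closure (Or.inl ⟨y, ?_⟩)
          simp [frobenius_def, ← pow_mul, pow_succ]
        · show z ^ p ∈ Subring.closure (Set.range (fun x : k => x ^ p ^ (N + 1)) ∪ B)
          have hzm : z ∈ Subring.closure (Set.range (fun x : k => x ^ p ^ (N + 1)) ∪ B) :=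
            Subring.subset_closure (Or.inr hz)
          exact pow_mem hzm p
      have h := this (ih ▸ Subring.mem_top x)
      exact h
    · exact Subring.subset_closure (Or.inr hz)

end powers

section main

variable {k K : Type u} [Field k] [Field K] [Algebra k K] (p : ℕ) [Fact p.Prime] [CharP k p]

theorem exists_formallySmooth_subfield (hH : Module.Finite K (Algebra.H1Cotangent k K)) :
    ∃ (L : Subfield k) (S : Finset k),
      (∀ N : ℕ, Subring.closure (Set.range (fun x : k => x ^ p ^ N) ∪ ((L : Set k) ∪ ↑S)) = ⊤) ∧
      Algebra.FormallySmooth L K := by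
  classical
  let P : Subfield k := ⊥
  haveI : PerfectField P := L03.GeomReduced.perfectField_bot k
  obtain ⟨T, hTsub, hTspan, hTli⟩ := exists_linearIndependent k (Set.range (KaehlerDifferential.D P k))
  rw [KaehlerDifferential.span_range_derivation] at hTspan
  choose β hβ using fun t : T => hTsub t.2
  let bT : Module.Basis T k (Ω[k⁄P]) := Module.Basis.mk hTli (by rw [Subtype.range_coe, hTspan])
  let bK : Module.Basis T K (K ⊗[k] Ω[k⁄P]) := Algebra.TensorProduct.basis K bT
  let V := LinearMap.ker (KaehlerDifferential.mapBaseChange P k K)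
  have hV : V.FG := by
    have : V = LinearMap.range (Algebra.H1Cotangent.δ P k K) :=
      LinearMap.exact_iff.1 (Algebra.H1Cotangent.exact_δ_mapBaseChange P k K)
    rw [this]
    exact Submodule.fg_range _
  obtain ⟨W, hW⟩ := hV
  let S0 : Finset T := W.biUnion fun w => (bK.repr w).support
  have hV0 : ∀ v ∈ V, ∀ t, t ∉ S0 → bK.repr v t = 0 := by
    intro v hv t ht
    rw [← hW] at hv
    induction hv using Submodule.span_induction with
    | mem w hw =>
      by_contra h
      exact ht (Finset.mem_biUnion.2 ⟨w, hw, Finsupp.mem_support_iff.2 h⟩)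
    | zero => simp
    | add a b _ _ ha hb => simp [ha, hb]
    | smul c a _ ha => simp [ha]
  let T' := {t : T // t ∉ S0}
  let Li : IntermediateField P k := IntermediateField.adjoin P (Set.range fun t : T' => β t.1)
  refine ⟨Li.toSubfield, S0.image β, ?_, ?_⟩
  · let B : Set k := (Li.toSubfield : Set k) ∪ ↑(S0.image β)
    refine closure_pow_eq_top p B ?_
    let R := Subring.closure (Set.range (fun x : k => x ^ p) ∪ B)
    have hR : ∀ x : k, x ^ p ∈ R := fun x => Subring.subset_closure (Or.inl ⟨x, rfl⟩)
    let F := subfieldOfPow p R hR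
    letI : Algebra P F := (Subfield.inclusion (bot_le (a := F))).toAlgebra
    haveI : IsScalarTower P F k := IsScalarTower.of_algebraMap_eq fun _ => rfl
    have hsurj := KaehlerDifferential.map_surjective P F k
    haveI : Algebra.FormallyUnramified F k := by
      refine ⟨?_⟩
      have h0 : ∀ y : Ω[k⁄P], KaehlerDifferential.map P F k k y = 0 := by
        intro y
        have hy : y ∈ Submodule.span k (Set.range bT) := by rw [bT.span_eq]; trivial
        induction hy using Submodule.span_induction with
        | mem w hw =>
          obtain ⟨t, rfl⟩ := hw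
          rw [show bT t = KaehlerDifferential.D P k (β t) from (Module.Basis.mk_apply _ _ t).trans (hβ t).symm,
            KaehlerDifferential.map_D]
          have hmem : β t ∈ F := by
            refine Subring.subset_closure (Or.inr ?_)
            by_cases ht : t ∈ S0
            · exact Or.inr (Finset.mem_coe.2 (Finset.mem_image_of_mem _ ht))
            · exact Or.inl (IntermediateField.subset_adjoin P _ ⟨⟨t, ht⟩, rfl⟩)
          exact (KaehlerDifferential.D F k).map_algebraMap (⟨β t, hmem⟩ : F)
        | zero => simp
        | add a b _ _ ha hb => simp [ha, hb]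
        | smul c a _ ha => simp [ha]
      exact ⟨fun a b => by obtain ⟨a, rfl⟩ := hsurj a; obtain ⟨b, rfl⟩ := hsurj b; rw [h0, h0]⟩
    have := eq_top_of_formallyUnramified p F hR
    exact eq_top_iff.2 fun x _ => (mem_subfieldOfPow p R hR x).1 (show x ∈ F by rw [this]; exact Subfield.mem_top x)
  · show Algebra.FormallySmooth Li K
    haveI : Algebra.FormallySmooth P K := L03.FieldFS.formallySmooth_of_perfectField P K
    refine ⟨inferInstance, ⟨fun a b => ?_⟩⟩
    suffices h : ∀ a : Algebra.H1Cotangent Li K, a = 0 by rw [h a, h b]
    intro a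
    let e : T' → Li := fun t => ⟨β t.1, IntermediateField.subset_adjoin P _ ⟨t, rfl⟩⟩
    let g := KaehlerDifferential.mapBaseChange P Li K
    have hspan : ⊤ ≤ Submodule.span K (Set.range fun t : T' => (1 : K) ⊗ₜ[Li] KaehlerDifferential.D P Li (e t)) := by
      set W' := Submodule.span K (Set.range fun t : T' => (1 : K) ⊗ₜ[Li] KaehlerDifferential.D P Li (e t))
      have hD : ∀ (x : k) (hx : x ∈ Li), (1 : K) ⊗ₜ[Li] KaehlerDifferential.D P Li ⟨x, hx⟩ ∈ W' := by
        intro x hx
        induction hx using IntermediateField.adjoin_induction with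
        | mem y hy =>
          obtain ⟨t, rfl⟩ := hy
          exact Submodule.subset_span ⟨t, rfl⟩
        | algebraMap c =>
          rw [show (⟨algebraMap P k c, _⟩ : Li) = algebraMap P Li c from rfl,
            Derivation.map_algebraMap, TensorProduct.tmul_zero]
          exact W'.zero_mem
        | add y z hy hz ihy ihz =>
          rw [show (⟨y + z, _⟩ : Li) = ⟨y, hy⟩ + ⟨z, hz⟩ from rfl, map_add, TensorProduct.tmul_add]
          exact W'.add_mem ihy ihz
        | inv y hy ih =>
          rw [show (⟨y⁻¹, _⟩ : Li) = (⟨y, hy⟩ : Li)⁻¹ from rfl, Derivation.leibniz_inv, TensorProduct.tmul_smul]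
          exact W'.smul_of_tower_mem _ ih
        | mul y z hy hz ihy ihz =>
          rw [show (⟨y * z, _⟩ : Li) = ⟨y, hy⟩ * ⟨z, hz⟩ from rfl, Derivation.leibniz, TensorProduct.tmul_add,
            TensorProduct.tmul_smul, TensorProduct.tmul_smul]
          exact W'.add_mem (W'.smul_of_tower_mem _ ihz) (W'.smul_of_tower_mem _ ihy)
      rintro z -
      induction z using TensorProduct.induction_on with
      | zero => exact W'.zero_mem
      | add a b ha hb => exact W'.add_mem ha hb
      | tmul c w =>
        have hw : w ∈ Submodule.span Li (Set.range (KaehlerDifferential.D P Li)) := by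
          rw [KaehlerDifferential.span_range_derivation]; trivial
        induction hw using Submodule.span_induction generalizing c with
        | mem w hw =>
          obtain ⟨x, rfl⟩ := hw
          rw [← mul_one c, ← smul_eq_mul, ← TensorProduct.smul_tmul']
          exact W'.smul_mem c (hD x.1 x.2)
        | zero => rw [TensorProduct.tmul_zero]; exact W'.zero_mem
        | add a b _ _ ha hb => rw [TensorProduct.tmul_add]; exact W'.add_mem (ha c) (hb c)
        | smul r a _ ha => rw [← TensorProduct.smul_tmul]; exact ha _
    have hg : Function.Injective g := by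
      rw [injective_iff_map_eq_zero]
      intro z hz
      obtain ⟨c, rfl⟩ := (Finsupp.mem_span_range_iff_exists_finsupp).1 (hspan (Submodule.mem_top (x := z)))
      let v : K ⊗[k] Ω[k⁄P] := c.sum fun t r => r • bK t.1
      have hv : v ∈ V := by
        rw [LinearMap.mem_ker, ← hz]
        simp only [v, g, map_finsuppSum, map_smul]
        refine Finsupp.sum_congr fun t _ => ?_
        congr 1
        rw [show bK t.1 = (1 : K) ⊗ₜ[k] KaehlerDifferential.D P k (β t.1) from by
          rw [Algebra.TensorProduct.basis_apply, show bT t.1 = _ from (Module.Basis.mk_apply _ _ t.1).trans (hβ t.1).symm],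
          KaehlerDifferential.mapBaseChange_tmul, KaehlerDifferential.mapBaseChange_tmul,
          KaehlerDifferential.map_D, KaehlerDifferential.map_D]
        rfl
      have hc : c = 0 := by
        refine Finsupp.ext fun t => ?_
        have h1 := hV0 v hv t.1 t.2
        rw [show v = Finsupp.linearCombination K bK (c.mapDomain Subtype.val) from by
          rw [Finsupp.linearCombination_mapDomain, Finsupp.linearCombination_apply]; rfl,
          Module.Basis.repr_linearCombination, Finsupp.mapDomain_apply Subtype.val_injective] at h1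
        exact h1
      simp [hc]
    have hδ : Function.Injective (Algebra.H1Cotangent.δ P Li K) := by
      rw [← LinearMap.ker_eq_bot, (Algebra.H1Cotangent.exact_map_δ P Li K).linearMap_ker_eq]
      rw [eq_bot_iff]
      rintro _ ⟨w, rfl⟩
      rw [Subsingleton.elim w 0, map_zero]
      exact Submodule.zero_mem _
    refine hδ ?_
    refine hg ?_
    rw [map_zero, map_zero]
    exact (Algebra.H1Cotangent.exact_δ_mapBaseChange P Li K).apply_apply_eq_zero a

end main

end Groth.L14.Smoothing
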