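import Mathlib.RingTheory.Smooth.Basic
import Mathlib.RingTheory.Kaehler.Polynomial
import Mathlib.LinearAlgebra.TensorProduct.Tower
import Mathlib.Tactic

/-!
A presentation whose relations have a Jacobian with a right inverse is formally smooth, and the
differentials are stably free.
-/

open MvPolynomial KaehlerDifferential TensorProduct

namespace Groth.L14.Smoothing

universe u v

variable {R S : Type u} [CommRing R] [CommRing S] [Algebra R S] {σ τ : Type v} [Fintype σ] [Fintype τ]
  [DecidableEq τ]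

theorem split_of_jacobian (π : MvPolynomial σ R →ₐ[R] S) (hπ : Function.Surjective π)
    (G : τ → MvPolynomial σ R) (hG : ∀ t, π (G t) = 0)
    (hJ : RingHom.ker π ≤ Ideal.span (Set.range G) ⊔ RingHom.ker π ^ 2)
    (N : σ → τ → S) (hN : ∀ s t, ∑ i, π (pderiv i (G s)) * N i t = if s = t then 1 else 0) :
    Algebra.FormallySmooth R S ∧ Nonempty ((Ω[S⁄R] × (τ → S)) ≃ₗ[S] (σ → S)) := by
  classical
  letI : Algebra (MvPolynomial σ R) S := π.toRingHom.toAlgebra
  haveI : IsScalarTower R (MvPolynomial σ R) S := IsScalarTower.of_algebraMap_eq fun r => (π.commutes r).symm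
  let J := RingHom.ker (algebraMap (MvPolynomial σ R) S)
  let e : S ≃ₐ[MvPolynomial σ R] (MvPolynomial σ R ⧸ J) :=
    (Ideal.quotientKerAlgEquivOfSurjective (f := Algebra.ofId (MvPolynomial σ R) S) hπ).symm
  let g : τ → J.Cotangent := fun t => J.toCotangent ⟨G t, hG t⟩
  choose N' hN' using fun i t => hπ (N i t)
  let bΩ := KaehlerDifferential.mvPolynomialBasis R σ
  let ψ : Ω[MvPolynomial σ R⁄R] →ₗ[MvPolynomial σ R] J.Cotangent :=
    bΩ.constr (MvPolynomial σ R) fun i => ∑ t, N' i t • g t
  let l : S ⊗[MvPolynomial σ R] Ω[MvPolynomial σ R⁄R] →ₗ[MvPolynomial σ R] J.Cotangent :=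
    TensorProduct.lift (LinearMap.mk₂ (MvPolynomial σ R) (fun s ω => e s • ψ ω)
      (fun s s' ω => by rw [map_add, add_smul]) (fun a s ω => by rw [map_smul, smul_assoc])
      (fun s ω ω' => by rw [map_add, smul_add]) (fun a s ω => by rw [map_smul, smul_comm]))
  have hψD : ∀ x, ψ (D R _ x) = ∑ i, pderiv i x • ∑ t, N' i t • g t := by
    intro x
    rw [Module.Basis.constr_apply_fintype]
    simp [bΩ, Module.Basis.equivFun_apply]
  have hsmul : ∀ (a b : MvPolynomial σ R) (c : J.Cotangent), π a = π b → a • c = b • c := by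
    intro a b c hab
    obtain ⟨⟨x, hx⟩, rfl⟩ := J.toCotangent_surjective c
    rw [← map_smul, ← map_smul, Ideal.toCotangent_eq, pow_two]
    show a * x - b * x ∈ J * J
    rw [← sub_mul]
    exact Ideal.mul_mem_mul (show π (a - b) = 0 by rw [map_sub, hab, sub_self]) hx
  have hl : l ∘ₗ kerCotangentToTensor R (MvPolynomial σ R) S = LinearMap.id := by
    have hgen : ∀ s, l (kerCotangentToTensor R (MvPolynomial σ R) S (g s)) = g s := by
      intro s
      rw [kerCotangentToTensor_toCotangent]
      show e 1 • ψ (D R _ (G s)) = g s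
      rw [map_one, one_smul, hψD]
      simp only [Finset.smul_sum, smul_smul]
      rw [Finset.sum_comm]
      simp only [← Finset.sum_smul]
      rw [Finset.sum_eq_single s]
      · rw [hsmul _ 1 _ (by simp [map_sum, hN', hN]), one_smul]
      · intro t _ hts
        rw [hsmul _ 0 _ (by simp [map_sum, hN', hN, Ne.symm hts]), zero_smul]
      · intro h; exact absurd (Finset.mem_univ s) h
    refine LinearMap.ext fun c => ?_
    obtain ⟨⟨x, hx⟩, rfl⟩ := J.toCotangent_surjective c
    obtain ⟨y, hy, z, hz, hyz⟩ := Submodule.mem_sup.mp (hJ hx)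
    obtain ⟨a, ha⟩ := (Ideal.mem_span_range_iff_exists_fun).mp hy
    have hc : J.toCotangent ⟨x, hx⟩ = ∑ t, a t • g t := by
      simp only [g, ← map_smul, ← map_sum]
      rw [Ideal.toCotangent_eq, AddSubmonoidClass.coe_finsetSum]
      show x - ∑ t, a t * G t ∈ J ^ 2
      rw [ha, ← hyz, add_sub_cancel_left]
      exact hz
    rw [hc, map_sum, LinearMap.id_apply]
    exact Finset.sum_congr rfl fun t _ => by rw [map_smul, LinearMap.comp_apply, hgen]
  refine ⟨(Algebra.FormallySmooth.iff_split_injection (P := MvPolynomial σ R) hπ).mpr ⟨l, hl⟩, ?_⟩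
  let bS := bΩ.baseChange S
  let Mt : (τ → S) →ₗ[S] (σ → S) :=
    LinearMap.pi fun i => ∑ t, π (pderiv i (G t)) • LinearMap.proj t
  let Nt : (σ → S) →ₗ[S] (τ → S) :=
    LinearMap.pi fun t => ∑ i, N i t • LinearMap.proj i
  have hNM : ∀ c, Nt (Mt c) = c := by
    intro c
    funext t
    simp only [Nt, Mt, LinearMap.pi_apply, LinearMap.sum_apply, LinearMap.smul_apply, LinearMap.proj_apply,
      smul_eq_mul, Finset.mul_sum]
    rw [Finset.sum_comm]
    rw [Finset.sum_eq_single t]
    · calc ∑ i, N i t * (π (pderiv i (G t)) * c t) = (∑ i, π (pderiv i (G t)) * N i t) * c t := by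
            rw [Finset.sum_mul]; exact Finset.sum_congr rfl fun i _ => by ring
        _ = c t := by rw [hN, if_pos rfl, one_mul]
    · intro s _ hst
      calc ∑ i, N i t * (π (pderiv i (G s)) * c s) = (∑ i, π (pderiv i (G s)) * N i t) * c s := by
            rw [Finset.sum_mul]; exact Finset.sum_congr rfl fun i _ => by ring
        _ = 0 := by rw [hN, if_neg hst, zero_mul]
    · intro h; exact absurd (Finset.mem_univ t) h
  have hrepr : ∀ (x : MvPolynomial σ R) i, bS.equivFun ((1 : S) ⊗ₜ D R _ x) i = π (pderiv i x) := by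
    intro x i
    rw [Module.Basis.equivFun_apply]
    simp [bS, bΩ, Algebra.smul_def]
    rfl
  let p : (σ → S) →ₗ[S] Ω[S⁄R] := (mapBaseChange R (MvPolynomial σ R) S) ∘ₗ bS.equivFun.symm.toLinearMap
  have hp : Function.Surjective p :=
    (mapBaseChange_surjective R (MvPolynomial σ R) S hπ).comp bS.equivFun.symm.surjective
  have hpM : ∀ c, p (Mt c) = 0 := by
    intro c
    have : Mt c = ∑ t, c t • bS.equivFun ((1 : S) ⊗ₜ D R _ (G t)) := by
      funext i
      simp only [Mt, LinearMap.pi_apply, LinearMap.sum_apply, LinearMap.smul_apply, LinearMap.proj_apply, Finset.sum_apply,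
        Pi.smul_apply, smul_eq_mul, hrepr]
      exact Finset.sum_congr rfl fun t _ => mul_comm _ _
    rw [this, map_sum]
    refine Finset.sum_eq_zero fun t _ => ?_
    rw [map_smul, LinearMap.comp_apply, LinearEquiv.coe_coe, LinearEquiv.symm_apply_apply,
      mapBaseChange_tmul, map_D]
    rw [show algebraMap (MvPolynomial σ R) S (G t) = 0 from hG t, map_zero, smul_zero, smul_zero]
  have hker : ∀ v, p v = 0 → ∃ c, Mt c = v := by
    intro v hv
    obtain ⟨x, hx⟩ := ((exact_kerCotangentToTensor_mapBaseChange R (MvPolynomial σ R) S hπ)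
      (bS.equivFun.symm v)).mp hv
    obtain ⟨⟨y, hy⟩, rfl⟩ := J.toCotangent_surjective x
    rw [kerCotangentToTensor_toCotangent] at hx
    obtain ⟨y', hy', z, hz, hyz⟩ := Submodule.mem_sup.mp (hJ hy)
    obtain ⟨a, ha⟩ := (Ideal.mem_span_range_iff_exists_fun).mp hy'
    refine ⟨fun t => π (a t), ?_⟩
    have hzd : ∀ i, π (pderiv i z) = 0 := by
      intro i
      rw [pow_two] at hz
      refine Submodule.mul_induction_on hz (fun p hp q hq => ?_) (fun p q hp hq => by rw [map_add, map_add, hp, hq, add_zero])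
      rw [(pderiv i).leibniz]
      simp [map_add, map_mul, show π p = 0 from hp, show π q = 0 from hq]
    have hv' : v = bS.equivFun ((1 : S) ⊗ₜ D R _ y) := by rw [hx, LinearEquiv.apply_symm_apply]
    funext i
    rw [hv', hrepr, ← hyz, ← ha, map_add, map_add, hzd, add_zero, map_sum, map_sum]
    simp only [Mt, LinearMap.pi_apply, LinearMap.sum_apply, LinearMap.smul_apply, LinearMap.proj_apply, smul_eq_mul]
    refine Finset.sum_congr rfl fun t _ => ?_
    rw [(pderiv i).leibniz]
    simp [map_add, map_mul, hG t, mul_comm]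
  refine ⟨(LinearEquiv.ofBijective (p.prod Nt) ⟨?_, ?_⟩).symm⟩
  · rw [injective_iff_map_eq_zero]
    intro v hv
    obtain ⟨h1, h2⟩ : p v = 0 ∧ Nt v = 0 := Prod.mk_eq_zero.mp hv
    obtain ⟨c, rfl⟩ := hker v h1
    rw [hNM] at h2
    rw [h2, map_zero]
  · rintro ⟨w, c⟩
    obtain ⟨v, rfl⟩ := hp w
    refine ⟨v + Mt (c - Nt v), Prod.ext ?_ ?_⟩
    · show p (v + Mt (c - Nt v)) = p v
      rw [map_add, hpM, add_zero]
    · show Nt (v + Mt (c - Nt v)) = c
      rw [map_add, hNM, add_sub_cancel]

end Groth.L14.Smoothing
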